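import Cfsg.Agent.Lib.Fus.OddCentral.Basic

/-! Alternating groups of degree at least six: central involutions of Sylow 2-subgroups are products
of squares. -/

set_option autoImplicit false

namespace Cfsg.Agent.OddCentral

open Equiv Subgroup

/-- The turning element of a block of four points. -/
def rot4 : Perm (Fin 4) := finRotate 4

/-- Its square. -/
def cc4 : Perm (Fin 4) := swap 0 2 * swap 1 3

/-- The other double transposition. -/
def ee4 : Perm (Fin 4) := swap 0 1 * swap 2 3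

/-- A transposition centralising `cc4`. -/
def ss4 : Perm (Fin 4) := swap 0 2

theorem four_facts :
    rot4 * rot4 = cc4 ∧ Perm.sign rot4 = -1 ∧ Perm.sign cc4 = 1 ∧ Perm.sign ee4 = 1 ∧
      Perm.sign ss4 = -1 ∧ ss4 * ss4 = 1 ∧ cc4 * cc4 = 1 ∧ rot4 * cc4 = cc4 * rot4 ∧
      ee4 * cc4 = cc4 * ee4 ∧ ss4 * cc4 = cc4 * ss4 ∧ (∀ b, cc4 b ≠ b) := by decide

set_option maxRecDepth 20000 in
theorem four_cent : ∀ g : Perm (Fin 4), g * rot4 = rot4 * g → g * ee4 = ee4 * g → g = 1 ∨ g = cc4 := by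
  decide

/-- The Sylow subgroup of a block. -/
def d8 : Subgroup (Perm (Fin 4)) := Subgroup.centralizer {cc4}

theorem mem_d8 {g : Perm (Fin 4)} : g ∈ d8 ↔ g * cc4 = cc4 * g :=
  Subgroup.mem_centralizer_singleton_iff

set_option maxRecDepth 20000 in
theorem isPGroup_d8 : IsPGroup 2 d8 := by
  have h : ∀ g : Perm (Fin 4), g * cc4 = cc4 * g → (g * g) * (g * g) = 1 := by decide
  rintro ⟨g, hg⟩
  refine ⟨2, Subtype.ext ?_⟩
  show g ^ 4 = 1
  have := h g (mem_d8.1 hg)
  simpa [pow_succ, mul_assoc] using this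

set_option maxRecDepth 20000 in
theorem small_even_invol : ∀ r ≤ 3, ∀ h : Perm (Fin r), h * h = 1 → Perm.sign h = 1 → h = 1 := by
  decide

variable {k r : ℕ}

/-- Blocks of four and a rest. -/
abbrev AltPts (k r : ℕ) := (Fin k × Fin 4) ⊕ Fin r

/-- Permutations respecting the blocks. -/
def blockPerm : (Fin k → Perm (Fin 4)) × Perm (Fin r) →* Perm (AltPts k r) where
  toFun p := Perm.sumCongr (prodCongrRight p.1) p.2
  map_one' := by ext (⟨i, b⟩ | s) <;> simp
  map_mul' p q := by ext (⟨i, b⟩ | s) <;> simp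

theorem sign_blockPerm (p : (Fin k → Perm (Fin 4)) × Perm (Fin r)) :
    Perm.sign (blockPerm p) = (∏ i, Perm.sign (p.1 i)) * Perm.sign p.2 := by
  show Perm.sign (Perm.sumCongr (prodCongrRight p.1) p.2) = _
  rw [Perm.sign_sumCongr, Perm.sign_prodCongrRight]

theorem sign_blockPerm_single (i : Fin k) (a : Perm (Fin 4)) (s : Perm (Fin r)) :
    Perm.sign (blockPerm (Pi.mulSingle i a, s)) = Perm.sign a * Perm.sign s := by
  rw [sign_blockPerm]
  congr 1
  rw [Finset.prod_eq_single i (fun j _ hj => by simp [Pi.mulSingle_eq_of_ne hj]) (by simp)]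
  simp

theorem good_altPts (hk : 1 ≤ k) (hr : r ≤ 3) (hbig : 2 ≤ k ∨ 2 ≤ r) :
    Good (alternatingGroup (AltPts k r)) := by
  classical
  obtain ⟨hrr, hr4, hc, he, hs, hss, hcc, hrc, hec, hsc, hfree⟩ := four_facts
  obtain ⟨sR, hsR2, hsR⟩ : ∃ sR : Perm (Fin r), sR * sR = 1 ∧ (2 ≤ r → Perm.sign sR = -1) := by
    by_cases h : 2 ≤ r
    · exact ⟨swap ⟨0, by omega⟩ ⟨1, h⟩, swap_mul_self _ _, fun _ => Perm.sign_swap (by simp)⟩
    · exact ⟨1, one_mul 1, fun h' => absurd h' h⟩
  let D : Subgroup ((Fin k → Perm (Fin 4)) × Perm (Fin r)) :=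
    (Subgroup.pi Set.univ fun _ => d8).prod (Subgroup.zpowers sR)
  have hD : IsPGroup 2 D := by
    have h1 : IsPGroup 2 (Subgroup.zpowers sR) := by
      rintro ⟨_, j, rfl⟩
      refine ⟨1, Subtype.ext ?_⟩
      show (sR ^ j) ^ (2 ^ 1 : ℕ) = 1
      rw [pow_one, ← zpow_natCast, ← _root_.zpow_mul, mul_comm, _root_.zpow_mul, zpow_natCast,
        pow_two, hsR2, _root_.one_zpow]
    intro x
    choose n hn using fun i => isPGroup_d8 ⟨x.1.1 i, x.2.1 i (Set.mem_univ i)⟩
    obtain ⟨j, hj⟩ := h1 ⟨x.1.2, x.2.2⟩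
    refine ⟨Finset.univ.sum n + j, Subtype.ext (Prod.ext (funext fun i => ?_) ?_)⟩
    · have h' : x.1.1 i ^ 2 ^ n i = 1 := congrArg Subtype.val (hn i)
      obtain ⟨c, hc'⟩ := pow_dvd_pow 2 ((Finset.single_le_sum (fun j _ => Nat.zero_le (n j))
        (Finset.mem_univ i)).trans (Nat.le_add_right _ j))
      show x.1.1 i ^ _ = 1
      rw [hc', pow_mul, h', one_pow]
    · have h' : x.1.2 ^ 2 ^ j = 1 := congrArg Subtype.val hj
      show x.1.2 ^ _ = 1
      rw [pow_add, mul_comm, pow_mul, h', one_pow]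
  let Q₀ : Subgroup (alternatingGroup (AltPts k r)) :=
    (D.map blockPerm).comap (alternatingGroup (AltPts k r)).subtype
  have hQ₀ : IsPGroup 2 Q₀ := (hD.map _).comap_of_injective _ Subtype.val_injective
  -- the odd companion of a block
  have hcomp : ∀ i : Fin k, ∃ p ∈ D, Perm.sign (blockPerm p) = -1 ∧ p.1 i = 1 ∧ p * p = 1 := by
    intro i
    by_cases h2 : 2 ≤ k
    · obtain ⟨j, hj⟩ := Fintype.exists_ne_of_one_lt_card (by rw [Fintype.card_fin]; omega) i
      refine ⟨(Pi.mulSingle j ss4, 1), ⟨fun l _ => ?_, one_mem _⟩, ?_, Pi.mulSingle_eq_of_ne hj.symm _, ?_⟩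
      · show (Pi.mulSingle j ss4 : Fin k → Perm (Fin 4)) l ∈ d8
        by_cases hl : l = j
        · subst hl; rw [Pi.mulSingle_eq_same]; exact mem_d8.2 hsc
        · rw [Pi.mulSingle_eq_of_ne hl]; exact one_mem _
      · rw [sign_blockPerm_single, hs, map_one, mul_one]
      · rw [Prod.mk_mul_mk, ← Pi.mulSingle_mul, hss, Pi.mulSingle_one, one_mul]; rfl
    · refine ⟨(1, sR), ⟨fun l _ => (one_mem d8 : (1 : Perm (Fin 4)) ∈ d8), Subgroup.mem_zpowers _⟩, ?_, rfl, ?_⟩
      · rw [← Pi.mulSingle_one i, sign_blockPerm_single, map_one, one_mul,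
          hsR (hbig.resolve_left h2)]
      · rw [Prod.mk_mul_mk, one_mul, hsR2]; rfl
  -- elements of the 2-group
  have single_mem : ∀ (i : Fin k) (a : Perm (Fin 4)), a ∈ d8 →
      ((Pi.mulSingle i a, 1) : (Fin k → Perm (Fin 4)) × Perm (Fin r)) ∈ D := by
    intro i a ha
    refine ⟨fun l _ => ?_, one_mem _⟩
    show (Pi.mulSingle i a : Fin k → Perm (Fin 4)) l ∈ d8
    by_cases hl : l = i
    · subst hl; rw [Pi.mulSingle_eq_same]; exact ha
    · rw [Pi.mulSingle_eq_of_ne hl]; exact one_mem _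
  refine good_of_witness Q₀ hQ₀ fun z hz hzc => ?_
  have hzp : ∀ p ∈ D, Perm.sign (blockPerm p) = 1 → ∀ x, blockPerm p (z.1 x) = z.1 (blockPerm p x) := by
    intro p hp hps x
    have := hzc ⟨blockPerm p, hps⟩ ⟨p, hp, rfl⟩
    exact congrArg (fun w : alternatingGroup (AltPts k r) => w.1 x) this
  have hzz : ∀ x, z.1 (z.1 x) = x := fun x =>
    congrArg (fun w : alternatingGroup (AltPts k r) => w.1 x) hz
  have hblock : ∀ (i : Fin k) (b : Fin 4), ∃ b', z.1 (Sum.inl (i, b)) = Sum.inl (i, b') := by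
    intro i b
    have h1 := hzp _ (single_mem i cc4 (mem_d8.2 rfl))
      (by rw [sign_blockPerm_single, hc, map_one, one_mul]) (Sum.inl (i, b))
    have hne : blockPerm (Pi.mulSingle i cc4, (1 : Perm (Fin r))) (z.1 (Sum.inl (i, b))) ≠ z.1 (Sum.inl (i, b)) := by
      rw [h1, z.1.injective.ne_iff]
      simp [blockPerm, hfree b]
    generalize z.1 (Sum.inl (i, b)) = w at hne ⊢
    rcases w with ⟨j, b'⟩ | s
    · by_cases hj : j = i
      · exact ⟨b', by rw [hj]⟩
      · simp [blockPerm, hj] at hne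
    · simp [blockPerm] at hne
  choose g hg using hblock
  have hgg : ∀ i b, g i (g i b) = b := by
    intro i b
    have := hzz (Sum.inl (i, b))
    rw [hg, hg] at this
    simpa using this
  let G₀ : Fin k → Perm (Fin 4) := fun i => ⟨g i, g i, hgg i, hgg i⟩
  have hrest : ∀ s, ∃ s', z.1 (Sum.inr s) = Sum.inr s' := by
    intro s
    rcases hw : z.1 (Sum.inr s) with ⟨i, b⟩ | s'
    · have := hzz (Sum.inr s)
      rw [hw, hg] at this
      simp at this
    · exact ⟨s', rfl⟩
  choose hh hhs using hrest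
  have hhh : ∀ s, hh (hh s) = s := by
    intro s
    have := hzz (Sum.inr s)
    rw [hhs, hhs] at this
    simpa using this
  let H₀ : Perm (Fin r) := ⟨hh, hh, hhh, hhh⟩
  have hzv : z.1 = blockPerm (G₀, H₀) := by
    ext (⟨i, b⟩ | s)
    · rw [hg]; simp [blockPerm, G₀]
    · rw [hhs]; simp [blockPerm, H₀]
  have hcase : ∀ i, G₀ i = 1 ∨ G₀ i = cc4 := by
    intro i
    refine four_cent _ ?_ ?_
    · obtain ⟨p, hp, hps, hpi, -⟩ := hcomp i
      have h1 := fun b => hzp _ (mul_mem (single_mem i rot4 (mem_d8.2 hrc)) hp)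
        (by rw [map_mul, map_mul, sign_blockPerm_single, hr4, map_one, hps]; rfl) (Sum.inl (i, b))
      refine Equiv.ext fun b => ?_
      have := (h1 b)
      rw [hg] at this
      simp [blockPerm, hpi, hg] at this
      exact this.symm
    · have h1 := fun b => hzp _ (single_mem i ee4 (mem_d8.2 hec))
        (by rw [sign_blockPerm_single, he, map_one, one_mul]) (Sum.inl (i, b))
      refine Equiv.ext fun b => ?_
      have := (h1 b)
      rw [hg] at this
      simp [blockPerm, hg] at this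
      exact this.symm
  have hH₀ : H₀ = 1 := by
    refine small_even_invol r hr H₀ (Equiv.ext hhh) ?_
    have h1 : Perm.sign z.1 = 1 := z.2
    rw [hzv, sign_blockPerm, Finset.prod_eq_one fun i _ => by
      rcases hcase i with e | e <;> rw [show (G₀, H₀).1 i = G₀ i from rfl, e] <;> simp [hc], one_mul] at h1
    exact h1
  refine ⟨Q₀, hQ₀, hzc, ?_⟩
  -- `z` is a product of squares
  let T : Subgroup ((Fin k → Perm (Fin 4)) × Perm (Fin r)) :=
    ((sqGen Q₀).map (alternatingGroup (AltPts k r)).subtype).comap blockPerm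
  have hT : ∀ i, (Pi.mulSingle i cc4, (1 : Perm (Fin r))) ∈ T := by
    intro i
    obtain ⟨p, hp, hps, hpi, hpp⟩ := hcomp i
    set d : (Fin k → Perm (Fin 4)) × Perm (Fin r) := (Pi.mulSingle i rot4, 1) * p
    have hd : d ∈ D := mul_mem (single_mem i rot4 (mem_d8.2 hrc)) hp
    have hds : Perm.sign (blockPerm d) = 1 := by
      rw [map_mul, map_mul, sign_blockPerm_single, hr4, map_one, hps]; rfl
    have hdd : d * d = (Pi.mulSingle i cc4, 1) := by
      have hcm : ((Pi.mulSingle i rot4, 1) : (Fin k → Perm (Fin 4)) × Perm (Fin r)) * p =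
          p * (Pi.mulSingle i rot4, 1) := by
        refine Prod.ext (funext fun l => ?_) ((one_mul _).trans (mul_one _).symm)
        by_cases hl : l = i
        · subst hl; simp [hpi]
        · simp [Pi.mulSingle_eq_of_ne hl]
      calc d * d = (Pi.mulSingle i rot4, 1) * ((p * (Pi.mulSingle i rot4, 1)) * p) := by
            simp only [d, mul_assoc]
        _ = ((Pi.mulSingle i rot4, 1) * (Pi.mulSingle i rot4, 1)) * (p * p) := by
            rw [← hcm]; simp only [mul_assoc]
        _ = _ := by rw [hpp, mul_one, Prod.mk_mul_mk, ← Pi.mulSingle_mul, hrr, one_mul]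
    refine ⟨(⟨blockPerm d, hds⟩ : alternatingGroup (AltPts k r)) * ⟨blockPerm d, hds⟩,
      mul_self_mem_sqGen (show (⟨blockPerm d, hds⟩ : alternatingGroup (AltPts k r)) ∈ Q₀ from ⟨d, hd, rfl⟩), ?_⟩
    show blockPerm d * blockPerm d = _
    rw [← map_mul, hdd]
  have hGT : ((G₀, H₀) : (Fin k → Perm (Fin 4)) × Perm (Fin r)) ∈ T := by
    rw [hH₀]
    have : G₀ ∈ T.comap (MonoidHom.inl (Fin k → Perm (Fin 4)) (Perm (Fin r))) := by
      refine Subgroup.pi_mem_of_mulSingle_mem _ fun i => ?_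
      rcases hcase i with e | e <;> rw [e]
      · rw [Pi.mulSingle_one]; exact one_mem _
      · exact hT i
    exact this
  obtain ⟨w, hw, hwv⟩ := hGT
  have : w = z := Subtype.ext (hwv.trans hzv.symm)
  exact this ▸ hw

/-- Alternating groups of degree at least six. -/
theorem good_alternating {n : ℕ} (hn : 6 ≤ n) : Good (alternatingGroup (Fin n)) := by
  refine (good_altPts (k := n / 4) (r := n % 4) (by omega) (by omega) ?_).congr
    (Equiv.altCongrHom (Fintype.equivFinOfCardEq (show Fintype.card (AltPts (n / 4) (n % 4)) = n by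
      simp; omega)).symm)
  omega

end Cfsg.Agent.OddCentral
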