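import Mathlib
import Cfsg.Prelude.Def_TwoFusion
import Cfsg.Agent.Lib.Invol.Transfer2

/-!
# 2-central involutions with centraliser `⟨t⟩ × F`

If every central involution of a Sylow 2-subgroup `Q` of `F` lies in the subgroup generated by the
squares of `Q`, then the transfer of `t` into `S / (S ⊓ F)` is nontrivial.
-/

set_option autoImplicit false

namespace Cfsg.Agent.OddCentral

open Subgroup

section Squares

variable {G H : Type*} [Group G] [Group H]

/-- The subgroup generated by the squares of `Q`. -/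
def sqGen (Q : Subgroup G) : Subgroup G :=
  Subgroup.closure {y | ∃ x ∈ Q, y = x * x}

theorem mul_self_mem_sqGen {Q : Subgroup G} {x : G} (hx : x ∈ Q) : x * x ∈ sqGen Q :=
  Subgroup.subset_closure ⟨x, hx, rfl⟩

theorem sqGen_mono {P Q : Subgroup G} (h : P ≤ Q) : sqGen P ≤ sqGen Q :=
  Subgroup.closure_mono fun _ ⟨x, hx, e⟩ => ⟨x, h hx, e⟩

theorem sqGen_le (Q : Subgroup G) : sqGen Q ≤ Q :=
  (Subgroup.closure_le _).2 fun _ ⟨x, hx, e⟩ => e ▸ mul_mem hx hx

theorem map_mem_sqGen {f : G →* H} {P : Subgroup G} {Q : Subgroup H}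
    (h : ∀ x ∈ P, f x ∈ Q) {z : G} (hz : z ∈ sqGen P) : f z ∈ sqGen Q := by
  have : sqGen P ≤ (sqGen Q).comap f := by
    refine (Subgroup.closure_le _).2 ?_
    rintro _ ⟨x, hx, rfl⟩
    rw [SetLike.mem_coe, Subgroup.mem_comap, map_mul]
    exact mul_self_mem_sqGen (h x hx)
  exact this hz

/-- Every central involution of a Sylow 2-subgroup is in the subgroup of its squares. -/
def Good (F : Type*) [Group F] : Prop :=
  ∀ Q : Sylow 2 F, ∀ z ∈ (Q : Subgroup F), z * z = 1 → (∀ q ∈ (Q : Subgroup F), q * z = z * q) →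
    z ∈ sqGen (Q : Subgroup F)

theorem Good.congr (hG : Good G) (e : H ≃* G) : Good H := by
  intro Q z hz hz2 hzc
  let Q' : Sylow 2 G := Q.comapOfInjective e.symm.toMonoidHom e.symm.injective
    (by intro x _; exact MonoidHom.mem_range.2 ⟨e x, e.symm_apply_apply x⟩)
  have hmem : ∀ x : G, x ∈ (Q' : Subgroup G) ↔ e.symm x ∈ (Q : Subgroup H) := fun x => Iff.rfl
  have h1 : e z ∈ (Q' : Subgroup G) := (hmem _).2 (by simpa using hz)
  have h2 := hG Q' (e z) h1 (by rw [← map_mul, hz2, map_one]) (fun q hq => by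
    have := congrArg e (hzc _ ((hmem q).1 hq))
    simpa using this)
  have := map_mem_sqGen (f := e.symm.toMonoidHom) (Q := (Q : Subgroup H))
    (fun x hx => (hmem x).1 hx) h2
  simpa using this

variable [Finite G]

/-- A witness: a 2-subgroup `Q₀` such that every involution centralising it is in the squares of
some 2-subgroup centralising it. -/
theorem good_of_witness (Q₀ : Subgroup G) (h₀ : IsPGroup 2 Q₀)
    (h : ∀ z : G, z * z = 1 → (∀ q ∈ Q₀, q * z = z * q) →
      ∃ P : Subgroup G, IsPGroup 2 P ∧ (∀ p ∈ P, p * z = z * p) ∧ z ∈ sqGen P) : Good G := by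
  haveI : Fact (Nat.Prime 2) := ⟨Nat.prime_two⟩
  intro Q z hz hz2 hzc
  obtain ⟨g, hg⟩ := Invol.exists_conj_subset_sylow h₀ Q
  set w := g⁻¹ * z * g with hw
  have hw2 : w * w = 1 := by
    rw [hw, show g⁻¹ * z * g * (g⁻¹ * z * g) = g⁻¹ * (z * z) * g by group, hz2]
    group
  obtain ⟨P, hP, hPc, hPz⟩ := h w hw2 (fun q hq => by
    have e := hzc _ (hg q hq)
    calc q * w = g⁻¹ * (g * q * g⁻¹ * z) * g := by rw [hw]; group
      _ = g⁻¹ * (z * (g * q * g⁻¹)) * g := by rw [e]
      _ = w * q := by rw [hw]; group)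
  -- move `P` into `Q` inside the centraliser of `z`
  let P₁ : Subgroup G := P.map (MulAut.conj g).toMonoidHom
  have hP₁ : IsPGroup 2 P₁ := hP.map _
  have hc : ∀ p ∈ P₁, p ∈ Subgroup.centralizer ({z} : Set G) := by
    rintro _ ⟨p, hp, rfl⟩
    rw [Subgroup.mem_centralizer_singleton_iff]
    show g * p * g⁻¹ * z = z * (g * p * g⁻¹)
    calc g * p * g⁻¹ * z = g * (p * w) * g⁻¹ := by rw [hw]; group
      _ = g * (w * p) * g⁻¹ := by rw [hPc p hp]
      _ = z * (g * p * g⁻¹) := by rw [hw]; group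
  set C := Subgroup.centralizer ({z} : Set G)
  have hQC : (Q : Subgroup G) ≤ C := fun q hq =>
    Subgroup.mem_centralizer_singleton_iff.2 (hzc q hq)
  let QC : Sylow 2 C := Q.subtype hQC
  obtain ⟨c, hcP⟩ := Invol.exists_conj_subset_sylow (H := P₁.subgroupOf C)
    (hP₁.of_equiv (Subgroup.subgroupOfEquivOfLe hc).symm) QC
  have hmem : ∀ x ∈ P₁, (c : G) * x * (c : G)⁻¹ ∈ (Q : Subgroup G) := fun x hx =>
    hcP ⟨x, hc x hx⟩ hx
  have hz1 : z ∈ sqGen P₁ := by
    have := map_mem_sqGen (f := (MulAut.conj g).toMonoidHom) (Q := P₁)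
      (fun x hx => Subgroup.mem_map_of_mem _ hx) hPz
    have e : (MulAut.conj g).toMonoidHom w = z := by
      simp only [MulEquiv.toMonoidHom_eq_coe, MonoidHom.coe_coe, MulAut.conj_apply, hw]
      group
    rwa [e] at this
  have := map_mem_sqGen (f := (MulAut.conj (c : G)).toMonoidHom) (Q := (Q : Subgroup G))
    (fun x hx => hmem x hx) hz1
  have e : (MulAut.conj (c : G)).toMonoidHom z = z := by
    simp only [MulEquiv.toMonoidHom_eq_coe, MonoidHom.coe_coe, MulAut.conj_apply]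
    rw [Subgroup.mem_centralizer_singleton_iff.1 c.2, mul_inv_cancel_right]
  rwa [e] at this

omit [Finite G] in
/-- A witness that is a single square root. -/
theorem witness_sq {y z : G} (hz : z * z = 1) (e : y * y = z) :
    ∃ P : Subgroup G, IsPGroup 2 P ∧ (∀ p ∈ P, p * z = z * p) ∧ z ∈ sqGen P := by
  refine ⟨Subgroup.zpowers y, ?_, ?_, e ▸ mul_self_mem_sqGen (Subgroup.mem_zpowers y)⟩
  · rintro ⟨x, k, rfl⟩
    refine ⟨2, Subtype.ext ?_⟩
    show (y ^ k) ^ (2 ^ 2 : ℕ) = 1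
    have h4 : y ^ (4 : ℕ) = 1 := by
      rw [show (4 : ℕ) = 2 * 2 from rfl, pow_mul, pow_two, pow_two, e, hz]
    rw [show (2 ^ 2 : ℕ) = 4 from rfl, ← zpow_natCast, ← zpow_mul, mul_comm, zpow_mul, zpow_natCast,
      h4, one_zpow]
  · rintro p ⟨k, rfl⟩
    exact Commute.zpow_left (by rw [← e]; exact (Commute.refl y).mul_right (Commute.refl y)) k

end Squares

/-! ### The transfer -/

section Transfer

variable {G : Type*} [Group G] [Finite G]

/-- The hypotheses on `t`, `S` and `F`. -/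
structure Setup (t : G) (S : Sylow 2 G) (F : Subgroup G) : Prop where
  ht : orderOf t = 2
  htS : t ∈ (S : Subgroup G)
  htc : ∀ s ∈ (S : Subgroup G), s * t = t * s
  hF : Cfsg.IsInternalDirectProduct (Subgroup.zpowers t) F (Subgroup.centralizer ({t} : Set G))

namespace Setup

variable {t : G} {S : Sylow 2 G} {F : Subgroup G} (h : Setup t S F)
include h

omit [Finite G] in
theorem sq : t * t = 1 := by
  rw [← pow_two, ← h.ht, pow_orderOf_eq_one]

omit [Finite G] in
theorem ne_one : t ≠ 1 := by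
  intro e
  have := h.ht
  rw [e, orderOf_one] at this
  omega

omit [Finite G] in
theorem t_notMem : t ∉ F := fun ht' =>
  h.ne_one (Subgroup.mem_bot.1 (h.hF.2.2.2.1 ▸ ⟨Subgroup.mem_zpowers t, ht'⟩))

omit [Finite G] in
theorem S_le : (S : Subgroup G) ≤ Subgroup.centralizer ({t} : Set G) := fun s hs =>
  Subgroup.mem_centralizer_singleton_iff.2 (h.htc s hs)

omit [Finite G] in
theorem commute_t {f : G} (hf : f ∈ F) : Commute t f :=
  h.hF.2.2.1 t (Subgroup.mem_zpowers t) f hf

omit [Finite G] in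
/-- An element centralising `t` is in `F` or in `tF`. -/
theorem mem_or {c : G} (hc : c ∈ Subgroup.centralizer ({t} : Set G)) : c ∈ F ∨ t * c ∈ F := by
  let X : Subgroup G :=
    { carrier := {c | (c ∈ F ∨ t * c ∈ F) ∧ Commute t c}
      one_mem' := ⟨Or.inl (one_mem F), Commute.one_right t⟩
      mul_mem' := by
        rintro a b ⟨ha, hat⟩ ⟨hb, hbt⟩
        refine ⟨?_, hat.mul_right hbt⟩
        rcases ha with ha | ha <;> rcases hb with hb | hb
        · exact Or.inl (mul_mem ha hb)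
        · refine Or.inr ?_
          rw [← mul_assoc, hat.eq, mul_assoc]
          exact mul_mem ha hb
        · exact Or.inr (by rw [← mul_assoc]; exact mul_mem ha hb)
        · refine Or.inl ?_
          have e : t * a * (t * b) = a * b := by
            rw [hat.eq, mul_assoc, ← mul_assoc t t b, h.sq, one_mul]
          exact e ▸ mul_mem ha hb
      inv_mem' := by
        rintro a ⟨ha, hat⟩
        refine ⟨?_, hat.inv_right⟩
        rcases ha with ha | ha
        · exact Or.inl (inv_mem ha)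
        · refine Or.inr ?_
          have : (t * a)⁻¹ = t * a⁻¹ := by
            rw [mul_inv_rev, inv_eq_of_mul_eq_one_right h.sq, hat.inv_right.eq]
          exact this ▸ inv_mem ha }
  have hX : Subgroup.centralizer ({t} : Set G) ≤ X := by
    rw [← h.hF.2.2.2.2, sup_le_iff]
    refine ⟨?_, fun f hf => ⟨Or.inl hf, h.commute_t hf⟩⟩
    rw [Subgroup.zpowers_le]
    exact ⟨Or.inr (by rw [h.sq]; exact one_mem F), Commute.refl t⟩
  exact (hX hc).1

omit [Finite G] in
theorem sq_mem {c : G} (hc : c ∈ Subgroup.centralizer ({t} : Set G)) : c * c ∈ F := by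
  rcases h.mem_or hc with h1 | h1
  · exact mul_mem h1 h1
  · have hct : Commute t c := (Subgroup.mem_centralizer_singleton_iff.1 hc).symm
    have e : t * c * (t * c) = c * c := by
      rw [mul_assoc, ← mul_assoc c t c, ← hct.eq, mul_assoc t c c, ← mul_assoc, h.sq, one_mul]
    exact e ▸ mul_mem h1 h1

omit [Finite G] in
theorem sqGen_le_F : sqGen (S : Subgroup G) ≤ F :=
  (Subgroup.closure_le _).2 fun _ ⟨_, hx, e⟩ => e ▸ h.sq_mem (h.S_le hx)

/-- Either there is the subgroup of index 2, or evenly many cosets fixed by `S` move `t` out of `F`. -/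
theorem index_two_or_even :
    (∃ H : Subgroup G, H.index = 2 ∧ t ∉ H) ∨
      Even (Nat.card {q : G ⧸ (S : Subgroup G) //
        (∃ x : G, QuotientGroup.mk x = q ∧ x⁻¹ * t * x ∈ (S : Subgroup G) ∧ x⁻¹ * t * x ∉ F) ∧
          ∀ s ∈ (S : Subgroup G), s • q = q}) := by
  classical
  haveI : Fact (Nat.Prime 2) := ⟨Nat.prime_two⟩
  set T := (S : Subgroup G) with hT
  have hidx : (F.subgroupOf T).index = 2 := by
    rw [Subgroup.index_eq_two_iff]
    refine ⟨⟨t, h.htS⟩, fun b => ?_⟩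
    rw [Subgroup.mem_subgroupOf, Subgroup.mem_subgroupOf, Subgroup.coe_mul]
    show Xor ((b : G) * t ∈ F) ((b : G) ∈ F)
    rw [h.htc b b.2]
    rcases h.mem_or (h.S_le b.2) with h1 | h1
    · exact Or.inr ⟨h1, fun h2 => h.t_notMem (by simpa using mul_mem h2 (inv_mem h1))⟩
    · exact Or.inl ⟨h1, fun h2 => h.t_notMem (by simpa using mul_mem h1 (inv_mem h2))⟩
  haveI : (F.subgroupOf T).Normal := Subgroup.normal_of_index_eq_two hidx
  let ψ : T →* T ⧸ F.subgroupOf T := QuotientGroup.mk' _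
  have hQ2 : Nat.card (T ⧸ F.subgroupOf T) = 2 := hidx
  haveI := isCyclic_of_prime_card hQ2
  letI : CommGroup (T ⧸ F.subgroupOf T) := IsCyclic.commGroup
  let V : G →* T ⧸ F.subgroupOf T := MonoidHom.transfer ψ
  by_cases htr : V t = 1
  swap
  · left
    have hr : V.range = ⊤ := by
      rcases (Nat.dvd_prime Nat.prime_two).mp (hQ2 ▸ Subgroup.card_subgroup_dvd_card V.range)
        with e | e
      · exfalso
        rw [Subgroup.card_eq_one] at e
        exact htr (Subgroup.mem_bot.mp (e ▸ ⟨t, rfl⟩))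
      · exact Subgroup.eq_top_of_card_eq _ (e.trans hQ2.symm)
    exact ⟨V.ker, by rw [Subgroup.index_ker, hr, Subgroup.card_top, hQ2], htr⟩
  right
  have hval : ∀ (y : G) (hy : y ∈ T), (ψ ⟨y, hy⟩ ≠ 1 ↔ y ∉ F) := fun y hy => by
    rw [Ne, QuotientGroup.mk'_apply, QuotientGroup.eq_one_iff]; rfl
  obtain ⟨ι, hι⟩ : ∃ a : T ⧸ F.subgroupOf T, a ≠ 1 := ⟨ψ ⟨t, h.htS⟩, (hval t h.htS).2 h.t_notMem⟩
  have hι2 : orderOf ι = 2 := orderOf_eq_prime (by rw [← hQ2]; exact pow_card_eq_one') hι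
  have huniq : ∀ a : T ⧸ F.subgroupOf T, orderOf a = 2 → a = ι := by
    intro a ha
    obtain ⟨y, hy⟩ := (Nat.card_eq_two_iff' (1 : T ⧸ F.subgroupOf T)).1 hQ2
    exact (hy.2 a (fun e => by rw [e, orderOf_one] at ha; omega)).trans (hy.2 ι hι).symm
  have hev := Invol.even_card_of_transfer_eq_one ψ h.sq htr hι2 huniq
  set P : G ⧸ T → Prop := fun q => ∃ x : G, QuotientGroup.mk x = q ∧
    ∃ hm : x⁻¹ * t * x ∈ T, ψ ⟨_, hm⟩ ≠ 1 with hP
  have hinv : ∀ r ∈ T, ∀ q, P q → P (r • q) := by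
    rintro r hr q ⟨x, rfl, hm, hne⟩
    have e : (r * x)⁻¹ * t * (r * x) = x⁻¹ * t * x := by
      rw [mul_inv_rev, show x⁻¹ * r⁻¹ * t * (r * x) = x⁻¹ * (r⁻¹ * (t * r)) * x by group,
        ← h.htc r hr, inv_mul_cancel_left]
    refine ⟨r * x, by rw [MulAction.Quotient.smul_mk, smul_eq_mul], e ▸ hm, ?_⟩
    exact (hval _ _).2 (by rw [e]; exact (hval _ _).1 hne)
  have h1 := Invol.card_invariant_modEq S.isPGroup' P hinv
  rw [Nat.even_iff] at hev ⊢
  rw [Nat.ModEq, hev] at h1
  rw [h1]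
  refine congrArg (· % 2) (Nat.card_congr (Equiv.subtypeEquivRight fun q => ?_))
  refine ⟨fun ⟨⟨x, e, hm, hne⟩, hfix⟩ => ⟨⟨x, e, hm, (hval _ hm).2 hne⟩, hfix⟩,
    fun ⟨⟨x, e, hm, hne⟩, hfix⟩ => ⟨⟨x, e, hm, (hval _ hm).1 hne⟩, hfix⟩⟩

/-- Oddly many cosets are fixed by `S`. -/
theorem odd_fixed :
    Odd (Nat.card {q : G ⧸ (S : Subgroup G) // True ∧ ∀ s ∈ (S : Subgroup G), s • q = q}) := by
  haveI : Fact (Nat.Prime 2) := ⟨Nat.prime_two⟩
  have h1 := Invol.card_invariant_modEq S.isPGroup' (fun _ : G ⧸ (S : Subgroup G) => True)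
    (fun _ _ _ _ => trivial)
  have hodd : Odd (Nat.card (G ⧸ (S : Subgroup G))) := by
    rw [← Subgroup.index_eq_card, Nat.odd_iff, ← Nat.two_dvd_ne_zero]
    exact S.not_dvd_index
  rw [Nat.card_congr (Equiv.subtypeUnivEquiv (fun _ => trivial))] at h1
  rw [Nat.odd_iff] at hodd ⊢
  exact Eq.trans (show _ % 2 = _ % 2 from h1.symm) hodd

omit h [Finite G] in
theorem normalizes_of_fixed [Finite G] {x : G}
    (hx : ∀ s ∈ (S : Subgroup G), s • (QuotientGroup.mk x : G ⧸ (S : Subgroup G)) = QuotientGroup.mk x) :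
    x ∈ Subgroup.normalizer ((S : Subgroup G) : Set G) := by
  have h1 : ∀ s ∈ (S : Subgroup G), x⁻¹ * s * x ∈ (S : Subgroup G) := fun s hs =>
    Invol.smul_mk_eq_iff.1 (hx s hs)
  have hle : (S : Subgroup G).map (MulAut.conj x⁻¹).toMonoidHom ≤ (S : Subgroup G) := by
    rintro _ ⟨s, hs, rfl⟩
    simpa using h1 s hs
  have heq := Subgroup.eq_of_le_of_card_ge hle
    (le_of_eq (Subgroup.card_map_of_injective (MulAut.conj x⁻¹).injective).symm)
  rw [Subgroup.mem_normalizer_iff']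
  intro s
  constructor
  · intro hs
    obtain ⟨r, hr, e⟩ : s * x ∈ (S : Subgroup G).map (MulAut.conj x⁻¹).toMonoidHom := heq.symm ▸ hs
    simp only [MulEquiv.toMonoidHom_eq_coe, MonoidHom.coe_coe, MulAut.conj_apply, inv_inv] at e
    have : x * s = r := by
      rw [eq_comm] at e
      calc x * s = x * (s * x) * x⁻¹ := by group
        _ = r := by rw [e]; group
    exact this ▸ hr
  · intro hs
    have := h1 _ hs
    simpa [mul_assoc] using this

/-- The criterion: no `N(S)`-conjugate of `t` lies in `F`. -/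
theorem exists_index_two
    (hmove : ∀ x ∈ Subgroup.normalizer ((S : Subgroup G) : Set G), x⁻¹ * t * x ∉ F) :
    ∃ H : Subgroup G, H.index = 2 ∧ t ∉ H := by
  rcases h.index_two_or_even with h1 | h1
  · exact h1
  exfalso
  have h2 := h.odd_fixed
  rw [Nat.card_congr (Equiv.subtypeEquivRight fun q => ?_)] at h1
  · exact Nat.not_odd_iff_even.2 h1 h2
  constructor
  · exact fun hq => ⟨trivial, hq.2⟩
  · rintro ⟨-, hfix⟩
    obtain ⟨x, rfl⟩ := QuotientGroup.mk_surjective q
    exact ⟨⟨x, rfl, Invol.smul_mk_eq_iff.1 (hfix t h.htS), hmove x (normalizes_of_fixed hfix)⟩, hfix⟩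

/-- The index 2 subgroup for `Good F`. -/
theorem exists_index_two_of_good (hgood : Good ↥F) :
    ∃ H : Subgroup G, H.index = 2 ∧ t ∉ H := by
  haveI : Fact (Nat.Prime 2) := ⟨Nat.prime_two⟩
  refine h.exists_index_two fun x hx hu => ?_
  set u := x⁻¹ * t * x with hudef
  have hxi : x⁻¹ ∈ Subgroup.normalizer ((S : Subgroup G) : Set G) := inv_mem hx
  have huS : u ∈ (S : Subgroup G) := by
    have := (Subgroup.mem_normalizer_iff.1 hxi t).1 h.htS
    simpa [hudef] using this
  have huc : ∀ s ∈ (S : Subgroup G), s * u = u * s := by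
    intro s hs
    have hs' : x * s * x⁻¹ ∈ (S : Subgroup G) := (Subgroup.mem_normalizer_iff.1 hx s).1 hs
    have := h.htc _ hs'
    calc s * u = x⁻¹ * (x * s * x⁻¹ * t) * x := by rw [hudef]; group
      _ = x⁻¹ * (t * (x * s * x⁻¹)) * x := by rw [this]
      _ = u * s := by rw [hudef]; group
  have hFS : IsPGroup 2 ((S : Subgroup G).subgroupOf F) := by
    intro y
    obtain ⟨k, hk⟩ := S.isPGroup' ⟨(y.1 : G), y.2⟩
    exact ⟨k, Subtype.ext (Subtype.ext (by simpa using congrArg Subtype.val hk))⟩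
  obtain ⟨Q, hQ⟩ := hFS.exists_le_sylow
  have hQS : ∀ q ∈ (Q : Subgroup ↥F), (q : G) ∈ (S : Subgroup G) := by
    -- `Q` has no more elements than `S ∩ F`
    set R : Subgroup G := (Q : Subgroup ↥F).map F.subtype
    have hR : IsPGroup 2 ↥(R ⊔ (S : Subgroup G) ⊓ F ⊔ Subgroup.zpowers t) := by
      have hRF : (S : Subgroup G) ⊓ F ≤ R := fun s hs => ⟨⟨s, hs.2⟩, hQ hs.1, rfl⟩
      rw [sup_eq_left.2 hRF]
      refine (Q.isPGroup'.map _).to_sup_of_normal_right' (IsPGroup.of_card (n := 1)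
        (by rw [Nat.card_zpowers, h.ht, pow_one])) ?_
      rintro _ ⟨q, hq, rfl⟩
      rw [Subgroup.mem_normalizer_iff]
      intro s
      have hc : Commute t (q : G) := h.commute_t q.2
      constructor
      · rintro ⟨k, rfl⟩
        exact ⟨k, by simp [(hc.zpow_left k).symm.eq]⟩
      · rintro ⟨k, hk⟩
        refine ⟨k, ?_⟩
        have : t ^ k = (q : G) * s * (q : G)⁻¹ := hk
        show t ^ k = s
        calc t ^ k = (q : G)⁻¹ * (t ^ k * q) := by rw [(hc.zpow_left k).eq, inv_mul_cancel_left]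
          _ = s := by rw [this]; group
    have hle : (S : Subgroup G) ≤ R ⊔ (S : Subgroup G) ⊓ F ⊔ Subgroup.zpowers t := by
      intro s hs
      rcases h.mem_or (h.S_le hs) with h1 | h1
      · exact Subgroup.mem_sup_left (Subgroup.mem_sup_right ⟨hs, h1⟩)
      · have : s = t * (t * s) := by rw [← mul_assoc, h.sq, one_mul]
        rw [this]
        exact mul_mem (Subgroup.mem_sup_right (Subgroup.mem_zpowers t))
          (Subgroup.mem_sup_left (Subgroup.mem_sup_right ⟨mul_mem h.htS hs, h1⟩))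
    intro q hq
    rw [← S.is_maximal' hR hle]
    exact Subgroup.mem_sup_left (Subgroup.mem_sup_left ⟨q, hq, rfl⟩)
  have hgd := hgood Q ⟨u, hu⟩ (hQ huS) (Subtype.ext (by
      show u * u = 1
      rw [hudef, show x⁻¹ * t * x * (x⁻¹ * t * x) = x⁻¹ * (t * t) * x by group, h.sq]
      group))
    (fun q hq => Subtype.ext (huc _ (hQS q hq)))
  have h3 : u ∈ sqGen (S : Subgroup G) :=
    map_mem_sqGen (f := F.subtype) (Q := (S : Subgroup G)) hQS hgd
  have h4 := map_mem_sqGen (f := (MulAut.conj x).toMonoidHom) (Q := (S : Subgroup G))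
    (fun s hs => by simpa using (Subgroup.mem_normalizer_iff.1 hx s).1 hs) h3
  have e : (MulAut.conj x).toMonoidHom u = t := by
    simp only [MulEquiv.toMonoidHom_eq_coe, MonoidHom.coe_coe, MulAut.conj_apply, hudef]
    group
  rw [e] at h4
  exact h.t_notMem (h.sqGen_le_F h4)

end Setup

end Transfer

end Cfsg.Agent.OddCentral
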