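import Cfsg.Agent.Lib.Fus.OddCentral.Basic

/-! Matrix groups containing a 2-group of block diagonal matrices whose blocks are absolutely
irreducible and square to `-1`: projective centralisers are scalar on every block. -/

set_option autoImplicit false

namespace Cfsg.Agent.OddCentral

open Matrix

/-- A finite product of `p`-groups is a `p`-group. -/
theorem isPGroup_pi {ι : Type*} [Finite ι] {p : ℕ} {G : ι → Type*} [∀ i, Group (G i)]
    (h : ∀ i, IsPGroup p (G i)) : IsPGroup p (∀ i, G i) := by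
  intro x
  classical
  haveI := Fintype.ofFinite ι
  choose k hk using fun i => h i (x i)
  refine ⟨Finset.univ.sum k, funext fun i => ?_⟩
  rw [Pi.pow_apply, Pi.one_apply]
  obtain ⟨e, he⟩ := pow_dvd_pow p (Finset.single_le_sum (fun j _ => Nat.zero_le (k j))
    (Finset.mem_univ i))
  rw [he, pow_mul, hk i, one_pow]

variable {F : Type*} [Field F] {β R : Type*} [Fintype β] [DecidableEq β] [Fintype R] [DecidableEq R]
  {m : ℕ}

/-- Block diagonal matrices. -/
def blk : (Fin m → Matrix β β F) →* Matrix ((β × Fin m) ⊕ R) ((β × Fin m) ⊕ R) F where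
  toFun M := fromBlocks (blockDiagonal M) 0 0 1
  map_one' := by rw [blockDiagonal_one, fromBlocks_one]
  map_mul' M N := by
    rw [fromBlocks_multiply, show M * N = fun i => M i * N i from rfl, blockDiagonal_mul]
    simp

theorem blk_apply (M : Fin m → Matrix β β F) :
    (blk M : Matrix ((β × Fin m) ⊕ R) ((β × Fin m) ⊕ R) F) = fromBlocks (blockDiagonal M) 0 0 1 :=
  rfl

theorem det_blk (M : Fin m → Matrix β β F) :
    (blk M : Matrix ((β × Fin m) ⊕ R) ((β × Fin m) ⊕ R) F).det = ∏ i, (M i).det := by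
  rw [blk_apply, det_fromBlocks_zero₁₂, det_blockDiagonal, det_one, mul_one]

/-- The units of block diagonal matrices. -/
def blkGL : (Fin m → GL β F) →* GL ((β × Fin m) ⊕ R) F :=
  (Units.map (blk : (Fin m → Matrix β β F) →* _)).comp MulEquiv.piUnits.symm.toMonoidHom

theorem blkGL_val (f : Fin m → GL β F) :
    (blkGL f : GL ((β × Fin m) ⊕ R) F).1 = blk fun i => (f i).1 := rfl

theorem blkGL_single (i : Fin m) (A : GL β F) :
    (blkGL (Pi.mulSingle i A) : GL ((β × Fin m) ⊕ R) F).1 = blk (Pi.mulSingle i A.1) := by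
  rw [blkGL_val]
  congr 1
  funext j
  by_cases h : j = i
  · subst h; simp
  · simp [h]

/-- Commuting with all block elements forces scalar blocks. -/
theorem scalar_blocks_of_commute {𝒜 : Set (Matrix β β F)} (h2 : (2 : F) ≠ 0)
    (hne : 𝒜.Nonempty) (hA : ∀ A ∈ 𝒜, A * A = -1)
    (hcent : ∀ M : Matrix β β F, (∀ A ∈ 𝒜, M * A = A * M) → ∃ a : F, M = a • 1)
    {x : Matrix ((β × Fin m) ⊕ R) ((β × Fin m) ⊕ R) F}
    (hx : ∀ i, ∀ A ∈ 𝒜, x * blk (Pi.mulSingle i A) = blk (Pi.mulSingle i A) * x) :
    ∃ a : Fin m → F, ∃ X : Matrix R R F,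
      x = fromBlocks (blockDiagonal fun i => a i • (1 : Matrix β β F)) 0 0 X := by
  obtain ⟨A₀, hA₀⟩ := hne
  set P : Matrix (β × Fin m) (β × Fin m) F := x.toBlocks₁₁
  set B : Matrix (β × Fin m) R F := x.toBlocks₁₂
  set C : Matrix R (β × Fin m) F := x.toBlocks₂₁
  have key : ∀ i, ∀ A ∈ 𝒜, P * blockDiagonal (Pi.mulSingle i A) = blockDiagonal (Pi.mulSingle i A) * P ∧
      B = blockDiagonal (Pi.mulSingle i A) * B ∧ C * blockDiagonal (Pi.mulSingle i A) = C := by
    intro i A hA'
    have h := hx i A hA'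
    rw [← fromBlocks_toBlocks x, blk_apply, fromBlocks_multiply, fromBlocks_multiply,
      fromBlocks_inj] at h
    obtain ⟨h1, h3, h4, -⟩ := h
    simp only [Matrix.mul_zero, Matrix.zero_mul, add_zero, zero_add, Matrix.mul_one,
      Matrix.one_mul] at h1 h3 h4
    exact ⟨h1, h3, h4⟩
  have hblock : ∀ (i : Fin m) (A : Matrix β β F) (b : β) (r : β × Fin m → F) ,
      ∑ y : β × Fin m, blockDiagonal (Pi.mulSingle i A) (b, i) y * r y = ∑ c, A b c * r (c, i) := by
    intro i A b r
    rw [Fintype.sum_prod_type]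
    refine Finset.sum_congr rfl fun c _ => ?_
    rw [Finset.sum_eq_single i]
    · simp [blockDiagonal_apply]
    · intro j _ hj; simp [blockDiagonal_apply, Ne.symm hj]
    · simp
  have hblock' : ∀ (i : Fin m) (A : Matrix β β F) (c : β) (r : β × Fin m → F) ,
      ∑ y : β × Fin m, r y * blockDiagonal (Pi.mulSingle i A) y (c, i) = ∑ b, r (b, i) * A b c := by
    intro i A c r
    rw [Fintype.sum_prod_type]
    refine Finset.sum_congr rfl fun b _ => ?_
    rw [Finset.sum_eq_single i]
    · simp [blockDiagonal_apply]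
    · intro j _ hj; simp [blockDiagonal_apply, hj]
    · simp
  -- vectors fixed by `A` vanish
  have hzero : ∀ v : β → F, A₀ *ᵥ v = v → v = 0 := by
    intro v hv
    have h : A₀ *ᵥ (A₀ *ᵥ v) = A₀ *ᵥ v := congrArg (fun w => A₀ *ᵥ w) hv
    rw [mulVec_mulVec, hA A₀ hA₀, Matrix.neg_mulVec, Matrix.one_mulVec, hv] at h
    funext b
    have := congrFun h b
    simp only [Pi.neg_apply] at this
    have : (2 : F) * v b = 0 := by linear_combination -this
    exact (mul_eq_zero.1 this).resolve_left h2
  have hzero' : ∀ v : β → F, v ᵥ* A₀ = v → v = 0 := by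
    intro v hv
    have h : v ᵥ* A₀ ᵥ* A₀ = v ᵥ* A₀ := congrArg (fun w => w ᵥ* A₀) hv
    rw [vecMul_vecMul, hA A₀ hA₀, Matrix.vecMul_neg, Matrix.vecMul_one, hv] at h
    funext b
    have := congrFun h b
    simp only [Pi.neg_apply] at this
    have : (2 : F) * v b = 0 := by linear_combination -this
    exact (mul_eq_zero.1 this).resolve_left h2
  have hB : B = 0 := by
    ext ⟨b, i⟩ r
    have h := hzero (fun b => B (b, i) r) (funext fun b => by
      have := congrFun (congrFun (key i A₀ hA₀).2.1 (b, i)) r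
      rw [mul_apply, hblock i A₀ b fun y => B y r] at this
      exact this.symm)
    exact congrFun h b
  have hC : C = 0 := by
    ext r ⟨c, i⟩
    have h := hzero' (fun c => C r (c, i)) (funext fun c => by
      have := congrFun (congrFun (key i A₀ hA₀).2.2 r) (c, i)
      rw [mul_apply, hblock' i A₀ c fun y => C r y] at this
      exact this)
    exact congrFun h c
  have hoff : ∀ (i j : Fin m) (b c : β), i ≠ j → P (b, i) (c, j) = 0 := by
    intro i j b c hij
    have h := hzero (fun b => P (b, i) (c, j)) (funext fun b => by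
      have := congrFun (congrFun (key i A₀ hA₀).1 (b, i)) (c, j)
      rw [mul_apply, mul_apply, hblock i A₀ b fun y => P y (c, j), Finset.sum_eq_single (c, j)] at this
      · simpa [blockDiagonal_apply, Pi.mulSingle_eq_of_ne (Ne.symm hij), mulVec, dotProduct] using this.symm
      · rintro ⟨c', j'⟩ - hne
        by_cases hj : j' = j
        · subst hj
          have : c' ≠ c := fun e => hne (by rw [e])
          simp [blockDiagonal_apply, Pi.mulSingle_eq_of_ne (Ne.symm hij), this]
        · simp [blockDiagonal_apply, hj]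
      · simp)
    exact congrFun h b
  have hdiag : ∀ i, ∃ a : F, (of fun b c => P (b, i) (c, i)) = a • (1 : Matrix β β F) := by
    intro i
    refine hcent _ fun A hA' => ?_
    ext b c
    have := congrFun (congrFun (key i A hA').1 (b, i)) (c, i)
    rw [mul_apply, mul_apply, hblock i A b fun y => P y (c, i),
      hblock' i A c fun y => P (b, i) y] at this
    simpa [mul_apply] using this
  choose a ha using hdiag
  refine ⟨a, x.toBlocks₂₂, ?_⟩
  have hP : P = blockDiagonal fun i => a i • (1 : Matrix β β F) := by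
    ext ⟨b, i⟩ ⟨c, j⟩
    by_cases h : i = j
    · subst h
      have := congrFun (congrFun (ha i) b) c
      rw [of_apply] at this
      rw [this, blockDiagonal_apply_eq]
    · rw [hoff i j b c h, blockDiagonal_apply_ne _ _ _ h]
  conv_lhs => rw [← fromBlocks_toBlocks x]
  rw [show x.toBlocks₁₁ = _ from hP, show x.toBlocks₁₂ = _ from hB, show x.toBlocks₂₁ = _ from hC]

/-- Commuting up to a scalar with a block element is commuting. -/
theorem commute_of_scalar {A : Matrix β β F} (h2 : (2 : F) ≠ 0) (hA : A * A = -1)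
    (hns : ∀ c : F, A ≠ c • 1) (i : Fin m) (hbig : (∃ j : Fin m, j ≠ i) ∨ Nonempty R) [Nonempty β]
    (x : GL ((β × Fin m) ⊕ R) F) {l : F}
    (hx : x.1 * blk (Pi.mulSingle i A) = l • (blk (Pi.mulSingle i A) * x.1)) :
    x.1 * blk (Pi.mulSingle i A) = blk (Pi.mulSingle i A) * x.1 := by
  set d : Matrix ((β × Fin m) ⊕ R) ((β × Fin m) ⊕ R) F := blk (Pi.mulSingle i A) with hd
  have hA3 : (A - 1) * (A * A + 1) = 0 := by simp [hA]
  have hd3 : (d - 1) * (d * d + 1) = 0 := by
    have e1 : d * d = blk (Pi.mulSingle i (A * A)) := by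
      rw [hd, ← map_mul, ← Pi.mulSingle_mul]
    rw [e1, hA]
    ext (⟨b, j⟩ | r) (⟨c, k⟩ | s)
    · rw [mul_apply]
      by_cases hji : j = i
      · subst hji
        refine Finset.sum_eq_zero fun y _ => ?_
        rcases y with ⟨e, k'⟩ | r
        · by_cases hk : k' = j
          · subst hk
            by_cases hkk : k' = k
            · subst hkk
              by_cases hec : e = c
              · subst hec; simp [blk_apply, blockDiagonal_apply]
              · simp [blk_apply, blockDiagonal_apply, hec]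
            · simp [blk_apply, blockDiagonal_apply, hkk]
          · simp [hd, blk_apply, blockDiagonal_apply, Ne.symm hk]
        · simp [blk_apply]
      · refine Finset.sum_eq_zero fun y _ => ?_
        rcases y with ⟨e, k'⟩ | r
        · by_cases hk : k' = j
          · subst hk
            by_cases hbe : b = e
            · subst hbe; simp [hd, blk_apply, blockDiagonal_apply, hji]
            · simp [hd, blk_apply, blockDiagonal_apply, hji, hbe]
          · simp [hd, blk_apply, blockDiagonal_apply, Ne.symm hk]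
        · simp [hd, blk_apply]
    · rw [mul_apply]
      refine Finset.sum_eq_zero fun y _ => ?_
      rcases y with ⟨e, k'⟩ | r <;> simp [hd, blk_apply]
    · rw [mul_apply]
      refine Finset.sum_eq_zero fun y _ => ?_
      rcases y with ⟨e, k'⟩ | r' <;> simp [hd, blk_apply]
    · rw [mul_apply]
      refine Finset.sum_eq_zero fun y _ => ?_
      rcases y with ⟨e, k'⟩ | r' <;> simp [hd, blk_apply, Matrix.one_apply]
  -- a scalar multiple of `d` has the same minimal equation
  have hconj : x.1 * d * x⁻¹.1 = l • d := by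
    rw [hx, smul_mul_assoc, mul_assoc, Units.mul_inv, mul_one]
  have hl3 : (l • d - 1) * (l • d * (l • d) + 1) = 0 := by
    rw [← hconj]
    calc (x.1 * d * x⁻¹.1 - 1) * (x.1 * d * x⁻¹.1 * (x.1 * d * x⁻¹.1) + 1)
        = x.1 * ((d - 1) * (d * d + 1)) * x⁻¹.1 := by
          simp only [mul_add, add_mul, mul_sub, sub_mul, mul_one, one_mul, ← mul_assoc,
            Units.inv_mul_cancel_right, Units.mul_inv]
      _ = 0 := by rw [hd3, mul_zero, zero_mul]
  -- a fixed vector
  obtain ⟨y, hy⟩ : ∃ y, d *ᵥ Pi.single y 1 = Pi.single y 1 := by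
    rcases hbig with ⟨j, hj⟩ | ⟨⟨r⟩⟩
    · obtain ⟨b⟩ := (inferInstance : Nonempty β)
      refine ⟨Sum.inl (b, j), ?_⟩
      ext (⟨c, k⟩ | r)
      · by_cases hk : k = j
        · subst hk
          by_cases hcb : c = b
          · subst hcb; simp [hd, blk_apply, blockDiagonal_apply, hj]
          · simp [hd, blk_apply, blockDiagonal_apply, hj, hcb]
        · simp [hd, blk_apply, blockDiagonal_apply, hk]
      · simp [hd, blk_apply]
    · refine ⟨Sum.inr r, ?_⟩
      ext (⟨c, k⟩ | r')
      · simp [hd, blk_apply]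
      · simp [hd, blk_apply, Matrix.one_apply, Pi.single_apply]
  have h1 : (l - 1) * (l * l + 1) = 0 := by
    have := congrFun (congrArg (fun M => M *ᵥ Pi.single y (1 : F)) hl3) y
    simp only [← mulVec_mulVec, sub_mulVec, add_mulVec, smul_mulVec, one_mulVec, hy,
      mulVec_smul, mulVec_add, zero_mulVec, Pi.zero_apply, Pi.sub_apply, Pi.add_apply, Pi.smul_apply,
      Pi.single_eq_same, smul_eq_mul, mul_one] at this
    linear_combination this
  rcases mul_eq_zero.1 h1 with h | h
  · rw [hx, sub_eq_zero.1 h, one_smul]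
  exfalso
  have hl0 : l ≠ 0 := fun e => by rw [e] at h; simp at h
  refine hns l⁻¹ ?_
  have hmv : ∀ b : β, d *ᵥ Pi.single (Sum.inl (b, i)) (1 : F) =
      fun y => Sum.elim (fun p : β × Fin m => if p.2 = i then A p.1 b else 0) (fun _ => 0) y := by
    intro b
    ext (⟨c, k⟩ | r)
    · by_cases hk : k = i
      · subst hk; simp [hd, blk_apply, blockDiagonal_apply]
      · simp [hd, blk_apply, blockDiagonal_apply, hk]
    · simp [hd, blk_apply]
  have hdd : ∀ b : β, (d * d) *ᵥ Pi.single (Sum.inl (b, i)) (1 : F) =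
      -Pi.single (Sum.inl (b, i)) (1 : F) := by
    intro b
    rw [hd, ← map_mul, ← Pi.mulSingle_mul, hA]
    ext (⟨c, k⟩ | r)
    · by_cases hk : k = i
      · subst hk
        by_cases hcb : c = b
        · subst hcb; simp [blk_apply, blockDiagonal_apply]
        · simp [blk_apply, blockDiagonal_apply, hcb]
      · simp [blk_apply, blockDiagonal_apply, hk]
    · simp [blk_apply]
  ext c b
  have := congrFun (congrArg (fun M => M *ᵥ Pi.single (Sum.inl (b, i)) (1 : F)) hl3) (Sum.inl (c, i))
  simp only [← mulVec_mulVec, add_mulVec, one_mulVec, smul_mul_smul_comm, smul_mulVec] at this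
  rw [mulVec_mulVec, hdd, show (l * l) • -Pi.single (Sum.inl (b, i)) (1 : F) +
    Pi.single (Sum.inl (b, i)) (1 : F) = (2 : F) • Pi.single (Sum.inl (b, i)) (1 : F) by
      rw [show l * l = -1 by linear_combination h, neg_smul, one_smul, neg_neg, two_smul],
    mulVec_smul, sub_mulVec, one_mulVec, smul_mulVec, hmv, zero_mulVec] at this
  simp only [Pi.smul_apply, Pi.sub_apply, smul_eq_mul, Pi.zero_apply, Sum.elim_inl, if_true] at this
  have := (mul_eq_zero.1 this).resolve_left h2
  rw [Matrix.smul_apply, smul_eq_mul, Matrix.one_apply]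
  rw [Pi.single_apply] at this
  by_cases hcb : c = b
  · subst hcb
    simp only [if_true] at this ⊢
    field_simp
    linear_combination this
  · rw [if_neg hcb, mul_zero]
    rw [if_neg (by simp [hcb]), sub_zero] at this
    exact (mul_eq_zero.1 this).resolve_left hl0

/-- The hypotheses on the block group. -/
structure BlockSys (β : Type*) [Fintype β] [DecidableEq β] (F : Type*) [Field F] where
  H : Subgroup (GL β F)
  isPGroup : IsPGroup 2 H
  A : Set H
  nonempty : A.Nonempty
  sq : ∀ a ∈ A, ((a : GL β F).1 * (a : GL β F).1) = -1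
  notScalar : ∀ a ∈ A, ∀ c : F, (a : GL β F).1 ≠ c • 1
  cent : ∀ M : Matrix β β F, (∀ a ∈ A, M * (a : GL β F).1 = (a : GL β F).1 * M) → ∃ c : F, M = c • 1

/-- Involutions of the central quotient centralising the blocks are scalar on blocks, up to the
centre. -/
theorem exists_lift_scalar {G : Type*} [Group G] (S : BlockSys β F) [Nonempty β]
    (h2 : (2 : F) ≠ 0) (hbig : 2 ≤ m ∨ Nonempty R) (ρ : G →* GL ((β × Fin m) ⊕ R) F)
    (hZ : ∀ z ∈ Subgroup.center G, ∃ c : F, (ρ z).1 = c • 1)
    (hblk : ∀ f : Fin m → S.H, blkGL (fun i => (f i : GL β F)) ∈ ρ.range)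
    {z : G ⧸ Subgroup.center G} (hz : z * z = 1)
    (hc : ∀ f : Fin m → S.H, ∀ g : G, ρ g = blkGL (fun i => (f i : GL β F)) →
      Commute z (QuotientGroup.mk g)) :
    ∃ x : G, (QuotientGroup.mk x : G ⧸ Subgroup.center G) = z ∧ ∃ μ : F, ∃ a : Fin m → F,
      ∃ X : Matrix R R F, (ρ x).1 = fromBlocks (blockDiagonal fun i => a i • (1 : Matrix β β F)) 0 0 X ∧
        (ρ x).1 * (ρ x).1 = μ • 1 := by
  obtain ⟨x, rfl⟩ := QuotientGroup.mk_surjective z
  obtain ⟨μ, hμ⟩ := hZ _ ((QuotientGroup.eq_one_iff (x * x)).1 hz)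
  rw [map_mul, Units.val_mul] at hμ
  have hcom : ∀ i, ∀ a ∈ S.A,
      (ρ x).1 * blk (Pi.mulSingle i ((a : GL β F).1)) = blk (Pi.mulSingle i ((a : GL β F).1)) * (ρ x).1 := by
    intro i a ha
    obtain ⟨g, hg⟩ := hblk (Pi.mulSingle i a)
    have hcg : (QuotientGroup.mk (x * g) : G ⧸ Subgroup.center G) = QuotientGroup.mk (g * x) :=
      hc _ g hg
    obtain ⟨l, hl⟩ := hZ _ (QuotientGroup.eq.1 hcg.symm)
    have hl' : (ρ (x * g)).1 = (ρ (g * x)).1 * (l • 1) := by
      rw [← hl, ← Units.val_mul, ← map_mul, mul_inv_cancel_left]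
    rw [map_mul, map_mul, Units.val_mul, Units.val_mul, Matrix.mul_smul, mul_one] at hl'
    have hgv : (ρ g).1 = blk (Pi.mulSingle i ((a : GL β F).1)) := by
      rw [hg, ← blkGL_single]
      congr 2
      funext j
      by_cases h : j = i
      · subst h; simp
      · simp [h]
    rw [hgv] at hl'
    refine commute_of_scalar h2 (S.sq a ha) (S.notScalar a ha) i ?_ (ρ x) hl'
    rcases hbig with h | h
    · obtain ⟨j, hj⟩ := Fintype.exists_ne_of_one_lt_card (by rw [Fintype.card_fin]; omega) i
      exact Or.inl ⟨j, hj⟩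
    · exact Or.inr h
  obtain ⟨a, X, hX⟩ := scalar_blocks_of_commute (𝒜 := (fun a : S.H => (a : GL β F).1) '' S.A) h2
    (S.nonempty.image _) (by rintro _ ⟨a, ha, rfl⟩; exact S.sq a ha)
    (fun M hM => S.cent M fun a ha => hM _ ⟨a, ha, rfl⟩) (x := (ρ x).1)
    (fun i A hA => by obtain ⟨a, ha, rfl⟩ := hA; exact hcom i a ha)
  exact ⟨x, rfl, μ, a, X, hX, hμ⟩

/-- The 2-group of blocks in the central quotient. -/
theorem isPGroup_blocks {G : Type*} [Group G] (S : BlockSys β F) (ρ : G →* GL ((β × Fin m) ⊕ R) F)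
    (hρ : Function.Injective ρ) :
    IsPGroup 2 ↥((((blkGL.comp
      ((S.H.subtype).compLeft (Fin m))).range).comap ρ).map
        (QuotientGroup.mk' (Subgroup.center G))) := by
  refine IsPGroup.map ?_ _
  refine IsPGroup.comap_of_injective ?_ ρ hρ
  exact IsPGroup.of_surjective (isPGroup_pi fun _ : Fin m => S.isPGroup) _
    (MonoidHom.rangeRestrict_surjective _)

/-- At most one coordinate outside the blocks: every central involution is a square. -/
theorem good_of_blocks {G : Type*} [Group G] [Finite G] (S : BlockSys β F) [Nonempty β]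
    [Subsingleton R] (h2 : (2 : F) ≠ 0) (hm : 1 ≤ m) (hbig : 2 ≤ m ∨ Nonempty R)
    (ρ : G →* GL ((β × Fin m) ⊕ R) F) (hρ : Function.Injective ρ)
    (hZ : ∀ z ∈ Subgroup.center G, ∃ c : F, (ρ z).1 = c • 1)
    (hblk : ∀ f : Fin m → S.H, blkGL (fun i => (f i : GL β F)) ∈ ρ.range) :
    Good (G ⧸ Subgroup.center G) := by
  classical
  refine good_of_witness _ (isPGroup_blocks S ρ hρ) fun z hz hzc => ?_
  obtain ⟨x, rfl, μ, a, X, hX, hμ⟩ := exists_lift_scalar S h2 hbig ρ hZ hblk hz fun f g hg => by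
    refine (Commute.symm (show Commute _ z from hzc _ ⟨g, ?_, rfl⟩))
    show ρ g ∈ (blkGL.comp ((S.H.subtype).compLeft (Fin m))).range
    exact ⟨f, hg.symm⟩
  have hsq : ∀ i, a i * a i = μ ∧ ∀ r, X r r * X r r = μ := by
    intro i
    obtain ⟨b⟩ := (inferInstance : Nonempty β)
    have h := hμ
    rw [hX, fromBlocks_multiply, ← fromBlocks_one, fromBlocks_smul, fromBlocks_inj] at h
    obtain ⟨h1, -, -, h4⟩ := h
    simp only [Matrix.mul_zero, add_zero, zero_add] at h1 h4
    rw [← blockDiagonal_mul] at h1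
    refine ⟨?_, fun r => ?_⟩
    · have := congrFun (congrFun h1 (b, i)) (b, i)
      simpa [blockDiagonal_apply] using this
    · have := congrFun (congrFun h4 r) r
      rw [mul_apply, Finset.sum_eq_single r (fun s _ hs => absurd (Subsingleton.elim s r) hs)
        (by simp)] at this
      simpa using this
  obtain ⟨c₀, hc₀, hcR⟩ : ∃ c₀ : F, (∀ i, a i = c₀ ∨ a i = -c₀) ∧ ∀ r, X r r = c₀ := by
    by_cases hR : Nonempty R
    · obtain ⟨r⟩ := hR
      refine ⟨X r r, fun i => ?_, fun s => by rw [Subsingleton.elim s r]⟩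
      rw [← mul_self_eq_mul_self_iff]
      exact (hsq i).1.trans ((hsq i).2 r).symm
    · refine ⟨a ⟨0, hm⟩, fun i => ?_, fun s => absurd ⟨s⟩ hR⟩
      rw [← mul_self_eq_mul_self_iff]
      exact (hsq i).1.trans (hsq ⟨0, hm⟩).1.symm
  obtain ⟨A₀, hA₀⟩ := S.nonempty
  obtain ⟨y, hy⟩ := hblk fun i => if a i = c₀ then 1 else A₀
  refine witness_sq (y := QuotientGroup.mk y) hz ?_
  rw [← QuotientGroup.mk_mul, QuotientGroup.eq, Subgroup.mem_center_iff]
  have hyy : (ρ (y * y)).1 * (c₀ • 1) = (ρ x).1 := by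
    rw [map_mul, hy, ← map_mul, blkGL_val, Matrix.mul_smul, mul_one, hX, blk_apply, fromBlocks_smul,
      fromBlocks_inj]
    refine ⟨?_, smul_zero _, smul_zero _, ?_⟩
    · rw [← blockDiagonal_smul]
      congr 1
      funext i
      rw [Pi.smul_apply]
      show c₀ • (((if a i = c₀ then 1 else A₀ : S.H) : GL β F) *
        ((if a i = c₀ then 1 else A₀ : S.H) : GL β F)).1 = a i • 1
      split_ifs with h
      · simp [h]
      · rw [Units.val_mul, S.sq A₀ hA₀, (hc₀ i).resolve_left h, smul_neg, neg_smul]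
    · ext r s
      obtain rfl := Subsingleton.elim r s
      simp [hcR r]
  have hval : (ρ ((y * y)⁻¹ * x)).1 = c₀ • 1 := by
    rw [map_mul, Units.val_mul, ← hyy, map_inv, ← mul_assoc, Units.inv_mul, one_mul]
  intro g
  apply hρ
  rw [map_mul ρ g, map_mul ρ _ g]
  refine Units.ext ?_
  rw [Units.val_mul, Units.val_mul, hval]
  simp

end Cfsg.Agent.OddCentral
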