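import Mathlib
import Cfsg.Agent.Lib.Lie.Chev.InvolutionMoves

/-! A 2-subgroup of `SL(2, F)`, odd characteristic, containing the Weyl element and a trace zero
element anticommuting with it, stable under the diagonal sign change. -/

set_option autoImplicit false

namespace Cfsg.Agent.OddCentral

open Cfsg.Agent.Lie.Chev Matrix
open scoped MatrixGroups

variable {F : Type*} [Field F]

/-- `diag (1, -1)`. -/
def signGL : GL (Fin 2) F :=
  ⟨!![1, 0; 0, -1], !![1, 0; 0, -1], by simp [Matrix.one_fin_two], by simp [Matrix.one_fin_two]⟩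

/-- The rotation `[[a, b], [-b, a]]` of determinant `-1`. -/
def rotGL (a b : F) (h : a * a + b * b = -1) : GL (Fin 2) F :=
  ⟨!![a, b; -b, a], !![-a, b; -b, -a],
    by ext i j; fin_cases i <;> fin_cases j <;> simp <;> first | ring1 | linear_combination (-1 : F) * h,
    by ext i j; fin_cases i <;> fin_cases j <;> simp <;> first | ring1 | linear_combination (-1 : F) * h⟩

/-- The trace zero element `[[a, b], [b, -a]]`. -/
def traceSL (a b : F) (h : a * a + b * b = -1) : SL(2, F) :=
  ⟨!![a, b; b, -a], by rw [Matrix.det_fin_two_of]; linear_combination (-1 : F) * h⟩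

theorem traceSL_val (a b : F) (h : a * a + b * b = -1) :
    (traceSL a b h).1 = !![a, b; b, -a] := rfl

theorem toGL_val (x : SL(2, F)) :
    (Matrix.SpecialLinearGroup.toGL x : GL (Fin 2) F).1 = x.1 := rfl

/-- Change of the off-diagonal signs. -/
def flipSL : SL(2, F) →* SL(2, F) where
  toFun g := ⟨!![g.1 0 0, -(g.1 0 1); -(g.1 1 0), g.1 1 1], by
    rw [Matrix.det_fin_two_of]; linear_combination det_two g⟩
  map_one' := by refine ext_two ?_ ?_ ?_ ?_ <;> simp
  map_mul' g h := by
    refine Subtype.ext ?_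
    show !![(g.1 * h.1) 0 0, -((g.1 * h.1) 0 1); -((g.1 * h.1) 1 0), (g.1 * h.1) 1 1] =
      !![g.1 0 0, -(g.1 0 1); -(g.1 1 0), g.1 1 1] * !![h.1 0 0, -(h.1 0 1); -(h.1 1 0), h.1 1 1]
    ext i j
    fin_cases i <;> fin_cases j <;> simp [Matrix.mul_apply, Fin.sum_univ_two] <;> ring

theorem flipSL_val (g : SL(2, F)) :
    (flipSL g).1 = !![g.1 0 0, -(g.1 0 1); -(g.1 1 0), g.1 1 1] := rfl

theorem flipSL_up (t : F) : flipSL (upSL t) = upSL (-t) := by
  refine ext_two ?_ ?_ ?_ ?_ <;> rw [flipSL_val] <;> simp [upSL]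

theorem flipSL_lo (t : F) : flipSL (loSL t) = loSL (-t) := by
  refine ext_two ?_ ?_ ?_ ?_ <;> rw [flipSL_val] <;> simp [loSL]

theorem flipSL_w : flipSL (wSL : SL(2, F)) = -wSL := by
  refine ext_two ?_ ?_ ?_ ?_ <;> rw [flipSL_val, Matrix.SpecialLinearGroup.coe_neg] <;> simp [wSL_val]

/-- The Weyl element as an invertible matrix. -/
abbrev weylGL (F : Type*) [Field F] : GL (Fin 2) F :=
  Matrix.SpecialLinearGroup.toGL (wSL : SL(2, F))

/-- The group generated by the sign, the Weyl element and a rotation. -/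
def twoW (a b : F) (h : a * a + b * b = -1) : Subgroup (GL (Fin 2) F) :=
  Subgroup.closure {weylGL F, rotGL a b h} ⊔ Subgroup.zpowers signGL

/-- Its trace on `SL(2, F)`. -/
def twoM (a b : F) (h : a * a + b * b = -1) : Subgroup SL(2, F) :=
  (twoW a b h).comap Matrix.SpecialLinearGroup.toGL

variable {a b : F} {h : a * a + b * b = -1}

theorem sign_mul_self : (signGL : GL (Fin 2) F) * signGL = 1 :=
  Units.ext (by simp [signGL, Matrix.one_fin_two])

theorem weyl_mem : wSL ∈ twoM a b h :=
  Subgroup.mem_sup_left (Subgroup.subset_closure (Or.inl rfl))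

theorem trace_mem : traceSL a b h ∈ twoM a b h := by
  have e : Matrix.SpecialLinearGroup.toGL (traceSL a b h) = signGL * rotGL a b h := by
    refine Units.ext ?_
    rw [toGL_val, Units.val_mul]
    simp [traceSL, signGL, rotGL]
  show Matrix.SpecialLinearGroup.toGL (traceSL a b h) ∈ twoW a b h
  rw [e]
  exact mul_mem (Subgroup.mem_sup_right (Subgroup.mem_zpowers _))
    (Subgroup.mem_sup_left (Subgroup.subset_closure (Or.inr rfl)))

theorem flip_mem {x : SL(2, F)} (hx : x ∈ twoM a b h) : flipSL x ∈ twoM a b h := by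
  have e : Matrix.SpecialLinearGroup.toGL (flipSL x) =
      signGL * Matrix.SpecialLinearGroup.toGL x * signGL := by
    refine Units.ext ?_
    rw [Units.val_mul, Units.val_mul, toGL_val, toGL_val, flipSL_val]
    ext i j
    fin_cases i <;> fin_cases j <;> simp [signGL, Matrix.vecMul, Matrix.mul_apply, dotProduct, Fin.sum_univ_two]
  show Matrix.SpecialLinearGroup.toGL (flipSL x) ∈ twoW a b h
  rw [e]
  have hs : signGL ∈ twoW a b h := Subgroup.mem_sup_right (Subgroup.mem_zpowers _)
  exact mul_mem (mul_mem hs hx) hs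

theorem isPGroup_twoW {k : ℕ} (hk : rotGL a b h ^ 2 ^ k = 1) : IsPGroup 2 (twoW a b h) := by
  set A := Subgroup.closure ({weylGL F, rotGL a b h} : Set (GL (Fin 2) F)) with hA
  have hw4 : weylGL F ^ 2 ^ 2 = 1 := by
    refine Units.ext ?_
    simp [pow_succ, wSL, Matrix.one_fin_two]
  have hcomm : Commute (weylGL F) (rotGL a b h) :=
    Units.ext (by simp [rotGL, wSL])
  have hwsq : ∀ x ∈ A, Commute (weylGL F) x ∧ Commute (rotGL a b h) x ∧
      ∃ n, x ^ 2 ^ n = 1 := by
    intro x hx
    induction hx using Subgroup.closure_induction with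
    | mem x hx =>
      rcases hx with rfl | rfl
      · exact ⟨Commute.refl _, hcomm.symm, 2, hw4⟩
      · exact ⟨hcomm, Commute.refl _, k, hk⟩
    | one => exact ⟨Commute.one_right _, Commute.one_right _, 0, one_pow _⟩
    | mul x y hxA _ hx hy =>
      refine ⟨hx.1.mul_right hy.1, hx.2.1.mul_right hy.2.1, ?_⟩
      obtain ⟨m, hm⟩ := hx.2.2
      obtain ⟨n, hn⟩ := hy.2.2
      have hxy : Commute x y := by
        clear hm hx
        induction hxA using Subgroup.closure_induction with
        | mem z hz =>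
          rcases hz with rfl | rfl
          exacts [hy.1, hy.2.1]
        | one => exact Commute.one_left _
        | mul z w _ _ hz hw => exact hz.mul_left hw
        | inv z _ hz => exact hz.inv_left
      refine ⟨m + n, ?_⟩
      rw [hxy.mul_pow, pow_add, pow_mul, hm, one_pow, mul_comm (2 ^ m), pow_mul, hn, one_pow,
        one_mul]
    | inv x _ hx =>
      obtain ⟨m, hm⟩ := hx.2.2
      exact ⟨hx.1.inv_right, hx.2.1.inv_right, m, by rw [inv_pow, hm, inv_one]⟩
  have hAp : IsPGroup 2 A := fun x => by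
    obtain ⟨n, hn⟩ := (hwsq x x.2).2.2
    exact ⟨n, Subtype.ext (by simpa using hn)⟩
  have hD : IsPGroup 2 (Subgroup.zpowers (signGL : GL (Fin 2) F)) := by
    rintro ⟨x, j, rfl⟩
    refine ⟨1, Subtype.ext ?_⟩
    show (signGL ^ j) ^ (2 ^ 1 : ℕ) = 1
    rw [pow_one, ← zpow_natCast, ← _root_.zpow_mul, mul_comm, _root_.zpow_mul, zpow_natCast,
      pow_two, sign_mul_self, _root_.one_zpow]
  refine hAp.to_sup_of_normal_left' hD ((Subgroup.zpowers_le).2 ?_)
  have hi : (signGL : GL (Fin 2) F)⁻¹ = signGL := inv_eq_of_mul_eq_one_right sign_mul_self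
  have hfwd : ∀ x ∈ A, signGL * x * signGL ∈ A := by
    intro x hx
    induction hx using Subgroup.closure_induction with
    | mem x hx =>
      rcases hx with rfl | rfl
      · have e : signGL * weylGL F * signGL = (weylGL F)⁻¹ :=
          eq_inv_of_mul_eq_one_left (Units.ext (by simp [signGL, wSL, Matrix.one_fin_two]))
        rw [e]
        exact inv_mem (Subgroup.subset_closure (Or.inl rfl))
      · have e : signGL * rotGL a b h * signGL = weylGL F * weylGL F * (rotGL a b h)⁻¹ := by
          refine Units.ext ?_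
          rw [Units.val_mul, Units.val_mul (_ * _)]
          show _ = _ * ((rotGL a b h).inv)
          simp [signGL, rotGL, wSL]
        rw [e]
        exact mul_mem (mul_mem (Subgroup.subset_closure (Or.inl rfl))
          (Subgroup.subset_closure (Or.inl rfl))) (inv_mem (Subgroup.subset_closure (Or.inr rfl)))
    | one => rw [mul_one, sign_mul_self]; exact one_mem _
    | mul x y _ _ hx hy =>
      have e : signGL * (x * y) * signGL = signGL * x * signGL * (signGL * y * signGL) := by
        calc signGL * (x * y) * signGL = signGL * x * 1 * y * signGL := by group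
          _ = _ := by rw [← sign_mul_self]; group
      rw [e]; exact mul_mem hx hy
    | inv x _ hx =>
      have := inv_mem hx
      simpa [mul_assoc, hi] using this
  rw [Subgroup.mem_normalizer_iff]
  intro x
  rw [hi]
  refine ⟨hfwd x, fun hx => ?_⟩
  have := hfwd _ hx
  have e : signGL * (signGL * x * signGL) * signGL = x := by
    rw [← mul_assoc, ← mul_assoc, sign_mul_self, one_mul, mul_assoc, sign_mul_self, mul_one]
  rwa [e] at this

theorem isPGroup_twoM {k : ℕ} (hk : rotGL a b h ^ 2 ^ k = 1) : IsPGroup 2 (twoM a b h) :=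
  (isPGroup_twoW hk).comap_of_injective _ Matrix.SpecialLinearGroup.toGL_injective

/-- Parameters from the prime field with the rotation of 2-power order. -/
theorem exists_params {p : ℕ} [Fact p.Prime] [CharP F p] :
    ∃ (a b : ZMod p) (h : (ZMod.castHom dvd_rfl F a) * (ZMod.castHom dvd_rfl F a) +
        (ZMod.castHom dvd_rfl F b) * (ZMod.castHom dvd_rfl F b) = -1) (k : ℕ),
      rotGL _ _ h ^ 2 ^ k = 1 := by
  obtain ⟨a₀, b₀, h₀⟩ := ZMod.sq_add_sq p (-1 : ZMod p)
  have h₁ : a₀ * a₀ + b₀ * b₀ = -1 := by rw [← pow_two, ← pow_two]; exact h₀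
  set ρ := rotGL a₀ b₀ h₁
  have hform : ∀ n : ℕ, ∃ a b : ZMod p,
      ((ρ ^ n : GL (Fin 2) (ZMod p)) : Matrix (Fin 2) (Fin 2) (ZMod p)) = !![a, b; -b, a] ∧
        a * a + b * b = (-1) ^ n := by
    intro n
    induction n with
    | zero => exact ⟨1, 0, by simp [Matrix.one_fin_two], by simp⟩
    | succ n ih =>
      obtain ⟨a, b, e, hd⟩ := ih
      refine ⟨a * a₀ - b * b₀, a * b₀ + b * a₀, ?_, ?_⟩
      · rw [pow_succ, Units.val_mul, e]
        show _ * !![a₀, b₀; -b₀, a₀] = _
        ext i j; fin_cases i <;> fin_cases j <;> simp <;> ring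
      · rw [pow_succ (-1 : ZMod p)]
        linear_combination (a₀ * a₀ + b₀ * b₀) * hd + ((-1) ^ n) * h₁
  have ho : orderOf ρ ≠ 0 := (orderOf_pos ρ).ne'
  obtain ⟨k, m, hm, hkm⟩ := Nat.exists_eq_two_pow_mul_odd ho
  obtain ⟨a, b, e, hd⟩ := hform m
  rw [hm.neg_one_pow] at hd
  have hab : (ZMod.castHom dvd_rfl F a) * (ZMod.castHom dvd_rfl F a) +
      (ZMod.castHom dvd_rfl F b) * (ZMod.castHom dvd_rfl F b) = -1 := by
    rw [← map_mul, ← map_mul, ← map_add, hd, map_neg, map_one]
  refine ⟨a, b, hab, k, ?_⟩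
  have hpow : (ρ ^ m) ^ 2 ^ k = 1 := by rw [← pow_mul, mul_comm, ← hkm, pow_orderOf_eq_one]
  have e2 : rotGL (a := ZMod.castHom dvd_rfl F a) (b := ZMod.castHom dvd_rfl F b) hab =
      Units.map (RingHom.mapMatrix (ZMod.castHom dvd_rfl F)).toMonoidHom (ρ ^ m) := by
    refine Units.ext ?_
    rw [Units.coe_map]
    show _ = (RingHom.mapMatrix (ZMod.castHom dvd_rfl F)) (ρ ^ m).1
    rw [e]
    ext i j; fin_cases i <;> fin_cases j <;> simp [rotGL]
  rw [e2, ← map_pow, hpow, map_one]

theorem wSL_eq : (wSL : SL(2, F)) = upSL 1 * loSL (-1) * upSL 1 := by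
  refine ext_two ?_ ?_ ?_ ?_ <;> simp only [mul_val, upSL_val, loSL_val, wSL_val] <;>
    simp [Matrix.mul_apply, Fin.sum_univ_two]

/-- A homomorphism maps `SL(2, p)` into a subgroup containing the images of the two generators. -/
theorem map_prime_mem {p : ℕ} [Fact p.Prime] [CharP F p] {G : Type*} [Group G]
    (φ : SL(2, F) →* G) {H : Subgroup G} (hu : φ (upSL 1) ∈ H) (hl : φ (loSL 1) ∈ H)
    (x : SL(2, ZMod p)) :
    φ (Matrix.SpecialLinearGroup.map (ZMod.castHom dvd_rfl F) x) ∈ H := by
  set ι := Matrix.SpecialLinearGroup.map (n := Fin 2) (ZMod.castHom (dvd_refl p) F)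
  have hup : ∀ t : ZMod p, φ (ι (upSL t)) ∈ H := by
    intro t
    have e : ∀ n : ℕ, ι (upSL (n : ZMod p)) = (upSL (1 : F)) ^ n := by
      intro n
      induction n with
      | zero =>
        rw [pow_zero]
        refine ext_two ?_ ?_ ?_ ?_ <;> simp [ι, upSL_val, Matrix.SpecialLinearGroup.map_apply_coe]
      | succ n ih =>
        rw [pow_succ, ← ih]
        refine ext_two ?_ ?_ ?_ ?_ <;>
          simp [ι, upSL_val, Matrix.SpecialLinearGroup.map_apply_coe, Matrix.mul_apply, Fin.sum_univ_two, add_comm]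
    rw [← ZMod.natCast_zmod_val t, e, map_pow]
    exact pow_mem hu _
  have hlo : ∀ t : ZMod p, φ (ι (loSL t)) ∈ H := by
    intro t
    have e : ∀ n : ℕ, ι (loSL (n : ZMod p)) = (loSL (1 : F)) ^ n := by
      intro n
      induction n with
      | zero =>
        rw [pow_zero]
        refine ext_two ?_ ?_ ?_ ?_ <;> simp [ι, loSL_val, Matrix.SpecialLinearGroup.map_apply_coe]
      | succ n ih =>
        rw [pow_succ, ← ih]
        refine ext_two ?_ ?_ ?_ ?_ <;>
          simp [ι, loSL_val, Matrix.SpecialLinearGroup.map_apply_coe, Matrix.mul_apply, Fin.sum_univ_two, add_comm]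
    rw [← ZMod.natCast_zmod_val t, e, map_pow]
    exact pow_mem hl _
  let K : Subgroup SL(2, ZMod p) := H.comap (φ.comp ι)
  have key : ∀ g : SL(2, ZMod p), g.1 1 0 ≠ 0 → g ∈ K := by
    intro g hc
    have e : g = upSL ((g.1 0 0 - 1) / g.1 1 0) * loSL (g.1 1 0) *
        upSL ((g.1 1 1 - 1) / g.1 1 0) := by
      refine ext_two ?_ ?_ ?_ ?_ <;>
        simp only [mul_val, upSL_val, loSL_val] <;>
        simp [Matrix.mul_apply, Fin.sum_univ_two]
      all_goals field_simp
      all_goals first
        | linear_combination (-1 : ZMod p) * det_two g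
        | linear_combination (0 : ZMod p) * det_two g
    rw [e]
    exact mul_mem (mul_mem (hup _) (hlo _)) (hup _)
  show x ∈ K
  by_cases hc : x.1 1 0 = 0
  · have hd : (x * loSL 1).1 1 0 ≠ 0 := by
      have e : (x * loSL 1).1 1 0 = x.1 1 1 := by
        rw [mul_val, loSL_val]; simp [Matrix.mul_apply, Fin.sum_univ_two, hc]
      rw [e]
      intro e'
      simpa [hc, e'] using det_two x
    have := mul_mem (key _ hd) (inv_mem (hlo 1) : (loSL 1)⁻¹ ∈ K)
    rwa [mul_inv_cancel_right] at this
  · exact key x hc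

theorem trace_mem_image {p : ℕ} [Fact p.Prime] [CharP F p] {G : Type*} [Group G]
    (φ : SL(2, F) →* G) {H : Subgroup G} (hu : φ (upSL 1) ∈ H) (hl : φ (loSL 1) ∈ H)
    {a b : ZMod p} (h : (ZMod.castHom dvd_rfl F a) * (ZMod.castHom dvd_rfl F a) +
      (ZMod.castHom dvd_rfl F b) * (ZMod.castHom dvd_rfl F b) = -1) :
    φ (traceSL _ _ h) ∈ H := by
  have h' : a * a + b * b = -1 := by
    refine (ZMod.castHom dvd_rfl F).injective ?_
    rw [map_add, map_mul, map_mul, h, map_neg, map_one]
  have e : Matrix.SpecialLinearGroup.map (ZMod.castHom dvd_rfl F) (traceSL a b h') =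
      traceSL _ _ h := by
    refine ext_two ?_ ?_ ?_ ?_ <;>
      simp [traceSL_val, Matrix.SpecialLinearGroup.map_apply_coe]
  rw [← e]
  exact map_prime_mem φ hu hl _

end Cfsg.Agent.OddCentral
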