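import Cfsg.Agent.Lib.Fus.OddCentral.Blocks
import Cfsg.Agent.Lib.Fus.OddCentral.SLPart
import Cfsg.Agent.Lib.Classical.UnitCenter
import Cfsg.Agent.Lib.Classical.AschSpProper

/-! Central involutions of Sylow 2-subgroups of PSL, PSp and PSU in odd characteristic, rank at
least two, lie in the subgroup of squares. -/

set_option autoImplicit false

namespace Cfsg.Agent.OddCentral

open Matrix
open Cfsg.Agent.Lie.Chev (upSL loSL wSL wSL_val)
open scoped MatrixGroups

variable {F : Type*} [Field F]

theorem toGL_one_mul_neg_one {x : SL(2, F)} (h : x * x = -1) :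
    (Matrix.SpecialLinearGroup.toGL x : GL (Fin 2) F).1 *
      (Matrix.SpecialLinearGroup.toGL x : GL (Fin 2) F).1 = -1 := by
  have := congrArg Subtype.val h
  rwa [Matrix.SpecialLinearGroup.coe_mul, Matrix.SpecialLinearGroup.coe_neg,
    Matrix.SpecialLinearGroup.coe_one] at this

theorem wSL_mul_self : (wSL : SL(2, F)) * wSL = -1 := by
  refine Cfsg.Agent.Lie.Chev.ext_two ?_ ?_ ?_ ?_ <;>
    simp [wSL_val, Matrix.SpecialLinearGroup.coe_neg]

theorem traceSL_mul_self {a b : F} (h : a * a + b * b = -1) :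
    traceSL a b h * traceSL a b h = -1 := by
  refine Cfsg.Agent.Lie.Chev.ext_two ?_ ?_ ?_ ?_ <;>
    simp [traceSL_val, Matrix.SpecialLinearGroup.coe_neg] <;>
    first | ring1 | linear_combination h

/-- The 2-group of determinant one generated inside `GL(2, F)` and its two generators. -/
def slBlockSys {a b : F} {h : a * a + b * b = -1} {k : ℕ} (hk : rotGL a b h ^ 2 ^ k = 1)
    (h2 : (2 : F) ≠ 0) : BlockSys (Fin 2) F where
  H := (twoM a b h).map Matrix.SpecialLinearGroup.toGL
  isPGroup := (isPGroup_twoM hk).map _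
  A := {⟨Matrix.SpecialLinearGroup.toGL wSL, Subgroup.mem_map_of_mem _ weyl_mem⟩,
    ⟨Matrix.SpecialLinearGroup.toGL (traceSL a b h), Subgroup.mem_map_of_mem _ trace_mem⟩}
  nonempty := ⟨_, Or.inl rfl⟩
  sq := by
    rintro _ (rfl | rfl)
    · exact toGL_one_mul_neg_one wSL_mul_self
    · exact toGL_one_mul_neg_one (traceSL_mul_self h)
  notScalar := by
    rintro _ (rfl | rfl) c e
    · have := congrFun (congrFun e 0) 1
      simp [toGL_val, wSL_val] at this
    · have h01 := congrFun (congrFun e 0) 1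
      have h00 := congrFun (congrFun e 0) 0
      have h11 := congrFun (congrFun e 1) 1
      simp [toGL_val, traceSL_val] at h00 h11 h01
      have ha : (2 : F) * a = 0 := by linear_combination h00 - h11
      have ha0 := (mul_eq_zero.1 ha).resolve_left h2
      rw [ha0, h01] at h
      simp at h
  cent := by
    intro M hM
    have e1 := hM _ (Or.inl rfl)
    have e2 := hM _ (Or.inr rfl)
    simp only [toGL_val, wSL_val, traceSL_val] at e1 e2
    have a00 := congrFun (congrFun e1 0) 0
    have a01 := congrFun (congrFun e1 0) 1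
    have b00 := congrFun (congrFun e2 0) 0
    have b01 := congrFun (congrFun e2 0) 1
    simp [Matrix.mul_apply, Fin.sum_univ_two] at a00 a01 b00 b01
    have hb : (2 : F) * (b * M 0 1) = 0 := by linear_combination b00 - b * a00
    have ha : (2 : F) * (a * M 0 1) = 0 := by linear_combination -b01 + b * a01
    have hb0 := (mul_eq_zero.1 hb).resolve_left h2
    have ha0 := (mul_eq_zero.1 ha).resolve_left h2
    have hq : M 0 1 = 0 := by
      rcases mul_eq_zero.1 hb0 with hb1 | hq
      · rcases mul_eq_zero.1 ha0 with ha1 | hq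
        · rw [ha1, hb1] at h; simp at h
        · exact hq
      · exact hq
    refine ⟨M 0 0, ?_⟩
    ext i j
    fin_cases i <;> fin_cases j <;> simp [hq]
    · linear_combination -a00 - hq
    · linear_combination -a01

theorem slBlockSys_det {a b : F} {h : a * a + b * b = -1} {k : ℕ} (hk : rotGL a b h ^ 2 ^ k = 1)
    (h2 : (2 : F) ≠ 0) (x : (slBlockSys hk h2).H) : (x : GL (Fin 2) F).1.det = 1 := by
  obtain ⟨g, -, hg⟩ := x.2
  rw [← hg]
  exact g.2

theorem two_ne_zero_of_charP {p : ℕ} [Fact p.Prime] [CharP F p] (hp : p ≠ 2) : (2 : F) ≠ 0 := by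
  intro e
  have hd : p ∣ 2 := (CharP.cast_eq_zero_iff F p 2).1 (by exact_mod_cast e)
  exact hp ((Nat.prime_dvd_prime_iff_eq Fact.out Nat.prime_two).1 hd)

/-- Coordinates of `n` grouped in pairs. -/
noncomputable def pairEquiv (n : ℕ) : (Fin 2 × Fin (n / 2)) ⊕ Fin (n % 2) ≃ Fin n :=
  Fintype.equivFinOfCardEq (by
    simp only [Fintype.card_sum, Fintype.card_prod, Fintype.card_fin]
    omega)

theorem subsingleton_rest (n : ℕ) : Subsingleton (Fin (n % 2)) :=
  ⟨fun a b => Fin.ext (by have := a.2; have := b.2; omega)⟩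

theorem big_rest {n : ℕ} (hn : 3 ≤ n) : 2 ≤ n / 2 ∨ Nonempty (Fin (n % 2)) := by
  rcases Nat.lt_or_ge n 4 with h | h
  · exact Or.inr ⟨⟨0, by omega⟩⟩
  · exact Or.inl (by omega)

/-- Reindexing of invertible matrices. -/
noncomputable def reGL {ι κ : Type*} [Fintype ι] [Fintype κ] [DecidableEq ι] [DecidableEq κ]
    (e : ι ≃ κ) : GL ι F →* GL κ F :=
  Units.map (Matrix.reindexAlgEquiv F F e).toRingHom.toMonoidHom

theorem reGL_val {ι κ : Type*} [Fintype ι] [Fintype κ] [DecidableEq ι] [DecidableEq κ]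
    (e : ι ≃ κ) (g : GL ι F) : (reGL e g).1 = g.1.submatrix e.symm e.symm := rfl

theorem reGL_injective {ι κ : Type*} [Fintype ι] [Fintype κ] [DecidableEq ι] [DecidableEq κ]
    (e : ι ≃ κ) : Function.Injective (reGL (F := F) e) := by
  intro x y h
  refine Units.ext ((Matrix.reindexAlgEquiv F F e).injective ?_)
  exact congrArg Units.val h

theorem reGL_scalar {ι κ : Type*} [Fintype ι] [Fintype κ] [DecidableEq ι] [DecidableEq κ]
    (e : ι ≃ κ) {g : GL ι F} {c : F} (h : g.1 = c • 1) : (reGL e g).1 = c • 1 := by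
  rw [reGL_val, h, Matrix.submatrix_smul, Pi.smul_apply, Pi.smul_apply, Matrix.submatrix_one_equiv]

/-- PSL in dimension at least three. -/
theorem good_psl [Fintype F] {p : ℕ} [Fact p.Prime] [CharP F p] (hp : p ≠ 2) {n : ℕ} (hn : 3 ≤ n) :
    Good (Matrix.ProjectiveSpecialLinearGroup (Fin n) F) := by
  obtain ⟨a, b, hab, k, hk⟩ := exists_params (F := F) (p := p)
  have h2 := two_ne_zero_of_charP (F := F) hp
  haveI := subsingleton_rest n
  refine good_of_blocks (slBlockSys hk h2) h2 (show 1 ≤ n / 2 by omega) (big_rest hn)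
    ((reGL (pairEquiv n).symm).comp Matrix.SpecialLinearGroup.toGL)
    ((reGL_injective _).comp Matrix.SpecialLinearGroup.toGL_injective) ?_ ?_
  · intro z hz
    obtain ⟨c, -, hc⟩ := Matrix.SpecialLinearGroup.mem_center_iff.1 hz
    exact ⟨c, reGL_scalar _ (by rw [Matrix.smul_one_eq_diagonal]; exact hc.symm)⟩
  · intro f
    set M : Matrix (Fin n) (Fin n) F := (blk fun i => ((f i : GL (Fin 2) F)).1 :
      Matrix ((Fin 2 × Fin (n / 2)) ⊕ Fin (n % 2)) _ F).submatrix (pairEquiv n).symm (pairEquiv n).symm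
    have hdet : M.det = 1 := by
      rw [Matrix.det_submatrix_equiv_self, det_blk]
      exact Finset.prod_eq_one fun i _ => slBlockSys_det hk h2 (f i)
    refine ⟨(⟨M, hdet⟩ : Matrix.SpecialLinearGroup (Fin n) F), Units.ext ?_⟩
    rw [blkGL_val]
    show M.submatrix (pairEquiv n) (pairEquiv n) = _
    simp [M, Matrix.submatrix_submatrix, Function.comp_def]
    rfl

/-- Coordinates of the symplectic space grouped in hyperbolic pairs. -/
def spEquiv (m : ℕ) : (Fin 2 × Fin m) ⊕ Fin 0 ≃ Fin m ⊕ Fin m where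
  toFun := Sum.elim (fun p => if p.1 = 0 then Sum.inl p.2 else Sum.inr p.2) Fin.elim0
  invFun := Sum.elim (fun i => Sum.inl (0, i)) (fun i => Sum.inl (1, i))
  left_inv := by
    rintro (⟨a, i⟩ | x)
    · fin_cases a <;> simp
    · exact x.elim0
  right_inv := by rintro (i | i) <;> simp

/-- PSp in dimension at least four. -/
theorem good_psp [Fintype F] {p : ℕ} [Fact p.Prime] [CharP F p] (hp : p ≠ 2) {m : ℕ} (hm : 2 ≤ m) :
    Good (Cfsg.PSp m F) := by
  obtain ⟨a, b, hab, k, hk⟩ := exists_params (F := F) (p := p)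
  have h2 := two_ne_zero_of_charP (F := F) hp
  haveI : Finite (Matrix.symplecticGroup (Fin m) F) := Subtype.finite
  refine good_of_blocks (slBlockSys hk h2) h2 (show 1 ≤ m by omega) (Or.inl hm)
    ((reGL (spEquiv m).symm).comp (Classical.Asch.spHom m F))
    ((reGL_injective _).comp fun x y h => Subtype.ext (congrArg Units.val h)) ?_ ?_
  · intro z hz
    obtain ⟨c, hc⟩ := (Cfsg.Geo.mem_scalars_iff _).1
      (Classical.Asch.sp_center_scalar (by omega) hz)
    exact ⟨c, reGL_scalar _ hc⟩
  · intro f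
    set N : Fin m → Matrix (Fin 2) (Fin 2) F := fun i => (f i : GL (Fin 2) F).1
    set M : Matrix (Fin m ⊕ Fin m) (Fin m ⊕ Fin m) F :=
      Matrix.fromBlocks (diagonal fun i => N i 0 0) (diagonal fun i => N i 0 1)
        (diagonal fun i => N i 1 0) (diagonal fun i => N i 1 1)
    have hmem : M ∈ Matrix.symplecticGroup (Fin m) F := by
      rw [SymplecticGroup.mem_iff]
      simp only [M, Matrix.J, Matrix.fromBlocks_transpose, Matrix.diagonal_transpose,
        Matrix.fromBlocks_multiply, Matrix.mul_zero, Matrix.mul_one, Matrix.mul_neg, add_zero,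
        zero_add, Matrix.neg_mul, Matrix.diagonal_mul_diagonal]
      have hd : ∀ i, N i 0 0 * N i 1 1 - N i 0 1 * N i 1 0 = 1 := fun i => by
        rw [← Matrix.det_fin_two]; exact slBlockSys_det hk h2 (f i)
      congr 1 <;> ext i j <;> by_cases hij : i = j <;> simp [hij, Matrix.one_apply]
      all_goals first
        | linear_combination hd j
        | linear_combination (-1 : F) * hd j
        | ring1
    refine ⟨⟨M, hmem⟩, Units.ext ?_⟩
    rw [blkGL_val]
    show M.submatrix (spEquiv m) (spEquiv m) = _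
    ext (⟨a, i⟩ | x) (⟨c, j⟩ | y)
    · fin_cases a <;> fin_cases c <;> by_cases hij : i = j <;>
        simp [M, N, spEquiv, blk_apply, blockDiagonal_apply, hij]
    · exact y.elim0
    · exact x.elim0
    · exact x.elim0

section Unitary

variable [Fintype F] {q : ℕ} (hF : Fintype.card F = q ^ 2)
include hF

theorem qFrob_sq (x : F) : Classical.qFrob hF (Classical.qFrob hF x) = x := by
  rw [Classical.qFrob_apply, Classical.qFrob_apply, ← pow_mul, ← pow_two, ← hF, FiniteField.pow_card]

/-- Parameters changed of sign by the field involution. -/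
theorem exists_anti_params (h2 : (2 : F) ≠ 0) : ∃ (a b : F) (h : a * a + b * b = -1) (k : ℕ),
    Classical.qFrob hF a = -a ∧ Classical.qFrob hF b = -b ∧ rotGL a b h ^ 2 ^ k = 1 := by
  classical
  set σ := Classical.qFrob hF
  set K : Subfield F := σ.eqLocusField (RingHom.id F)
  obtain ⟨e, he0, he⟩ : ∃ e : F, e ≠ 0 ∧ σ e = -e := by
    by_contra hcon
    push Not at hcon
    have hall : ∀ x : F, σ x = x := by
      intro x
      by_contra hne
      refine hcon (x - σ x) (sub_ne_zero.2 (Ne.symm hne)) ?_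
      rw [map_sub, qFrob_sq hF]; ring
    have hq := Classical.two_le_q hF
    have hroot : Fintype.card F ≤ q := by
      have hne : (Polynomial.X ^ q - Polynomial.X : Polynomial F) ≠ 0 :=
        FiniteField.X_pow_card_sub_X_ne_zero F (by omega)
      have h := Polynomial.card_le_degree_of_subset_roots (p := (Polynomial.X ^ q - Polynomial.X : Polynomial F))
        (Z := Finset.univ) (fun x _ => by
          rw [Polynomial.mem_roots hne]
          have := hall x
          rw [Classical.qFrob_apply] at this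
          simp [this])
      rwa [Finset.card_univ, FiniteField.X_pow_card_sub_X_natDegree_eq F (by omega)] at h
    rw [hF] at hroot
    nlinarith
  have heK : e * e ∈ K := show σ (e * e) = e * e by rw [map_mul, he]; ring
  have hodd : Fintype.card K % 2 = 1 := by
    refine FiniteField.odd_card_of_char_ne_two fun h => h2 ?_
    have : ((2 : ℕ) : K) = 0 := (ringChar.spec K 2).2 (dvd_of_eq h)
    have := congrArg (fun x : K => (x : F)) this
    push_cast at this
    exact this
  set w : K := ⟨-(e * e)⁻¹, neg_mem (inv_mem heK)⟩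
  obtain ⟨x, y, hxy⟩ : ∃ x y : K, x ^ 2 + y ^ 2 = w := by
    obtain ⟨x, y, h⟩ := FiniteField.exists_root_sum_quadratic
      (f := (Polynomial.X ^ 2 : Polynomial K)) (g := Polynomial.X ^ 2 - Polynomial.C w)
      (Polynomial.degree_X_pow 2) (Polynomial.degree_X_pow_sub_C (by norm_num) _) hodd
    simp at h
    exact ⟨x, y, by linear_combination h⟩
  have hxy' : (x : F) * x + (y : F) * y = -(e * e)⁻¹ := by
    have := congrArg (fun z : K => (z : F)) hxy
    simpa [w, pow_two] using this
  have h₀ : e * (x : F) * (e * x) + e * (y : F) * (e * y) = -1 := by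
    calc e * (x : F) * (e * x) + e * (y : F) * (e * y) = e * e * ((x : F) * x + (y : F) * y) := by ring
      _ = -1 := by rw [hxy', mul_neg, mul_inv_cancel₀ (mul_ne_zero he0 he0)]
  have hx : σ x = x := x.2
  have hy : σ y = y := y.2
  set a₀ := e * (x : F) with ha₀
  set b₀ := e * (y : F) with hb₀
  set ρ := rotGL a₀ b₀ h₀
  have hform : ∀ n : ℕ, ∃ a b : F, ((ρ ^ n : GL (Fin 2) F) : Matrix (Fin 2) (Fin 2) F) =
      !![a, b; -b, a] ∧ a * a + b * b = (-1) ^ n ∧ σ a = (-1) ^ n * a ∧ σ b = (-1) ^ n * b := by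
    intro n
    induction n with
    | zero => exact ⟨1, 0, by simp [Matrix.one_fin_two], by simp, by simp, by simp⟩
    | succ n ih =>
      obtain ⟨a, b, he', hd, sa, sb⟩ := ih
      refine ⟨a * a₀ - b * b₀, a * b₀ + b * a₀, ?_, ?_, ?_, ?_⟩
      · rw [pow_succ, Units.val_mul, he']
        show _ * !![a₀, b₀; -b₀, a₀] = _
        ext i j; fin_cases i <;> fin_cases j <;> simp <;> ring
      · rw [pow_succ (-1 : F)]
        linear_combination (a₀ * a₀ + b₀ * b₀) * hd + ((-1) ^ n) * h₀
      · simp only [ha₀, hb₀, map_sub, map_mul, sa, sb, he, hx, hy]; ring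
      · simp only [ha₀, hb₀, map_add, map_mul, sa, sb, he, hx, hy]; ring
  have ho : orderOf ρ ≠ 0 := (orderOf_pos ρ).ne'
  obtain ⟨k, j, hj, hkj⟩ := Nat.exists_eq_two_pow_mul_odd ho
  obtain ⟨a, b, he', hd, sa, sb⟩ := hform j
  rw [hj.neg_one_pow] at hd
  rw [hj.neg_one_pow, neg_one_mul] at sa sb
  refine ⟨a, b, hd, k, sa, sb, ?_⟩
  rw [show rotGL a b hd = ρ ^ j from Units.ext he'.symm, ← pow_mul, mul_comm, ← hkj,
    pow_orderOf_eq_one]

/-- Blocks of the unitary 2-group are unitary. -/
theorem twoW_unitary {a b : F} {h : a * a + b * b = -1} (ha : Classical.qFrob hF a = -a)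
    (hb : Classical.qFrob hF b = -b) {x : GL (Fin 2) F} (hx : x ∈ twoW a b h) :
    x.1ᵀ * x.1.map (Classical.qFrob hF) = 1 := by
  let U : Subgroup (GL (Fin 2) F) :=
    { carrier := {g | g.1ᵀ * g.1.map (Classical.qFrob hF) = 1}
      one_mem' := by simp
      mul_mem' := fun {g g'} hg hg' => by
        show (g * g').1ᵀ * (g * g').1.map _ = 1
        rw [Units.val_mul, Matrix.transpose_mul, Matrix.map_mul, Matrix.mul_assoc,
          ← Matrix.mul_assoc g.1ᵀ, hg, one_mul, hg']
      inv_mem' := fun {g} hg => by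
        show g⁻¹.1ᵀ * g⁻¹.1.map _ = 1
        have e : g⁻¹.1ᵀ * (g.1ᵀ * g.1.map (Classical.qFrob hF)) * g⁻¹.1.map (Classical.qFrob hF) = 1 := by
          rw [← Matrix.mul_assoc, ← Matrix.transpose_mul, Units.mul_inv, Matrix.transpose_one,
            one_mul, ← Matrix.map_mul, Units.mul_inv]
          simp
        rwa [hg, mul_one] at e }
  suffices hle : twoW a b h ≤ U from hle hx
  refine sup_le ((Subgroup.closure_le _).2 ?_) (Subgroup.zpowers_le.2 ?_)
  · rintro g (rfl | rfl)
    · show (wSL : SL(2, F)).1ᵀ * (wSL : SL(2, F)).1.map _ = 1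
      ext i j; fin_cases i <;> fin_cases j <;> simp [wSL_val, Matrix.mul_apply, Fin.sum_univ_two]
    · show (!![a, b; -b, a])ᵀ * (!![a, b; -b, a]).map _ = 1
      ext i j
      fin_cases i <;> fin_cases j <;>
        simp [Matrix.mul_apply, Fin.sum_univ_two, ha, hb] <;>
        first | ring1 | linear_combination (-1 : F) * h
  · show (!![1, 0; 0, -1] : Matrix (Fin 2) (Fin 2) F)ᵀ * (!![1, 0; 0, -1] : Matrix (Fin 2) (Fin 2) F).map _ = 1
    ext i j; fin_cases i <;> fin_cases j <;> simp [Matrix.mul_apply, Fin.sum_univ_two]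

/-- PSU in dimension at least three. -/
theorem good_psu {p : ℕ} [Fact p.Prime] [CharP F p] (hp : p ≠ 2) {n : ℕ} (hn : 3 ≤ n) :
    Good (Cfsg.PSU n F q) := by
  have h2 := two_ne_zero_of_charP (F := F) hp
  obtain ⟨a, b, hab, k, ha, hb, hk⟩ := exists_anti_params hF h2
  haveI := subsingleton_rest n
  haveI : Finite (Cfsg.SU n F q) := Subtype.finite
  refine good_of_blocks (slBlockSys hk h2) h2 (show 1 ≤ n / 2 by omega) (big_rest hn)
    (((reGL (pairEquiv n).symm).comp Matrix.SpecialLinearGroup.toGL).comp (Cfsg.SU n F q).subtype)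
    (((reGL_injective _).comp Matrix.SpecialLinearGroup.toGL_injective).comp Subtype.val_injective)
    ?_ ?_
  · intro z hz
    obtain ⟨c, hc⟩ := Classical.suVal_scalar_of_mem_center hF hz
    exact ⟨c, reGL_scalar _ (by rw [Matrix.smul_one_eq_diagonal]; exact hc)⟩
  · intro f
    set e := pairEquiv n
    set B : Matrix ((Fin 2 × Fin (n / 2)) ⊕ Fin (n % 2)) ((Fin 2 × Fin (n / 2)) ⊕ Fin (n % 2)) F :=
      blk fun i => ((f i : GL (Fin 2) F)).1
    set M : Matrix (Fin n) (Fin n) F := B.submatrix e.symm e.symm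
    have hdet : M.det = 1 := by
      rw [Matrix.det_submatrix_equiv_self, det_blk]
      exact Finset.prod_eq_one fun i _ => slBlockSys_det hk h2 (f i)
    have hu : ∀ i, ((f i : GL (Fin 2) F)).1ᵀ * ((f i : GL (Fin 2) F)).1.map (Classical.qFrob hF) = 1 := by
      intro i
      obtain ⟨g, hg, e'⟩ := (f i).2
      rw [← e']
      exact twoW_unitary hF ha hb hg
    have hB : Bᵀ * B.map (Classical.qFrob hF) = 1 := by
      simp only [B, blk_apply, Matrix.fromBlocks_transpose, Matrix.fromBlocks_map,
        Matrix.blockDiagonal_transpose, Matrix.blockDiagonal_map _ _ (map_zero _),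
        Matrix.fromBlocks_multiply, Matrix.transpose_zero, Matrix.map_zero _ (map_zero _),
        Matrix.transpose_one, Matrix.map_one _ (map_zero _) (map_one _), Matrix.mul_zero,
        Matrix.zero_mul, add_zero, zero_add, Matrix.mul_one, ← Matrix.blockDiagonal_mul]
      rw [← Matrix.fromBlocks_one]
      congr 1
      rw [← Matrix.blockDiagonal_one]
      congr 1
      funext i
      exact hu i
    have hM : Mᵀ * M.map (Classical.qFrob hF) = 1 := by
      show (B.submatrix e.symm e.symm)ᵀ * (B.submatrix e.symm e.symm).map _ = 1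
      rw [Matrix.transpose_submatrix, ← Matrix.submatrix_map, Matrix.submatrix_mul_equiv, hB,
        Matrix.submatrix_one_equiv]
    refine ⟨Classical.suMk hF M hdet hM, Units.ext ?_⟩
    rw [blkGL_val]
    show M.submatrix e e = _
    simp [M, B, Matrix.submatrix_submatrix, Function.comp_def]
    rfl

end Unitary

end Cfsg.Agent.OddCentral
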