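import Cfsg.Agent.Lib.Fus.OddCentral.Basic

/-! A 2-central involution with centraliser `⟨t⟩ × F`, the Sylow 2-subgroups of `F` elementary
abelian with all involutions of `F` conjugate: without a subgroup of index 2, every involution of
the Sylow subgroup is conjugate to `t` under its normaliser. -/

set_option autoImplicit false

namespace Cfsg.Agent.OddCentral

open Subgroup

variable {G : Type*} [Group G] [Finite G] {t : G} {S : Sylow 2 G} {F : Subgroup G}

namespace Setup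

variable (h : Setup t S F)
include h

/-- The Sylow subgroup of `F` inside `S`. -/
theorem exists_sylow_F : ∃ Q : Sylow 2 ↥F, (Q : Subgroup ↥F) = (S : Subgroup G).subgroupOf F := by
  haveI : Fact (Nat.Prime 2) := ⟨Nat.prime_two⟩
  have hFS : IsPGroup 2 ((S : Subgroup G).subgroupOf F) := by
    intro y
    obtain ⟨k, hk⟩ := S.isPGroup' ⟨(y.1 : G), y.2⟩
    exact ⟨k, Subtype.ext (Subtype.ext (by simpa using congrArg Subtype.val hk))⟩
  obtain ⟨Q, hQ⟩ := hFS.exists_le_sylow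
  refine ⟨Q, le_antisymm ?_ hQ⟩
  set R : Subgroup G := (Q : Subgroup ↥F).map F.subtype
  have hR : IsPGroup 2 ↥(R ⊔ Subgroup.zpowers t) := by
    refine (Q.isPGroup'.map _).to_sup_of_normal_right' (IsPGroup.of_card (n := 1)
      (by rw [Nat.card_zpowers, h.ht, pow_one])) ?_
    rintro _ ⟨q, hq, rfl⟩
    rw [Subgroup.mem_normalizer_iff]
    intro s
    have hc : Commute t (q : G) := h.commute_t q.2
    constructor
    · rintro ⟨k, rfl⟩
      exact ⟨k, by simp [(hc.zpow_left k).symm.eq]⟩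
    · rintro ⟨k, hk⟩
      refine ⟨k, ?_⟩
      have : t ^ k = (q : G) * s * (q : G)⁻¹ := hk
      show t ^ k = s
      calc t ^ k = (q : G)⁻¹ * (t ^ k * q) := by rw [(hc.zpow_left k).eq, inv_mul_cancel_left]
        _ = s := by rw [this]; group
  have hle : (S : Subgroup G) ≤ R ⊔ Subgroup.zpowers t := by
    intro s hs
    rcases h.mem_or (h.S_le hs) with h1 | h1
    · exact Subgroup.mem_sup_left ⟨⟨s, h1⟩, hQ hs, rfl⟩
    · have : s = t * (t * s) := by rw [← mul_assoc, h.sq, one_mul]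
      rw [this]
      exact mul_mem (Subgroup.mem_sup_right (Subgroup.mem_zpowers t))
        (Subgroup.mem_sup_left ⟨⟨t * s, h1⟩, hQ (show t * s ∈ (S : Subgroup G) from mul_mem h.htS hs), rfl⟩)
  intro q hq
  show (q : G) ∈ (S : Subgroup G)
  rw [← S.is_maximal' hR hle]
  exact Subgroup.mem_sup_left ⟨q, hq, rfl⟩

theorem S_exponent (hexp : ∀ Q : Sylow 2 ↥F, ∀ x ∈ (Q : Subgroup ↥F), x * x = 1) :
    ∀ s ∈ (S : Subgroup G), s * s = 1 := by
  obtain ⟨Q, hQ⟩ := h.exists_sylow_F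
  have key : ∀ s ∈ (S : Subgroup G), s ∈ F → s * s = 1 := fun s hs hsF =>
    congrArg Subtype.val (hexp Q ⟨s, hsF⟩ (hQ ▸ hs))
  intro s hs
  rcases h.mem_or (h.S_le hs) with h1 | h1
  · exact key s hs h1
  · have := key _ (mul_mem h.htS hs) h1
    rwa [mul_assoc, ← mul_assoc s t s, h.htc s hs, mul_assoc t s s, ← mul_assoc, h.sq, one_mul] at this

/-- Involutions of `S ∩ F` are conjugate in `N(S) ∩ F`. -/
theorem fusion_F (hexp : ∀ Q : Sylow 2 ↥F, ∀ x ∈ (Q : Subgroup ↥F), x * x = 1)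
    (hone : ∀ x y : ↥F, orderOf x = 2 → orderOf y = 2 → IsConj x y)
    {u v : G} (hu : u ∈ (S : Subgroup G)) (huF : u ∈ F) (hu1 : u ≠ 1) (hv : v ∈ (S : Subgroup G))
    (hvF : v ∈ F) (hv1 : v ≠ 1) :
    ∃ n ∈ F, n ∈ Subgroup.normalizer ((S : Subgroup G) : Set G) ∧ n⁻¹ * u * n = v := by
  haveI : Fact (Nat.Prime 2) := ⟨Nat.prime_two⟩
  obtain ⟨Q, hQ⟩ := h.exists_sylow_F
  haveI : IsMulCommutative ↥(Q : Subgroup ↥F) := ⟨⟨fun a b => Subtype.ext (by
    have ha := hexp Q a a.2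
    have hb := hexp Q b b.2
    have hab := hexp Q _ (mul_mem a.2 b.2)
    simp only [Subgroup.coe_mul]
    calc (a : ↥F) * b = a * (a * b * (a * b)) * b := by rw [hab, mul_one]
      _ = (a * a) * (b * a) * (b * b) := by simp only [mul_assoc]
      _ = _ := by rw [ha, hb, one_mul, mul_one])⟩⟩
  have ho : ∀ w (hw : w ∈ (S : Subgroup G)) (hwF : w ∈ F), w ≠ 1 → orderOf (⟨w, hwF⟩ : ↥F) = 2 :=
    fun w hw hwF hw1 => orderOf_eq_prime (by rw [pow_two]; exact hexp Q _ (hQ ▸ hw))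
      (fun e => hw1 (congrArg Subtype.val e))
  obtain ⟨g, hg⟩ := isConj_iff.1 (hone _ _ (ho u hu huF hu1) (ho v hv hvF hv1))
  have hmu : (⟨u, huF⟩ : ↥F) ∈ Q := show (⟨u, huF⟩ : ↥F) ∈ (Q : Subgroup ↥F) from hQ ▸ hu
  have hmv : g⁻¹⁻¹ * ⟨u, huF⟩ * g⁻¹ ∈ Q := by
    rw [inv_inv, hg]
    exact show (⟨v, hvF⟩ : ↥F) ∈ (Q : Subgroup ↥F) from hQ ▸ hv
  obtain ⟨n, hn, hne⟩ := Sylow.conj_eq_normalizer_conj_of_mem Q _ g⁻¹ hmu hmv
  rw [inv_inv, hg] at hne
  refine ⟨n, n.2, ?_, (congrArg Subtype.val hne).symm⟩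
  have hkey : ∀ m : ↥F, m ∈ Subgroup.normalizer ((Q : Subgroup ↥F) : Set ↥F) → ∀ s ∈ (S : Subgroup G),
      (m : G) * s * (m : G)⁻¹ ∈ (S : Subgroup G) := by
    intro m hm s hs
    have hQmem : ∀ w (hwF : w ∈ F), w ∈ (S : Subgroup G) → (m : G) * w * (m : G)⁻¹ ∈ (S : Subgroup G) := by
      intro w hwF hw
      have := (Subgroup.mem_normalizer_iff.1 hm ⟨w, hwF⟩).1 (hQ ▸ hw)
      rw [hQ] at this
      exact this
    rcases h.mem_or (h.S_le hs) with h1 | h1
    · exact hQmem s h1 hs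
    · have h2 := mul_mem h.htS (hQmem (t * s) h1 (mul_mem h.htS hs))
      have e : t * ((m : G) * (t * s) * (m : G)⁻¹) = (m : G) * s * (m : G)⁻¹ := by
        rw [← mul_assoc (m : G), ← (h.commute_t m.2).eq]
        simp only [← mul_assoc, h.sq, one_mul]
      rwa [e] at h2
  rw [Subgroup.mem_normalizer_iff]
  intro s
  refine ⟨hkey n hn s, fun hs => ?_⟩
  have := hkey n⁻¹ (inv_mem hn) _ hs
  simpa [mul_assoc] using this

/-- Without a subgroup of index 2, all involutions of `S` are conjugate to `t` by elements of `N(S)`. -/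
theorem all_conj (hexp : ∀ Q : Sylow 2 ↥F, ∀ x ∈ (Q : Subgroup ↥F), x * x = 1)
    (hone : ∀ x y : ↥F, orderOf x = 2 → orderOf y = 2 → IsConj x y)
    (hno : ¬ ∃ H : Subgroup G, H.index = 2 ∧ t ∉ H) :
    ∀ s ∈ (S : Subgroup G), s ≠ 1 →
      ∃ x ∈ Subgroup.normalizer ((S : Subgroup G) : Set G), x⁻¹ * t * x = s := by
  classical
  haveI : Fact (Nat.Prime 2) := ⟨Nat.prime_two⟩
  set N := Subgroup.normalizer ((S : Subgroup G) : Set G) with hN
  letI : MulAction ↥N G := MulAction.compHom _ ((MulAut.conj : G →* _).comp N.subtype)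
  have hsmul : ∀ (n : ↥N) z, n • z = (n : G) * z * (↑n)⁻¹ := fun _ _ => rfl
  set X := MulAction.orbit ↥N t with hX
  have hmemX : ∀ x ∈ N, x⁻¹ * t * x ∈ X := fun x hx =>
    ⟨⟨x⁻¹, inv_mem hx⟩, by simp [hsmul]⟩
  have hXS : ∀ y ∈ X, y ∈ (S : Subgroup G) ∧ y ≠ 1 := by
    rintro _ ⟨n, rfl⟩
    exact ⟨(Subgroup.mem_normalizer_iff.1 n.2 t).1 h.htS, fun e => h.ne_one (conj_eq_one_iff.1 e)⟩
  have hclosed : ∀ m ∈ N, ∀ y ∈ X, m⁻¹ * y * m ∈ X := by
    rintro m hm _ ⟨n, rfl⟩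
    refine ⟨⟨m⁻¹, inv_mem hm⟩ * n, ?_⟩
    simp only [hsmul, Subgroup.coe_mul]
    group
  have hodd : Odd X.ncard := by
    rw [← Nat.card_coe_set_eq, hX, Nat.card_congr (MulAction.orbitEquivQuotientStabilizer ↥N t)]
    refine Nat.odd_iff.2 (Nat.two_dvd_ne_zero.1 fun hd => ?_)
    have hle : (S : Subgroup G).subgroupOf N ≤ MulAction.stabilizer ↥N t := fun s hs => by
      rw [MulAction.mem_stabilizer_iff, hsmul, h.htc (s : G) hs, mul_inv_cancel_right]
    exact S.not_dvd_index ((hd.trans (Subgroup.index_dvd_of_le hle)).trans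
      (Subgroup.relIndex_dvd_index_of_le Subgroup.le_normalizer))
  obtain ⟨x₀, hx₀, hx₀F⟩ : ∃ x ∈ N, x⁻¹ * t * x ∈ F := by
    by_contra hcon
    exact hno (h.exists_index_two fun x hx hxF => hcon ⟨x, hx, hxF⟩)
  obtain ⟨hu0, hu1⟩ := hXS _ (hmemX _ hx₀)
  set V := (S : Subgroup G) ⊓ F with hV
  have hVX : ∀ v ∈ V, v ≠ 1 → v ∈ X := by
    intro v hv hv1
    obtain ⟨n, -, hnN, hne⟩ := h.fusion_F hexp hone hu0 hx₀F hu1 hv.1 hv.2 hv1
    rw [← hne]
    exact hclosed n hnN _ (hmemX _ hx₀)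
  obtain ⟨w, hwX, hwt, hwV⟩ : ∃ w ∈ X, w ≠ t ∧ w ∉ V := by
    by_contra hcon
    push Not at hcon
    have he : X = insert t ((V : Set G) \ {1}) := by
      ext y
      constructor
      · intro hy
        by_cases hyt : y = t
        · exact Or.inl hyt
        · exact Or.inr ⟨hcon y hy hyt, (hXS y hy).2⟩
      · rintro (rfl | ⟨hy, hy1⟩)
        · exact MulAction.mem_orbit_self _
        · exact hVX y hy hy1
    rw [he, Set.ncard_insert_of_notMem (fun hh => h.t_notMem hh.1.2) (Set.toFinite _),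
      Set.ncard_sdiff_singleton_of_mem (one_mem V), ← Nat.card_coe_set_eq] at hodd
    have heven : 2 ∣ Nat.card ↥V := by
      have ho : orderOf (⟨x₀⁻¹ * t * x₀, hu0, hx₀F⟩ : ↥V) = 2 := by
        rw [← Subgroup.orderOf_coe]
        exact orderOf_eq_prime (by rw [pow_two]; exact h.S_exponent hexp _ hu0) hu1
      exact ho ▸ orderOf_dvd_natCard _
    have hpos : 0 < Nat.card ↥V := Nat.card_pos
    simp only [SetLike.coe_sort_coe] at hodd
    rw [Nat.odd_iff] at hodd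
    omega
  have hwS := (hXS w hwX).1
  have hwF : w ∉ F := fun hh => hwV ⟨hwS, hh⟩
  have htwF : t * w ∈ F := (h.mem_or (h.S_le hwS)).resolve_left hwF
  have htw1 : t * w ≠ 1 := fun e => hwt (by
    rw [← inv_eq_of_mul_eq_one_right e, inv_eq_of_mul_eq_one_right h.sq])
  have hall : ∀ s ∈ (S : Subgroup G), s ≠ 1 → s ∈ X := by
    intro s hs hs1
    by_cases hsF : s ∈ F
    · exact hVX s ⟨hs, hsF⟩ hs1
    by_cases hst : s = t
    · exact hst ▸ MulAction.mem_orbit_self t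
    have htsF : t * s ∈ F := (h.mem_or (h.S_le hs)).resolve_left hsF
    have hts1 : t * s ≠ 1 := fun e => hst (by
      rw [← inv_eq_of_mul_eq_one_right e, inv_eq_of_mul_eq_one_right h.sq])
    obtain ⟨n, hnF, hnN, hne⟩ :=
      h.fusion_F hexp hone (mul_mem h.htS hwS) htwF htw1 (mul_mem h.htS hs) htsF hts1
    have : n⁻¹ * w * n = s := by
      rw [← mul_right_inj t, ← hne]
      rw [← mul_assoc, ← mul_assoc, (h.commute_t (inv_mem hnF)).eq, mul_assoc n⁻¹]
    rw [← this]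
    exact hclosed n hnN w hwX
  intro s hs hs1
  obtain ⟨n, hn⟩ := hall s hs hs1
  refine ⟨(n : G)⁻¹, inv_mem n.2, ?_⟩
  rw [inv_inv, ← hn]
  rfl

end Setup

end Cfsg.Agent.OddCentral
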