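import Cfsg.Agent.Lib.Fus.OddCentral.Frame
import Cfsg.Agent.Lib.Lie.Chev.CertsFull

/-! Central involutions of Sylow 2-subgroups of the exceptional Chevalley groups in odd
characteristic lie in the subgroup of squares. -/

set_option autoImplicit false

namespace Cfsg.Agent.Lie.Chev

open Cfsg.Lie

namespace CertFull

variable {D : ChevalleyDatum} (c : CertFull D) {F : Type*} [Field F]
include c

/-- The criterion for a Chevalley group. -/
theorem good_group [Fintype F] {p : ℕ} [Fact p.Prime] [CharP F p] (hp : p ≠ 2)
    {ys R : List ℕ} {wit : List (List ℕ)} (hneg : c.T.checkPairNeg = true)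
    (hmv : c.T.checkMoved ys = true) (hfr : c.T.checkFrameRoots R = true)
    (hfx : c.T.checkFixed ys R = true) (hwit : c.T.checkWit R [] R wit = true) :
    OddCentral.Good ↥(D.group F) := by
  have h2 : (2 : F) ≠ 0 := by
    intro e
    have hd : p ∣ 2 := (CharP.cast_eq_zero_iff F p 2).1 (by exact_mod_cast e)
    exact hp ((Nat.prime_dvd_prime_iff_eq Fact.out Nat.prime_two).1 hd)
  have hRlt : ∀ r ∈ R, r < D.nroots := fun r hr => by
    have h := hfr
    simp only [Tables.checkFrameRoots, Bool.and_eq_true, List.all_eq_true, Nat.blt_eq] at h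
    exact c.nroots_eq.symm ▸ (h.1 r hr).1.1
  refine c.good_of_frame hp le_rfl hneg hmv hfr (fun r hr => hr) hwit (fun _ => 1)
    (fun y _ => c.B_le_group (c.H_le_B (c.torus_mem _)))
    (fun r _ hr => ⟨c.xg_mem_group hr _, c.xg_mem_group (c.neg_lt hr) _⟩)
    (fun _ _ _ q hq => absurd hq List.not_mem_nil) ?_
  intro g _ a ha L hL e _ hk hfix _
  exact c.mem_H_of_fixed hfx h2 hRlt ha hL e hk hfix

end CertFull

end Cfsg.Agent.Lie.Chev

namespace Cfsg.Agent.OddCentral

open Cfsg.Lie Cfsg.Agent.Lie.Chev

variable {F : Type*} [Field F] [Fintype F] {p : ℕ} [Fact p.Prime] [CharP F p]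

theorem good_chevG2 (hp : p ≠ 2) : Good ↥(chevG2.group F) :=
  certFullG2.good_group hp (ys := [1, 2]) (R := [11, 7]) (wit := [[], [11]])
    (by decide +kernel) (by decide +kernel) (by decide +kernel) (by decide +kernel)
    (by decide +kernel)

theorem good_chevF4 (hp : p ≠ 2) : Good ↥(chevF4.group F) :=
  certFullF4.good_group hp (ys := [1, 2, 4, 8]) (R := [47, 41, 30, 25])
    (wit := [[], [47], [47, 25], [47, 41, 30], [47, 41], [47, 30, 25], [47, 30], [47, 41, 25]])
    (by decide +kernel) (by decide +kernel) (by decide +kernel) (by decide +kernel)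
    (by decide +kernel)

theorem good_chevE6 (hp : p ≠ 2) : Good ↥(chevE6.group F) :=
  certFullE6.good_group hp (ys := [1, 2, 4, 8, 16, 32]) (R := [71, 60, 44, 39])
    (wit := [[], [71, 39], [71], [71, 60, 44], [71, 60], [71, 44], [71, 44, 39], [71, 60, 39]])
    (by decide +kernel) (by decide +kernel) (by decide +kernel) (by decide +kernel)
    (by decide +kernel)

theorem good_chevE7 (hp : p ≠ 2) : Good ↥(chevE7.group F) :=
  certFullE7.good_group hp (ys := [1, 2, 4, 8, 16, 32, 64])
    (R := [125, 92, 87, 78, 73, 66, 63])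
    (wit := [[], [125, 92], [125, 92, 78, 63], [125, 92, 78], [125], [125, 92, 87, 66],
      [125, 92, 87], [125, 92, 87, 63]])
    (by decide +kernel) (by decide +kernel) (by decide +kernel) (by decide +kernel)
    (by decide +kernel)

theorem good_chevE8 (hp : p ≠ 2) : Good ↥(chevE8.group F) :=
  certFullE8.good_group hp (ys := [1, 2, 4, 8, 16, 32, 64, 128])
    (R := [239, 226, 159, 152, 141, 135, 126, 121])
    (wit := [[], [239], [239, 226, 152, 141], [239, 226, 159], [239, 226, 135],
      [239, 226, 159, 126], [239, 226, 152], [239, 226, 159, 141], [239, 226], [239, 159, 121],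
      [239, 226, 152, 135], [239, 226, 121], [239, 226, 141], [239, 226, 159, 152],
      [239, 226, 126], [239, 226, 159, 135]])
    (by decide +kernel) (by decide +kernel) (by decide +kernel) (by decide +kernel)
    (by decide +kernel)

end Cfsg.Agent.OddCentral
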