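import Cfsg.Agent.Lib.Fus.OddCentral.OrthModel

/-! The three orthogonal families in odd characteristic: central involutions of Sylow 2-subgroups
are in the subgroup of squares. -/

set_option autoImplicit false

namespace Cfsg.Agent.OddCentral

open Matrix Cfsg.Agent.Classical Cfsg.Agent.Classical.OrthAut

variable {F : Type*} [Field F] [Fintype F] {ι κ : Type} [Fintype ι] [DecidableEq ι] [Fintype κ]
  [DecidableEq κ]

/-- An isomorphism of groups restricts to the commutator subgroups. -/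
def commutatorCongr {G H : Type*} [Group G] [Group H] (φ : G ≃* H) : commutator G ≃* commutator H :=
  (φ.subgroupMap _).trans (MulEquiv.subgroupCongr (by
    rw [commutator_def, Subgroup.map_commutator,
      Subgroup.map_top_of_surjective (φ : G →* H) φ.surjective]
    rfl))

omit [Fintype F] in
theorem polar_comp_equiv (Q : QuadraticForm F (ι → F)) (Q' : QuadraticForm F (κ → F)) (e : κ ≃ ι)
    (hform : ∀ v, Q v = Q' (v ∘ e)) (x y : κ → F) :
    QuadraticMap.polar ⇑Q' x y = QuadraticMap.polar ⇑Q (x ∘ e.symm) (y ∘ e.symm) := by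
  simp only [QuadraticMap.polar, hform]
  simp [Function.comp_assoc, show ∀ a b : κ → F, (a ∘ e.symm + b ∘ e.symm) ∘ e = a + b from
    fun a b => by funext i; simp]

variable {m : ℕ} {R : Type} [Fintype R] [DecidableEq R]

theorem good_orth {p : ℕ} [Fact p.Prime] [CharP F p] (hp : p ≠ 2) (Q : QuadraticForm F (ι → F))
    (hQ : (QuadraticMap.polarBilin Q).Nondegenerate) (hT : Tri Q) (hn : 1 ≤ Fintype.card ι)
    (hm : 1 ≤ m) (hbig : 2 ≤ m ∨ Nonempty R) (hR : Fintype.card R ≤ 4)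
    (QR : QuadraticForm F (R → F)) (e : (Fin 4 × Fin m) ⊕ R ≃ ι)
    (hform : ∀ v, Q v = sumQ (qBlk F m) QR (v ∘ e)) :
    Good (POmega F ⇑Q) := by
  set Q' := sumQ (qBlk F m) QR
  have hQ' : (QuadraticMap.polarBilin Q').Nondegenerate := by
    refine nondegenerate_of_separatingLeft _ fun x hx => ?_
    have h0 : x ∘ e.symm = 0 := eq_zero_of_polar hQ fun z => by
      have := hx (z ∘ e)
      rwa [QuadraticMap.polarBilin_apply_apply, polar_comp_equiv Q Q' e hform,
        Function.comp_assoc, Equiv.self_comp_symm, Function.comp_id] at this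
    funext i
    simpa using congrFun h0 (e i)
  have hQR : (QuadraticMap.polarBilin QR).Nondegenerate := by
    refine nondegenerate_of_separatingLeft _ fun x hx => ?_
    have h0 : (Sum.elim 0 x : (Fin 4 × Fin m) ⊕ R → F) = 0 := eq_zero_of_polar hQ' fun z => by
      rw [polar_sumQ]
      simp only [Sum.elim_comp_inl, Sum.elim_comp_inr, QuadraticMap.polar_zero_left, zero_add]
      exact hx _
    funext r
    exact congrFun h0 (Sum.inr r)
  let φ₀ : GL ι F ≃* GL ((Fin 4 × Fin m) ⊕ R) F :=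
    Units.mapEquiv (Matrix.reindexAlgEquiv F F e.symm).toMulEquiv
  have hmap : (isometryGroup F ⇑Q).map φ₀.toMonoidHom = isometryGroup F ⇑Q' := by
    ext g
    obtain ⟨g, rfl⟩ := φ₀.surjective g
    show φ₀.toMonoidHom g ∈ _ ↔ _
    rw [Subgroup.mem_map_iff_mem (show Function.Injective φ₀.toMonoidHom from φ₀.injective), mem_isometryGroup, mem_isometryGroup]
    have hval : ∀ v, g.1 *ᵥ v = ((φ₀ g).1 *ᵥ (v ∘ e)) ∘ e.symm := fun v => by
      show _ = (g.1.submatrix e e *ᵥ (v ∘ e)) ∘ e.symm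
      rw [Matrix.submatrix_mulVec_equiv]
      simp [Function.comp_assoc]
    constructor
    · intro h v
      have := h (v ∘ e.symm)
      rw [hform, hform, hval] at this
      simpa [Function.comp_assoc] using this
    · intro h v
      rw [hform, hform, hval]
      simpa [Function.comp_assoc] using h (v ∘ e)
  let φ : isometryGroup F ⇑Q ≃* isometryGroup F ⇑Q' :=
    (φ₀.subgroupMap _).trans (MulEquiv.subgroupCongr hmap)
  let ψ : Omega F ⇑Q ≃* Omega F ⇑Q' := commutatorCongr φ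
  have hψ : ∀ x, omVal (ψ x) = (omVal x).submatrix e e := fun x => rfl
  have hc : (Subgroup.center (Omega F ⇑Q)).map ψ.toMonoidHom = Subgroup.center (Omega F ⇑Q') := by
    ext z
    obtain ⟨z, rfl⟩ := ψ.surjective z
    show ψ.toMonoidHom z ∈ _ ↔ _
    rw [Subgroup.mem_map_iff_mem ψ.injective, Subgroup.mem_center_iff, Subgroup.mem_center_iff]
    exact ⟨fun h g => by
      obtain ⟨g, rfl⟩ := ψ.surjective g
      rw [← map_mul, ← map_mul, h],
      fun h g => ψ.injective (by simpa using h (ψ g))⟩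
  refine Good.congr ?_ (QuotientGroup.congr _ _ ψ hc)
  refine good_orth_model hp hm hbig hR hQ' hQR fun z hz => ?_
  rw [← hc] at hz
  obtain ⟨x, hx, rfl⟩ := hz
  rcases center_omega_scalar hQ hT hn hx with h | h
  · refine ⟨1, ?_⟩
    show omVal (ψ x) = _
    rw [hψ, h, Matrix.submatrix_one_equiv, one_smul]
  · refine ⟨-1, ?_⟩
    show omVal (ψ x) = _
    rw [hψ, h, Matrix.submatrix_neg]
    simp

section Pairs

/-- The coordinates of `n` hyperbolic pairs grouped four by four. -/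
noncomputable def quadEquiv (n : ℕ) :
    (Fin 4 × Fin (n / 2)) ⊕ (Fin (n % 2) ⊕ Fin (n % 2)) ≃ Fin n ⊕ Fin n where
  toFun := Sum.elim
    (fun x => (![Sum.inl (pairEquiv n (Sum.inl (0, x.2))), Sum.inl (pairEquiv n (Sum.inl (1, x.2))),
      Sum.inr (pairEquiv n (Sum.inl (1, x.2))), Sum.inr (pairEquiv n (Sum.inl (0, x.2)))] : Fin 4 → _) x.1)
    (Sum.map (fun s => pairEquiv n (Sum.inr s)) (fun s => pairEquiv n (Sum.inr s)))
  invFun := Sum.elim
    (fun j => Sum.elim (fun p => Sum.inl (![(0 : Fin 4), 1] p.1, p.2)) (fun s => Sum.inr (Sum.inl s))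
      ((pairEquiv n).symm j))
    (fun j => Sum.elim (fun p => Sum.inl (![(3 : Fin 4), 2] p.1, p.2)) (fun s => Sum.inr (Sum.inr s))
      ((pairEquiv n).symm j))
  left_inv := by
    rintro (⟨a, i⟩ | (s | s))
    · fin_cases a <;> simp
    · simp
    · simp
  right_inv := by
    rintro (j | j) <;> obtain ⟨(⟨a, i⟩ | s), rfl⟩ := (pairEquiv n).surjective j
    · fin_cases a <;> simp
    · simp
    · fin_cases a <;> simp
    · simp

omit [Fintype F] in
theorem sum_pairs (n : ℕ) (x y : Fin n → F) :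
    ∑ j, x j * y j = (∑ i, q4 fun a => Sum.elim x y (quadEquiv n (Sum.inl (a, i)))) +
      ∑ s, x (pairEquiv n (Sum.inr s)) * y (pairEquiv n (Sum.inr s)) := by
  rw [← (pairEquiv n).sum_comp, Fintype.sum_sum_type, Fintype.sum_prod_type, Fin.sum_univ_two,
    ← Finset.sum_add_distrib]
  congr 1

end Pairs

/-- `PΩ` in odd dimension. -/
theorem good_omega_odd {p : ℕ} [Fact p.Prime] [CharP F p] (hp : p ≠ 2) {n : ℕ} (hn : 3 ≤ n) :
    Good (POmega F (quadFormOdd n F)) := by
  have h2 := two_ne_zero_of_charP (F := F) hp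
  rw [← coe_qfOdd]
  refine good_orth hp (qfOdd n F) (nondegenerate_qfOdd n h2) (tri_qfOdd hn) (by simp)
    (show 1 ≤ n / 2 by omega) (Or.inr ⟨Sum.inr (Sum.inl ())⟩) (by simp; omega)
    (sumQ (qfPlus (n % 2) F) (qfOdd 0 F))
    (((Equiv.sumAssoc _ _ _).symm.trans ((quadEquiv n).sumCongr
      (Equiv.sumEmpty Unit (Fin 0 ⊕ Fin 0)))).trans (Equiv.sumComm _ _)) fun v => ?_
  rw [sumQ_apply, sumQ_apply, qBlk_apply, qfOdd_apply, qfOdd_apply, qfPlus_apply]
  simp only [quadFormOdd, quadFormPlus, Finset.univ_eq_empty, Finset.sum_empty, add_zero]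
  rw [sum_pairs n (fun j => v (Sum.inr (Sum.inl j))) (fun j => v (Sum.inr (Sum.inr j)))]
  rw [add_comm, add_assoc]
  congr 1

/-- `PΩ⁺`. -/
theorem good_omega_plus {p : ℕ} [Fact p.Prime] [CharP F p] (hp : p ≠ 2) {n : ℕ} (hn : 4 ≤ n) :
    Good (POmega F (quadFormPlus n F)) := by
  rw [← coe_qfPlus]
  refine good_orth hp (qfPlus n F) (nondegenerate_qfPlus n) (tri_qfPlus (by omega)) (by simp; omega)
    (show 1 ≤ n / 2 by omega) (Or.inl (by omega)) (by simp; omega)
    (qfPlus (n % 2) F) (quadEquiv n) fun v => ?_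
  rw [sumQ_apply, qBlk_apply, qfPlus_apply, qfPlus_apply]
  simp only [quadFormPlus]
  rw [sum_pairs n (fun j => v (Sum.inl j)) (fun j => v (Sum.inr j))]
  congr 1

/-- `PΩ⁻`. -/
theorem good_omega_minus {p : ℕ} [Fact p.Prime] [CharP F p] (hp : p ≠ 2) {n : ℕ} (hn : 3 ≤ n) {a b : F}
    (hab : ∀ z₁ z₂ : F, z₁ ^ 2 + a * z₁ * z₂ + b * z₂ ^ 2 = 0 → z₁ = 0 ∧ z₂ = 0) :
    Good (POmega F (quadFormMinus n F a b)) := by
  rw [← coe_qfMinus]
  refine good_orth hp (qfMinus n F a b) (nondegenerate_qfMinus n hab) (tri_qfMinus hn a b) (by simp)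
    (show 1 ≤ n / 2 by omega) (Or.inr ⟨Sum.inr (Sum.inr 0)⟩) (by simp; omega)
    (sumQ (qfPlus (n % 2) F) (qfMinus 0 F a b))
    ((Equiv.sumAssoc _ _ _).symm.trans ((quadEquiv n).sumCongr
      (Equiv.emptySum (Fin 0 ⊕ Fin 0) (Fin 2)))) fun v => ?_
  rw [sumQ_apply, sumQ_apply, qBlk_apply, qfMinus_apply, qfMinus_apply, qfPlus_apply]
  simp only [quadFormMinus, quadFormPlus, Finset.univ_eq_empty, Finset.sum_empty, zero_add]
  rw [sum_pairs n (fun j => v (Sum.inl (Sum.inl j))) (fun j => v (Sum.inl (Sum.inr j))), add_assoc]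
  congr 1

end Cfsg.Agent.OddCentral
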