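import Cfsg.Agent.Lib.Fus.OddCentral.Hull
import Cfsg.Agent.Lib.Fus.PSLTwo
import Cfsg.Agent.Lib.Invol.GW.Consumers.Dihedral
import Cfsg.Agent.S0343

/-! The case `F ≅ PSL₂(q)`, `q` odd: index 2, or `F ≅ A₅`, or `q` an odd power of three. -/

set_option autoImplicit false

namespace Cfsg.Agent.OddCentral

open Subgroup

variable {G : Type*} [Group G]

/-- Involutions in the centre of a dihedral 2-group with rotations of order at least four are squares. -/
theorem dihedral_center_sq {k : ℕ} (hk : 2 ≤ k) (z : DihedralGroup (2 ^ k)) (hz : z * z = 1)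
    (hc : ∀ x, x * z = z * x) : ∃ y, z = y * y := by
  have h4 : 4 ∣ 2 ^ k := dvd_trans (by norm_num) (pow_dvd_pow 2 hk)
  haveI : NeZero (2 ^ k) := ⟨by positivity⟩
  rcases z with i | i
  · rw [DihedralGroup.r_mul_r, DihedralGroup.one_def, DihedralGroup.r.injEq] at hz
    have hdvd : 2 ^ k ∣ i.val + i.val := by
      rw [← CharP.cast_eq_zero_iff (ZMod (2 ^ k)) (2 ^ k), Nat.cast_add, ZMod.natCast_zmod_val, hz]
    obtain ⟨j, hj⟩ : 2 ∣ i.val := by
      obtain ⟨a, ha⟩ := h4
      obtain ⟨b, hb⟩ := hdvd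
      have hb' : i.val + i.val = 4 * (a * b) := by rw [hb, ← mul_assoc, ← ha]
      exact ⟨a * b, by omega⟩
    refine ⟨DihedralGroup.r (j : ZMod (2 ^ k)), ?_⟩
    rw [DihedralGroup.r_mul_r, DihedralGroup.r.injEq, ← Nat.cast_add, ← two_mul, ← hj,
      ZMod.natCast_zmod_val]
  · exfalso
    have h := hc (DihedralGroup.r 1)
    rw [DihedralGroup.r_mul_sr, DihedralGroup.sr_mul_r, DihedralGroup.sr.injEq] at h
    have h2 : ((2 : ℕ) : ZMod (2 ^ k)) = 0 := by push_cast; linear_combination -h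
    rw [CharP.cast_eq_zero_iff (ZMod (2 ^ k)) (2 ^ k)] at h2
    have := Nat.le_of_dvd two_pos (h4.trans h2)
    omega

variable [Finite G]

theorem good_psl_two_of_mod {F : Type*} [Field F] [Fintype F] (hodd : Fintype.card F % 2 = 1)
    (h16 : 16 ∣ Fintype.card F ^ 2 - 1) :
    Good (Matrix.ProjectiveSpecialLinearGroup (Fin 2) F) := by
  intro Q z hz hz2 hzc
  obtain ⟨k, ⟨e⟩, hk⟩ := Fus.PSLTwo.exists_sylow_dihedral hodd Q
  obtain ⟨y, hy⟩ := dihedral_center_sq (hk h16) (e ⟨z, hz⟩)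
    (by rw [← map_mul, show (⟨z, hz⟩ : ↥(Q : Subgroup _)) * ⟨z, hz⟩ = 1 from Subtype.ext hz2, map_one])
    (fun x => by
      obtain ⟨x, rfl⟩ := e.surjective x
      rw [← map_mul, ← map_mul]
      exact congrArg e (Subtype.ext (hzc x x.2)))
  have h0 := congrArg e.symm hy
  rw [MulEquiv.symm_apply_apply, map_mul] at h0
  have h' : z = (e.symm y).1 * (e.symm y).1 := congrArg Subtype.val h0
  rw [h']
  exact mul_self_mem_sqGen (e.symm y).2

theorem sylow_exponent_psl_two {F : Type} [Field F] [Fintype F] (hodd : Fintype.card F % 2 = 1)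
    (h16 : ¬ 16 ∣ Fintype.card F ^ 2 - 1) (Q : Sylow 2 (Matrix.ProjectiveSpecialLinearGroup (Fin 2) F)) :
    ∀ x ∈ (Q : Subgroup (Matrix.ProjectiveSpecialLinearGroup (Fin 2) F)), x * x = 1 := by
  obtain ⟨k, ⟨e⟩, -⟩ := Fus.PSLTwo.exists_sylow_dihedral hodd Q
  have hk : k ≤ 1 := by
    by_contra hk
    push Not at hk
    refine h16 ?_
    have h8 : 8 ∣ Nat.card (Matrix.ProjectiveSpecialLinearGroup (Fin 2) F) := by
      refine dvd_trans ?_ (Subgroup.card_subgroup_dvd_card (Q : Subgroup _))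
      rw [Nat.card_congr e.toEquiv, DihedralGroup.nat_card]
      obtain ⟨j, rfl⟩ := Nat.exists_eq_add_of_le hk
      exact ⟨2 ^ j, by rw [pow_add, pow_succ, pow_succ]; ring⟩
    obtain ⟨c, hc⟩ := h8
    have hcard := Invol.GW.card_PSLTwo (F := F) (Nat.odd_iff.2 hodd)
    have h2 : 16 ∣ Fintype.card F * (Fintype.card F ^ 2 - 1) := by
      have e2 : (Fintype.card F - 1) * (Fintype.card F + 1) = Fintype.card F ^ 2 - 1 := by
        rw [mul_comm, ← Nat.sq_sub_sq, one_pow]
      rw [hc, e2] at hcard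
      exact ⟨c, by rw [← hcard]; ring⟩
    refine (Nat.Coprime.dvd_of_dvd_mul_left ?_ h2)
    exact Nat.Coprime.pow_left 4 (Nat.coprime_two_left.2 (Nat.odd_iff.2 hodd))
  intro x hx
  have h : e ⟨x, hx⟩ * e ⟨x, hx⟩ = 1 := by
    generalize e ⟨x, hx⟩ = y
    interval_cases k <;> revert y <;> decide
  rw [← map_mul, MulEquiv.map_eq_one_iff] at h
  exact congrArg Subtype.val h

namespace Setup

variable {t : G} {S : Sylow 2 G} {F : Subgroup G} (h : Setup t S F)
include h

theorem centralizer_equiv :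
    Nonempty (Subgroup.centralizer ({t} : Set G) ≃* Multiplicative (ZMod 2) × ↥F) := by
  have hc2 : Nat.card ↥(Subgroup.zpowers t) = 2 := by rw [Nat.card_zpowers, h.ht]
  haveI : Fact (Nat.Prime 2) := ⟨Nat.prime_two⟩
  let e₂ : Multiplicative (ZMod 2) ≃* ↥(Subgroup.zpowers t) :=
    mulEquivOfPrimeCardEq (p := 2) (show Nat.card (Multiplicative (ZMod 2)) = 2 from Nat.card_zmod 2) hc2
  let f := (Subgroup.inclusion h.hF.1).noncommCoprod (Subgroup.inclusion h.hF.2.1)
    (fun a b => Subtype.ext (h.hF.2.2.1 a a.2 b b.2))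
  have hf : Function.Bijective f := by
    constructor
    · rw [injective_iff_map_eq_one]
      rintro ⟨a, b⟩ hab
      have hab' : (a : G) * (b : G) = 1 := congrArg Subtype.val hab
      have hb : (b : G) = 1 := by
        refine Subgroup.mem_bot.1 (h.hF.2.2.2.1 ▸ ⟨?_, b.2⟩)
        show (b : G) ∈ Subgroup.zpowers t
        rw [← inv_eq_of_mul_eq_one_right hab']
        exact inv_mem a.2
      rw [hb, mul_one] at hab'
      exact Prod.ext (Subtype.ext hab') (Subtype.ext hb)
    · rintro ⟨c, hc⟩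
      rcases h.mem_or hc with h1 | h1
      · exact ⟨(1, ⟨c, h1⟩), Subtype.ext (one_mul _)⟩
      · exact ⟨(⟨t, Subgroup.mem_zpowers t⟩, ⟨t * c, h1⟩), Subtype.ext (by
          show t * (t * c) = c
          rw [← mul_assoc, h.sq, one_mul])⟩
  exact ⟨(MulEquiv.ofBijective f hf).symm.trans (e₂.symm.prodCongr (MulEquiv.refl _))⟩

/-- The case `F ≅ PSL₂(q)`. -/
theorem psl_two_cases [IsSimpleGroup ↥F] (hna : ¬ IsMulCommutative ↥F) {K : Type} [Field K] [Fintype K]
    (hodd : Fintype.card K % 2 = 1) (hq : 4 ≤ Fintype.card K)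
    (e : ↥F ≃* Matrix.ProjectiveSpecialLinearGroup (Fin 2) K) :
    (∃ H : Subgroup G, H.index = 2 ∧ t ∉ H) ∨ Nonempty (↥F ≃* ↥(alternatingGroup (Fin 5))) ∨
      ∃ n : ℕ, 1 ≤ n ∧ Fintype.card K = 3 ^ (2 * n + 1) := by
  classical
  haveI : Fact (Nat.Prime 2) := ⟨Nat.prime_two⟩
  by_cases h16 : 16 ∣ Fintype.card K ^ 2 - 1
  · exact Or.inl (h.exists_index_two_of_good ((good_psl_two_of_mod hodd h16).congr e))
  by_cases hH : ∃ H : Subgroup G, H.index = 2 ∧ t ∉ H
  · exact Or.inl hH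
  right
  have hexp : ∀ Q : Sylow 2 ↥F, ∀ x ∈ (Q : Subgroup ↥F), x * x = 1 := by
    intro Q x hx
    refine e.injective ?_
    rw [map_mul, map_one]
    let Q' : Sylow 2 (Matrix.ProjectiveSpecialLinearGroup (Fin 2) K) :=
      Q.mapSurjective (f := e.toMonoidHom) e.surjective
    exact sylow_exponent_psl_two hodd h16 Q' _ ⟨x, hx, rfl⟩
  have hone : ∀ x y : ↥F, orderOf x = 2 → orderOf y = 2 → IsConj x y := by
    intro x y hx hy
    have := e.symm.toMonoidHom.map_isConj (Fus.PSLTwo.involutions_conj hodd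
      ((e.orderOf_eq x).trans hx) ((e.orderOf_eq y).trans hy))
    simpa using this
  have hS := h.S_exponent hexp
  have hall := h.all_conj hexp hone hH
  obtain ⟨x, hx, hxF⟩ : ∃ x ∈ Subgroup.normalizer ((S : Subgroup G) : Set G), x⁻¹ * t * x ∈ F := by
    by_contra hcon
    exact hH (h.exists_index_two fun x hx hxF => hcon ⟨x, hx, hxF⟩)
  have hxS : x⁻¹ * t * x ∈ (S : Subgroup G) := by
    have := (Subgroup.mem_normalizer_iff.1 (inv_mem hx) t).1 h.htS
    simpa using this
  obtain ⟨hSM, hCM, hMs⟩ := h.hull_simple hna hS hall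
    ⟨_, hxS, hxF, fun e' => h.ne_one (eq_one_of_conj' e')⟩
  haveI := hMs
  have hab : ∀ P : Sylow 2 ↥(involHull G), ∀ a b : P, a * b = b * a := by
    intro P a b
    obtain ⟨g, hg⟩ := Invol.exists_conj_subset_sylow
      (P.isPGroup'.map (involHull G).subtype) S
    have hc : ∀ p ∈ (S : Subgroup G), ∀ r ∈ (S : Subgroup G), p * r = r * p := fun p hp r hr => by
      calc p * r = p * (p * r * (p * r)) * r := by rw [hS _ (mul_mem hp hr), mul_one]
        _ = (p * p) * (r * p) * (r * r) := by simp only [mul_assoc]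
        _ = _ := by rw [hS p hp, hS r hr, one_mul, mul_one]
    have := hc _ (hg _ ⟨a, a.2, rfl⟩) _ (hg _ ⟨b, b.2, rfl⟩)
    refine Subtype.ext (Subtype.ext ?_)
    show ((a : ↥(involHull G)) : G) * ((b : ↥(involHull G)) : G) = _
    have h' : g * (((a : ↥(involHull G)) : G) * ((b : ↥(involHull G)) : G)) * g⁻¹ =
        g * (((b : ↥(involHull G)) : G) * ((a : ↥(involHull G)) : G)) * g⁻¹ := by
      simpa [mul_assoc] using this
    exact mul_left_cancel (mul_right_cancel h')
  set t' : ↥(involHull G) := ⟨t, hSM h.htS⟩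
  have ht' : orderOf t' = 2 := by rw [← Subgroup.orderOf_coe]; exact h.ht
  obtain ⟨eC⟩ := h.centralizer_equiv
  have hCeq : (Subgroup.centralizer ({t} : Set G)).subgroupOf (involHull G) =
      Subgroup.centralizer ({t'} : Set ↥(involHull G)) := by
    ext c
    rw [Subgroup.mem_subgroupOf, Subgroup.mem_centralizer_singleton_iff,
      Subgroup.mem_centralizer_singleton_iff, Subtype.ext_iff]
    rfl
  have hC : Nonempty (Subgroup.centralizer ({t'} : Set ↥(involHull G)) ≃*
      Multiplicative (ZMod 2) × Matrix.ProjectiveSpecialLinearGroup (Fin 2) K) :=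
    ⟨(MulEquiv.subgroupCongr hCeq.symm).trans ((Subgroup.subgroupOfEquivOfLe hCM).trans
      (eC.trans ((MulEquiv.refl _).prodCongr e)))⟩
  rcases S0343.result hab (by omega : 3 ≤ Fintype.card K) t' ht' hC with ⟨n, hn, hcard, -⟩ | ⟨h45, -⟩
  · exact Or.inr ⟨n, hn, hcard⟩
  · refine Or.inl ?_
    have h5 : Fintype.card K = 5 := by omega
    have h60 : Nat.card (Matrix.ProjectiveSpecialLinearGroup (Fin 2) K) = 60 := by
      have := Invol.GW.card_PSLTwo (F := K) (Nat.odd_iff.2 hodd)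
      rw [h5] at this
      omega
    haveI := Classical.PSL_isSimple (F := K) (n := 2) le_rfl fun _ => by omega
    obtain ⟨e5⟩ := Fus.alternating_five_of_card (G := Matrix.ProjectiveSpecialLinearGroup (Fin 2) K) h60
    exact ⟨e.trans e5⟩

end Setup

end Cfsg.Agent.OddCentral
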