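import Mathlib

/-! A group of odd order dividing `315` and divisible by `105` has a normal Sylow 7-subgroup. -/

set_option autoImplicit false

namespace Cfsg.Agent.OddCentral

open Subgroup

variable {A : Type*} [Group A] [Finite A]

/-- A `p`-subgroup normalising a small subgroup centralises it when the residue mod `p` is large. -/
theorem centralises_of_card {p : ℕ} [Fact p.Prime] {P Q : Subgroup A} (hP : IsPGroup p P)
    (hN : P ≤ Subgroup.normalizer (Q : Set A))
    (hd : ∀ d, d ∣ Nat.card Q → Nat.card Q % p = d % p → d = Nat.card Q) :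
    ∀ x ∈ P, ∀ y ∈ Q, x * y = y * x := by
  classical
  let act : MulAction P Q :=
    { smul := fun x y => ⟨(x : A) * y * (x : A)⁻¹, (Subgroup.mem_normalizer_iff.1 (hN x.2) y).1 y.2⟩
      one_smul := fun y => Subtype.ext (by show (1 : A) * y * (1 : A)⁻¹ = y; group)
      mul_smul := fun x x' y => Subtype.ext (by
        show ((x : A) * x') * y * ((x : A) * x')⁻¹ = x * (x' * y * (x' : A)⁻¹) * (x : A)⁻¹
        group) }
  let Fx : Subgroup A := Q ⊓ Subgroup.centralizer (P : Set A)
  have e : Nat.card (MulAction.fixedPoints P Q) = Nat.card Fx := by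
    refine Nat.card_congr
      { toFun := fun y => ⟨y.1.1, y.1.2, fun x hx => by
          have := congrArg Subtype.val (y.2 ⟨x, hx⟩)
          exact mul_inv_eq_iff_eq_mul.1 this⟩
        invFun := fun y => ⟨⟨y.1, y.2.1⟩, fun x => Subtype.ext
          (mul_inv_eq_iff_eq_mul.2 (y.2.2 x x.2))⟩
        left_inv := fun y => rfl
        right_inv := fun y => rfl }
  have hm := hP.card_modEq_card_fixedPoints Q
  rw [e] at hm
  have hle : Fx ≤ Q := inf_le_left
  have hcard : Nat.card Fx = Nat.card Q := hd _ (Subgroup.card_dvd_of_le hle) hm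
  intro x hx y hy
  have := Subgroup.eq_of_le_of_card_ge hle hcard.ge
  exact ((this.symm ▸ hy : y ∈ Fx).2 x hx)

theorem card_sylow_seven {k : ℕ} (hk : k = 1 ∨ k = 2) (hA : Nat.card A = 3 ^ k * 35) :
    Nat.card (Sylow 7 A) = 1 := by
  classical
  haveI : Fact (Nat.Prime 7) := ⟨by norm_num⟩
  haveI : Fact (Nat.Prime 5) := ⟨by norm_num⟩
  haveI : Fact (Nat.Prime 3) := ⟨Nat.prime_three⟩
  by_contra hne
  have hfac : (Nat.card A).factorization 3 = k ∧ (Nat.card A).factorization 5 = 1 ∧
      (Nat.card A).factorization 7 = 1 := by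
    have h3 : Nat.card A = 3 ^ k * (5 ^ 1 * 7 ^ 1) := by rw [hA]; norm_num
    rw [h3, Nat.factorization_mul (by positivity) (by norm_num),
      Nat.factorization_mul (by norm_num) (by norm_num)]
    simp only [Finsupp.add_apply, Nat.prime_three.factorization_pow,
      (show Nat.Prime 5 by norm_num).factorization_pow, (show Nat.Prime 7 by norm_num).factorization_pow]
    simp [Finsupp.single_apply]
  let P7 : Sylow 7 A := default
  let P5 : Sylow 5 A := default
  let P3 : Sylow 3 A := default
  have c7 : Nat.card P7 = 7 := by rw [P7.card_eq_multiplicity, hfac.2.2, pow_one]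
  have c5 : Nat.card P5 = 5 := by rw [P5.card_eq_multiplicity, hfac.2.1, pow_one]
  have c3 : Nat.card P3 = 3 ^ k := by rw [P3.card_eq_multiplicity, hfac.1]
  set N7 := Subgroup.normalizer ((P7 : Subgroup A) : Set A)
  set N5 := Subgroup.normalizer ((P5 : Subgroup A) : Set A)
  set N3 := Subgroup.normalizer ((P3 : Subgroup A) : Set A)
  have h7 := P7.card_eq_index_normalizer
  have h5 := P5.card_eq_index_normalizer
  have h3 := P3.card_eq_index_normalizer
  have m7 := card_sylow_modEq_one 7 A
  have m5 := card_sylow_modEq_one 5 A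
  have m3 := card_sylow_modEq_one 3 A
  have d7 := P7.card_dvd_index
  have d5 := P5.card_dvd_index
  have d3 := P3.card_dvd_index
  have e7 := (P7 : Subgroup A).card_mul_index
  have e5 := (P5 : Subgroup A).card_mul_index
  have e3 := (P3 : Subgroup A).card_mul_index
  rw [c7, hA] at e7
  rw [c5, hA] at e5
  rw [c3, hA, mul_right_inj' (by positivity)] at e3
  rw [e3] at d3
  rw [Nat.ModEq] at m7 m5 m3
  -- the normaliser of a Sylow 7-subgroup is too small
  have hn7 : Nat.card (Sylow 7 A) = 15 := by
    have hi : (P7 : Subgroup A).index = 3 ^ k * 5 := by omega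
    rw [hi] at d7
    have hle : Nat.card (Sylow 7 A) ≤ 3 ^ k * 5 := Nat.le_of_dvd (by positivity) d7
    rcases hk with rfl | rfl <;> norm_num at d7 hle ⊢ <;>
      interval_cases h : Nat.card (Sylow 7 A) <;> omega
  have eN : Nat.card N7 * 15 = 3 ^ k * 35 := by
    rw [← hA, ← N7.card_mul_index, ← hn7, h7]; rfl
  have hN5 : ¬ 5 ∣ Nat.card N7 := by
    rintro ⟨c, hc⟩
    rw [hc] at eN
    rcases hk with rfl | rfl <;> norm_num at eN <;> omega
  have hN3 : ¬ 3 ^ k ∣ Nat.card N7 := by
    rintro ⟨c, hc⟩
    rw [hc] at eN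
    rcases hk with rfl | rfl <;> norm_num at eN <;> omega
  have hnotc : ∀ Q : Subgroup A, (∀ x ∈ (P7 : Subgroup A), ∀ y ∈ Q, x * y = y * x) →
      ¬ (5 ∣ Nat.card Q ∨ 3 ^ k ∣ Nat.card Q) := by
    intro Q hQ h
    have hle : Q ≤ N7 := fun y hy => by
      rw [Subgroup.mem_normalizer_iff]
      intro x
      constructor
      · intro hx
        rw [← hQ x hx y hy, mul_inv_cancel_right]
        exact hx
      · intro hx
        have e1 := hQ _ hx y hy
        have e2 : y * x * y⁻¹ = x := mul_left_cancel (a := y) (by rw [← e1]; group)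
        exact e2 ▸ hx
    rcases h with h | h
    · exact hN5 (h.trans (Subgroup.card_dvd_of_le hle))
    · exact hN3 (h.trans (Subgroup.card_dvd_of_le hle))
  have d35 : Nat.card (Sylow 3 A) = 1 ∨ Nat.card (Sylow 3 A) = 7 := by
    have := Nat.le_of_dvd (by norm_num) d3
    interval_cases h : Nat.card (Sylow 3 A) <;> omega
  rcases d35 with hn | hn
  · refine hnotc (P3 : Subgroup A) (centralises_of_card P7.isPGroup' ?_ ?_) (Or.inr (dvd_of_eq c3.symm))
    · rw [hn, eq_comm, Subgroup.index_eq_one] at h3
      exact h3.symm ▸ le_top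
    · intro d hd hmod
      rw [c3] at hd hmod ⊢
      rcases hk with rfl | rfl <;> norm_num at hd hmod ⊢ <;>
        (have := Nat.le_of_dvd (by norm_num) hd; interval_cases d <;> omega)
  -- an element of order five centralises the Sylow 3-subgroup
  have eN3 : Nat.card N3 * 7 = 3 ^ k * 35 := by
    rw [← hA, ← N3.card_mul_index, ← hn, h3]; rfl
  obtain ⟨c, hc⟩ := exists_prime_orderOf_dvd_card' (G := N3) 5 (by
    rcases hk with rfl | rfl <;> norm_num at eN3 <;> omega)
  have hZ : IsPGroup 5 (Subgroup.zpowers (c : A)) := IsPGroup.of_card (n := 1) (by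
    rw [Nat.card_zpowers, Subgroup.orderOf_coe, hc, pow_one])
  have hcent := centralises_of_card hZ (Q := (P3 : Subgroup A)) (Subgroup.zpowers_le.2 c.2) (fun d hd hmod => by
    rw [c3] at hd hmod ⊢
    rcases hk with rfl | rfl <;> norm_num at hd hmod ⊢ <;>
      (have := Nat.le_of_dvd (by norm_num) hd; interval_cases d <;> omega))
  obtain ⟨R, hR⟩ := hZ.exists_le_sylow
  have hRc : (R : Subgroup A) = Subgroup.zpowers (c : A) := by
    refine (Subgroup.eq_of_le_of_card_ge hR ?_).symm
    rw [R.card_eq_multiplicity, hfac.2.1, Nat.card_zpowers, Subgroup.orderOf_coe, hc, pow_one]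
  have hle3 : (P3 : Subgroup A) ≤ Subgroup.normalizer ((R : Subgroup A) : Set A) := fun y hy => by
    rw [hRc, Subgroup.mem_normalizer_iff]
    intro x
    constructor
    · intro hx
      rw [← hcent x hx y hy, mul_inv_cancel_right]
      exact hx
    · intro hx
      have e1 := hcent _ hx y hy
      have e2 : y * x * y⁻¹ = x := mul_left_cancel (a := y) (by rw [← e1]; group)
      exact e2 ▸ hx
  have hn5 : Nat.card (Sylow 5 A) = 1 := by
    have d1 : Nat.card (Sylow 5 A) ∣ 7 := by
      have hd := Subgroup.card_dvd_of_le hle3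
      rw [c3] at hd
      have hmul := (Subgroup.normalizer ((R : Subgroup A) : Set A)).card_mul_index
      rw [hA, show (Subgroup.normalizer ((R : Subgroup A) : Set A)).index = Nat.card (Sylow 5 A) from
        R.card_eq_index_normalizer.symm] at hmul
      obtain ⟨u, hu⟩ := hd
      rw [hu, mul_assoc, mul_right_inj' (by positivity)] at hmul
      have h5d : Nat.card (Sylow 5 A) ∣ 3 ^ k * 7 := by
        have hi : (P5 : Subgroup A).index = 3 ^ k * 7 := by omega
        exact hi ▸ d5
      have h35 : Nat.card (Sylow 5 A) ∣ 35 := ⟨u, by rw [← hmul, mul_comm]⟩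
      have := Nat.dvd_gcd h5d h35
      rcases hk with rfl | rfl <;> norm_num at this <;> exact this
    rcases (Nat.dvd_prime (by norm_num)).1 d1 with e | e
    · exact e
    · rw [e] at m5; norm_num at m5
  refine hnotc (P5 : Subgroup A) (centralises_of_card P7.isPGroup' ?_ ?_) (Or.inl (dvd_of_eq c5.symm))
  · rw [hn5, eq_comm, Subgroup.index_eq_one] at h5
    exact h5.symm ▸ le_top
  · intro d hd hmod
    rw [c5] at hd hmod ⊢
    have := Nat.le_of_dvd (by norm_num) hd
    interval_cases d <;> omega

end Cfsg.Agent.OddCentral
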