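import Cfsg.Agent.Lib.Fus.OddCentral.Elementary
import Cfsg.Agent.Lib.Fus.OddCentral.OddFifteen
import Cfsg.Agent.Lib.Grp.SqClass.PermBound

/-! If the Sylow 2-subgroups of `F` are elementary abelian of order eight and all involutions of
`F` are conjugate, there is a subgroup of index 2. -/

set_option autoImplicit false

namespace Cfsg.Agent.OddCentral

open Subgroup

variable {G : Type*} [Group G] [Finite G] {t : G} {S : Sylow 2 G} {F : Subgroup G}

theorem Setup.index_two_of_eight (h : Setup t S F)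
    (hexp : ∀ Q : Sylow 2 ↥F, ∀ x ∈ (Q : Subgroup ↥F), x * x = 1)
    (hone : ∀ x y : ↥F, orderOf x = 2 → orderOf y = 2 → IsConj x y)
    (h8 : ∀ Q : Sylow 2 ↥F, Nat.card (Q : Subgroup ↥F) = 8) :
    ∃ H : Subgroup G, H.index = 2 ∧ t ∉ H := by
  classical
  haveI : Fact (Nat.Prime 2) := ⟨Nat.prime_two⟩
  haveI : Fact (Nat.Prime 7) := ⟨by norm_num⟩
  by_contra hno
  have hall := h.all_conj hexp hone hno
  have hS := h.S_exponent hexp
  obtain ⟨Q, hQ⟩ := h.exists_sylow_F
  set T := (S : Subgroup G) with hT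
  set V := T ⊓ F with hV
  have hV8 : Nat.card V = 8 := by
    rw [← h8 Q, hQ]
    exact Nat.card_congr
      { toFun := fun v => ⟨⟨v, v.2.2⟩, v.2.1⟩
        invFun := fun v => ⟨v.1, v.2, v.1.2⟩
        left_inv := fun v => rfl
        right_inv := fun v => rfl }
  let tT : T := ⟨t, h.htS⟩
  have hcosets : ∀ s : T, (s : G) ∈ F ∨ t * (s : G) ∈ F := fun s => h.mem_or (h.S_le s.2)
  have h16 : Nat.card T = 16 := by
    let e : T ≃ Bool × V :=
      { toFun := fun s => if hs : (s : G) ∈ F then (false, ⟨s, s.2, hs⟩)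
          else (true, ⟨t * s, mul_mem h.htS s.2, (hcosets s).resolve_left hs⟩)
        invFun := fun p => if p.1 then ⟨t * p.2, mul_mem h.htS p.2.2.1⟩ else ⟨p.2, p.2.2.1⟩
        left_inv := fun s => by
          by_cases hs : (s : G) ∈ F
          · simp [hs]
          · simp [hs, ← mul_assoc, h.sq]
        right_inv := fun p => by
          obtain ⟨b, v, hv1, hv2⟩ := p
          cases b
          · simp only [Bool.false_eq_true, if_false]
            exact dif_pos hv2
          · have : t * v ∉ F := fun hh => h.t_notMem (by simpa using mul_mem hh (inv_mem hv2))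
            simp [this, ← mul_assoc, h.sq] }
    rw [Nat.card_congr e, Nat.card_prod, hV8, Nat.card_eq_fintype_card, Fintype.card_bool]
  set N := Subgroup.normalizer (T : Set G) with hN
  haveI : (T.subgroupOf N).Normal := Subgroup.normal_in_normalizer
  let α : ↥N →* MulAut ↥(T.subgroupOf N) := MulAut.conjNormal
  set A := α.range with hA
  have hT16 : Nat.card ↥(T.subgroupOf N) = 16 := by
    rw [Nat.card_congr (Subgroup.subgroupOfEquivOfLe Subgroup.le_normalizer).toEquiv, h16]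
  have hTc : ∀ a ∈ T, ∀ b ∈ T, a * b = b * a := fun a ha b hb => by
    calc a * b = a * (a * b * (a * b)) * b := by rw [hS (a * b) (mul_mem ha hb), mul_one]
      _ = (a * a) * (b * a) * (b * b) := by simp only [mul_assoc]
      _ = _ := by rw [hS a ha, hS b hb, one_mul, mul_one]
  obtain ⟨j, hj, hcardAut⟩ := SqClass.card_mulAut_elem (r := 2) (M := ↥(T.subgroupOf N))
    (fun a b => Subtype.ext (Subtype.ext (hTc _ a.2 _ b.2)))
    (fun a => Subtype.ext (Subtype.ext (by
      show (a : ↥N).1 ^ 2 = 1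
      rw [pow_two]
      exact hS _ a.2)))
  have hj4 : j = 4 := Nat.pow_right_injective le_rfl (show 2 ^ j = 2 ^ 4 by rw [← hj, hT16])
  rw [hj4, show (∏ i : Fin 4, (2 ^ 4 - 2 ^ (i : ℕ))) = 20160 by decide] at hcardAut
  have hA20160 : Nat.card A ∣ 20160 := hcardAut ▸ Subgroup.card_subgroup_dvd_card A
  have hAodd : ¬ 2 ∣ Nat.card A := by
    intro hd
    rw [hA, ← Subgroup.index_ker] at hd
    have hle : T.subgroupOf N ≤ α.ker := fun s hs => MulEquiv.ext fun x => Subtype.ext (Subtype.ext (by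
      show ((s : G) * ((x : ↥N) : G) * (s : G)⁻¹) = ((x : ↥N) : G)
      rw [mul_inv_eq_iff_eq_mul]
      exact hTc _ hs _ x.2))
    exact S.not_dvd_index ((hd.trans (Subgroup.index_dvd_of_le hle)).trans
      (Subgroup.relIndex_dvd_index_of_le Subgroup.le_normalizer))
  let tN : ↥(T.subgroupOf N) := ⟨⟨t, Subgroup.le_normalizer h.htS⟩, h.htS⟩
  letI : MulAction ↥A ↥(T.subgroupOf N) := MulAction.compHom _ A.subtype
  have hsm : ∀ (a : ↥A) x, a • x = (a : MulAut ↥(T.subgroupOf N)) x := fun _ _ => rfl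
  have horbt : MulAction.orbit ↥A tN = {x | x ≠ 1} := by
    ext x
    constructor
    · rintro ⟨a, rfl⟩ e
      change (a : MulAut ↥(T.subgroupOf N)) tN = 1 at e
      exact h.ne_one (congrArg (fun z : ↥(T.subgroupOf N) => ((z : ↥N) : G))
        (((a : MulAut ↥(T.subgroupOf N)).map_eq_one_iff).1 e))
    · intro hx
      obtain ⟨g, hg, hge⟩ := hall _ (x.2 : (x : ↥N).1 ∈ T)
        (fun e => hx (Subtype.ext (Subtype.ext e)))
      refine ⟨⟨α ⟨g⁻¹, inv_mem hg⟩, _, rfl⟩, Subtype.ext (Subtype.ext ?_)⟩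
      show g⁻¹ * t * g⁻¹⁻¹ = _
      rw [inv_inv, hge]
      rfl
  set stT := MulAction.stabilizer ↥A tN
  have hst15 : Nat.card A = 15 * Nat.card stT := by
    have e := (MulAction.stabilizer ↥A tN).index_mul_card
    rw [MulAction.index_stabilizer, horbt] at e
    rw [← e]
    congr 1
    have : ({x | x ≠ 1} : Set ↥(T.subgroupOf N)) = {(1 : ↥(T.subgroupOf N))}ᶜ := by ext; simp
    rw [this, Set.ncard_compl, hT16, Set.ncard_singleton]
  -- the normaliser in `F` acts transitively on seven points fixing `t`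
  let AF : Subgroup ↥A := ((F.subgroupOf N).map α).subgroupOf A
  have hAF : AF ≤ stT := by
    rintro a ⟨n, hn, he⟩
    refine MulAction.mem_stabilizer_iff.2 ?_
    rw [hsm, show (a : MulAut ↥(T.subgroupOf N)) = α n from he.symm]
    refine Subtype.ext (Subtype.ext ?_)
    show (n : G) * t * (n : G)⁻¹ = t
    exact mul_inv_eq_iff_eq_mul.2 (h.commute_t (hn : (n : G) ∈ F)).eq.symm
  obtain ⟨v₀, hv₀, hv₀1⟩ : ∃ v ∈ V, v ≠ (1 : G) := by
    by_contra hcon
    push Not at hcon
    have : Nat.card V = 1 := Subgroup.card_eq_one.2 ((Subgroup.eq_bot_iff_forall _).2 hcon)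
    omega
  let vN : ↥(T.subgroupOf N) := ⟨⟨v₀, Subgroup.le_normalizer hv₀.1⟩, hv₀.1⟩
  have h7orb : (MulAction.orbit ↥AF vN).ncard = 7 := by
    let f : ↥(T.subgroupOf N) → G := fun x => ((x : ↥N) : G)
    have hf : Function.Injective f := fun a b e => Subtype.ext (Subtype.ext e)
    rw [← Set.ncard_image_of_injective _ hf]
    have e : f '' MulAction.orbit ↥AF vN = (V : Set G) \ {1} := by
      ext w
      constructor
      · rintro ⟨_, ⟨⟨a, n, hn, he⟩, rfl⟩, rfl⟩
        have e : f ((⟨a, n, hn, he⟩ : ↥AF) • vN) = (n : G) * v₀ * (n : G)⁻¹ := by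
          show f ((a : MulAut ↥(T.subgroupOf N)) vN) = _
          rw [show (a : MulAut ↥(T.subgroupOf N)) = α n from he.symm]
          rfl
        show f _ ∈ (V : Set G) \ {1}
        rw [e]
        refine ⟨⟨?_, F.mul_mem (F.mul_mem hn hv₀.2) (F.inv_mem hn)⟩, fun e => hv₀1 (conj_eq_one_iff.1 e)⟩
        exact (Subgroup.mem_normalizer_iff.1 n.2 v₀).1 hv₀.1
      · rintro ⟨hw, hw1⟩
        obtain ⟨n, hnF, hnN, hne⟩ := h.fusion_F hexp hone hv₀.1 hv₀.2 hv₀1 hw.1 hw.2 hw1
        refine ⟨_, ⟨⟨⟨α ⟨n⁻¹, inv_mem hnN⟩, _, rfl⟩, ⟨n⁻¹, inv_mem hnN⟩,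
          (inv_mem hnF : n⁻¹ ∈ F), rfl⟩, rfl⟩, ?_⟩
        show n⁻¹ * v₀ * n⁻¹⁻¹ = w
        rw [inv_inv, hne]
    rw [e, Set.ncard_sdiff_singleton_of_mem (one_mem V), ← Nat.card_coe_set_eq]
    simp only [SetLike.coe_sort_coe, hV8]
  have h7dvd : 7 ∣ Nat.card stT := by
    refine dvd_trans ?_ (Subgroup.card_dvd_of_le hAF)
    rw [← h7orb, ← MulAction.index_stabilizer]
    exact Subgroup.index_dvd_card _
  obtain ⟨c, hc⟩ := h7dvd
  have hA105 : Nat.card A = 3 ^ 1 * 35 ∨ Nat.card A = 3 ^ 2 * 35 := by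
    rw [hc] at hst15
    have hd : 105 * c ∣ 105 * 192 := by
      rw [show 105 * c = 15 * (7 * c) by ring, ← hst15]; exact hA20160
    have hcd : c ∣ 192 := Nat.dvd_of_mul_dvd_mul_left (by norm_num) hd
    have hcodd : ¬ 2 ∣ c := fun hh => hAodd (hst15 ▸ hh.trans ⟨105, by ring⟩)
    have hc3 : c ∣ 3 := by
      have : Nat.Coprime c (2 ^ 6) := Nat.Coprime.pow_right 6
        ((Nat.prime_two.coprime_iff_not_dvd.2 hcodd).symm)
      exact this.dvd_of_dvd_mul_left (by simpa using hcd)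
    rcases (Nat.dvd_prime Nat.prime_three).1 hc3 with rfl | rfl
    · left; rw [hst15]; rfl
    · right; rw [hst15]; rfl
  -- the Sylow 7-subgroup is normal and fixes `t`
  have hn7 : Nat.card (Sylow 7 ↥A) = 1 := by
    rcases hA105 with e | e
    · exact card_sylow_seven (Or.inl rfl) e
    · exact card_sylow_seven (Or.inr rfl) e
  haveI : Subsingleton (Sylow 7 ↥A) := (Nat.card_eq_one_iff_unique.1 hn7).1
  obtain ⟨a, ha⟩ := exists_prime_orderOf_dvd_card' (G := stT) 7 ⟨c, hc⟩
  have hP : IsPGroup 7 (Subgroup.zpowers (a : ↥A)) := IsPGroup.of_card (n := 1) (by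
    rw [Nat.card_zpowers, Subgroup.orderOf_coe, ha, pow_one])
  obtain ⟨P, hP'⟩ := hP.exists_le_sylow
  have hPcard : Nat.card P ≤ 7 := by
    rw [P.card_eq_multiplicity]
    have : (Nat.card ↥A).factorization 7 ≤ 1 := by
      rcases Nat.lt_or_ge ((Nat.card ↥A).factorization 7) 2 with hh | hh
      · omega
      · exfalso
        have h49 : 7 ^ 2 ∣ Nat.card ↥A :=
          (pow_dvd_pow 7 hh).trans (Nat.ordProj_dvd _ _)
        rcases hA105 with e | e <;> rw [e] at h49 <;> norm_num at h49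
    calc 7 ^ (Nat.card ↥A).factorization 7 ≤ 7 ^ 1 := Nat.pow_le_pow_right (by norm_num) this
      _ = 7 := pow_one 7
  have hPeq : (P : Subgroup ↥A) = Subgroup.zpowers (a : ↥A) :=
    (Subgroup.eq_of_le_of_card_ge hP' (by
      rw [Nat.card_zpowers, Subgroup.orderOf_coe, ha]; exact hPcard)).symm
  haveI : (P : Subgroup ↥A).Normal := P.normal_of_subsingleton
  have hfix : ∀ x : ↥(T.subgroupOf N), (a : ↥A) • x = x := by
    intro x
    by_cases hx : x = 1
    · rw [hx, hsm]; exact map_one _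
    · obtain ⟨g, rfl⟩ : x ∈ MulAction.orbit ↥A tN := by rw [horbt]; exact hx
      have hm : g⁻¹ * (a : ↥A) * g⁻¹⁻¹ ∈ stT := by
        have h1 : g⁻¹ * (a : ↥A) * g⁻¹⁻¹ ∈ (P : Subgroup ↥A) :=
          Subgroup.Normal.conj_mem inferInstance _ (hP' (Subgroup.mem_zpowers _)) _
        rw [hPeq] at h1
        exact (Subgroup.zpowers_le.2 a.2) h1
      rw [MulAction.mem_stabilizer_iff, inv_inv, mul_smul, mul_smul, inv_smul_eq_iff] at hm
      exact hm
  have ha1 : (a : ↥A) = 1 := Subtype.ext (MulEquiv.ext fun x => hfix x)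
  rw [← Subgroup.orderOf_coe, ha1, orderOf_one] at ha
  omega

end Cfsg.Agent.OddCentral
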