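import Cfsg.Agent.Lib.Fus.OddCentral.Frame
import Cfsg.Agent.Lib.Lie.Chev.TwistD4

/-! Central involutions of Sylow 2-subgroups of ³D₄(q), q odd, lie in the subgroup of squares. -/

set_option autoImplicit false

namespace Cfsg.Agent.OddCentral

open Cfsg.Lie Cfsg.Agent.Lie.Chev

/-- With the parities and the pairing with the highest root: the central node goes to a positive
root, and if that one is fixed by the graph symmetry then all outer nodes stay positive. -/
def checkD4Cases : Bool :=
  let T := certFullD4.T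
  let ok : ℕ → ℕ → Bool := fun b s =>
    ([2, 13].all fun y => T.parityEven y b == T.parityEven y s) &&
      intBeq (T.pairing 23 b) (T.pairing 23 s)
  (List.range 24).all fun b2 => !(ok b2 14) || (Nat.ble 12 b2 &&
    (!(Nat.beq (graphD4.ρ b2) b2) || [18, 13, 12].all fun s => (List.range 24).all fun b =>
      !(ok b s) || !(intBeq (T.pairing b b2) (T.pairing s 14)) || Nat.ble 12 b))

theorem checkD4Cases_ok : checkD4Cases = true := by decide +kernel

theorem twistedD4_table :
    certFullD4.T.checkPairNeg = true ∧ certFullD4.T.checkMoved [2, 13] = true ∧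
      certFullD4.T.checkFrameRoots [23] = true ∧
      certFullD4.T.checkWit [23] [(0, 2), (2, 3)] [23] [[], [23]] = true := by
  refine ⟨?_, ?_, ?_, ?_⟩ <;> decide +kernel

theorem twistedD4_values :
    graphD4.ρ 23 = 23 ∧ graphD4.ε 23 = 1 ∧ chevD4.neg 23 = 0 ∧ graphD4.ρ 0 = 0 ∧
      graphD4.ε 0 = 1 ∧ graphD4.ρ 18 = 13 ∧ graphD4.ρ 13 = 12 ∧
    (([2, 13].all fun y => (List.range 4).all fun j =>
      Nat.testBit y (graphD4.τ' j) == Nat.testBit y j) = true) := by
  decide +kernel

variable {K : Type*} [Field K]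

theorem twistedD4_word (f : K →+* K) (h2 : (2 : K) ≠ 0) {g a : GL chevD4.Idx K}
    (hg : g ∈ (D4.tw f).fix) (ha : a ∈ chevD4.diagonalSubgroup K) {L : List ℕ}
    (hL : ∀ p ∈ L, p < chevD4.rank) (e : g = a * certFullD4.nw K L)
    (hk : ∀ y ∈ [2, 13], certFullD4.KeepsChar (CertFull.signPar K y) L)
    (hfix : certFullD4.wl L 23 = 23) : g ∈ chevD4.diagonalSubgroup K := by
  set c := certFullD4
  obtain ⟨s0, s1, s2, s3, hrank, hn, -, -, -, -⟩ := D4.simple_values
  have hlt : ∀ {x : ℕ}, x < 24 → x < chevD4.nroots := fun h => hn.symm ▸ h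
  set ok : ℕ → ℕ → Bool := fun b s =>
    ([2, 13].all fun y => c.T.parityEven y b == c.T.parityEven y s) &&
      intBeq (c.T.pairing 23 b) (c.T.pairing 23 s)
  have hok : ∀ s, s < 24 → ok (c.wl L s) s = true := by
    intro s hs
    simp only [ok, Bool.and_eq_true, List.all_eq_true, beq_iff_eq]
    refine ⟨fun y hy => Bool.eq_iff_iff.2 ?_, ?_⟩
    · rw [← c.tchar_signPar_iff h2, ← c.tchar_signPar_iff h2, hk y hy s (hlt hs)]
    · have := c.pairing_wl hL (hlt (show 23 < 24 by norm_num)) (hlt hs)
      rw [hfix] at this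
      rw [this]
      exact CertFull.intBeq_self _
  have hcases := checkD4Cases_ok
  simp only [checkD4Cases, List.all_eq_true, List.mem_range, Bool.or_eq_true, Bool.and_eq_true,
    Nat.ble_eq, Bool.not_eq_true', Nat.beq_eq] at hcases
  set b2 := c.wl L 14
  have hb2 : b2 < 24 := hn ▸ c.wl_lt hL (hlt (by norm_num))
  obtain ⟨hp2, hout⟩ := (hcases b2 hb2).resolve_left (by
    intro h
    have h14 := hok 14 (by norm_num)
    simp only [ok] at h14
    rw [h14] at h
    cases h)
  have hpos : ∀ {x : ℕ}, 12 ≤ x → x < 24 → c.Pos x := fun h1 h3 => ⟨h1, hlt h3⟩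
  -- `g` is fixed, so `b2` is fixed by the symmetry
  have hρ : graphD4.ρ b2 = b2 := by
    obtain ⟨hgG, hga⟩ := (D4.tw f).mem_fix.1 hg
    obtain ⟨k, hk0, hk'⟩ := c.mono_mul_xg (F := K) ha hL (hlt (show 14 < 24 by norm_num))
    rw [← e] at hk'
    have h14 : graphD4.ρ 14 = 14 ∧ graphD4.ε 14 = 1 := by decide
    have hact := congrArg (D4.tw f).act (hk' 1)
    have hm := c.xg_mem_group (F := K) (hlt hb2) (k * 1)
    rw [(D4.tw f).act_mul hgG (c.xg_mem_group (hlt (by norm_num)) _), (D4.tw f).act_mul hm hgG, hga,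
      D4.act_x f (by norm_num) h14.2, h14.1, map_one, hk' 1, (D4.tw f).act_xg (hlt hb2)] at hact
    have h := mul_right_cancel hact
    exact (c.xg_eq_xg_pos (hpos hp2 hb2) (mul_ne_zero hk0 one_ne_zero)
      ((D4.tw f).ρ_lt _ (hlt hb2)) h.symm).1
  have hout' : ∀ s ∈ [18, 13, 12], c.Pos (c.wl L s) := by
    intro s hs
    have hs' : s < 24 := by
      simp only [List.mem_cons, List.not_mem_nil, or_false] at hs
      omega
    have hbl : c.wl L s < 24 := hn ▸ c.wl_lt hL (hlt hs')
    rcases hout with h | h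
    · have hb : Nat.beq (graphD4.ρ b2) b2 = true := beq_of_eq hρ
      rw [h] at hb
      cases hb
    rcases h s hs (c.wl L s) hbl with (h | h) | h
    · have h' := hok s hs'
      simp only [ok] at h'
      rw [h'] at h
      cases h
    · rw [c.pairing_wl hL (hlt hs') (hlt (show 14 < 24 by norm_num)), CertFull.intBeq_self] at h
      cases h
    · exact hpos h hbl
  rw [e]
  refine c.mem_H_of_wl ha hL fun q hq => ?_
  rw [hrank] at hq
  interval_cases q
  · rw [s0]; exact hout' 18 (by simp)
  · rw [s1]; exact hpos hp2 hb2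
  · rw [s2]; exact hout' 13 (by simp)
  · rw [s3]; exact hout' 12 (by simp)

theorem good_twistedD4 [Fintype K] {p : ℕ} [Fact p.Prime] [CharP K p]
    (hp : p ≠ 2) {q : ℕ} (f : K →+* K) (hf : ∀ t, f t = t ^ q) (hK : Fintype.card K = q ^ 3) :
    Good ↥(twistedD4 K q) := by
  obtain ⟨t1, t2, t3, t4⟩ := twistedD4_table
  obtain ⟨e1, e2, e3, e4, e5, e18, e13, v2⟩ := twistedD4_values
  obtain ⟨s0, s1, s2, s3, hrank, hn, -, -, -, -⟩ := D4.simple_values
  simp only [List.all_eq_true, beq_iff_eq, List.mem_range] at v2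
  have h2 : (2 : K) ≠ 0 := by
    intro e
    have hd : p ∣ 2 := (CharP.cast_eq_zero_iff K p 2).1 (by exact_mod_cast e)
    exact hp ((Nat.prime_dvd_prime_iff_eq Fact.out Nat.prime_two).1 hd)
  have hG : twistedD4 K q = (D4.tw f).fix := (D4.datum f hf hK).eq_fix
  rw [hG]
  refine certFullD4.good_of_frame hp (D4.tw f).fix_le_group t1 t2 t3 (fun r hr => hr) t4
    (fun _ => 1) (fun y hy => ?_) (fun r hr hlt => ?_) ?_ ?_
  · rw [(D4.tw f).mem_fix]
    refine ⟨certFullD4.B_le_group (certFullD4.H_le_B (certFullD4.torus_mem _)), ?_⟩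
    rw [(D4.tw f).act_torus, Cert.torus_apply, Cert.torus_apply]
    refine dg_ext chevD4 K fun u _ => Finset.prod_congr rfl fun j hj => ?_
    rw [Finset.mem_range] at hj
    congr 1
    refine Units.ext ?_
    rw [(D4.tw f).zAct_apply _ hj]
    show f ((CertFull.signPar K y (graphD4.τ' j) : Kˣ) : K) = _
    rw [CertFull.signPar, v2 y hy j (hrank ▸ hj)]
    show f _ = ((CertFull.signPar K y j : Kˣ) : K)
    rw [CertFull.signPar]
    cases Nat.testBit y j <;> simp
  · obtain rfl := List.mem_singleton.1 hr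
    constructor
    · rw [(D4.tw f).mem_fix]
      refine ⟨certFullD4.xg_mem_group hlt _, ?_⟩
      rw [D4.act_x f (by norm_num) e2, e1, Units.val_one, map_one]
    · rw [(D4.tw f).mem_fix, Units.val_one, inv_one, e3]
      refine ⟨certFullD4.xg_mem_group (e3 ▸ certFullD4.neg_lt hlt) _, ?_⟩
      rw [D4.act_x f (by norm_num) e5, e4, map_one]
  · intro z hz hpm q hq
    have key : ∀ r r', r < 24 → graphD4.ε r = 1 → graphD4.ρ r = r' → r' < 24 →
        certFullD4.tchar z r = certFullD4.tchar z r' := by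
      intro r r' hr hε hρ hr'
      have hlt : r < chevD4.nroots := hn.symm ▸ hr
      have hlt' : r' < chevD4.nroots := hn.symm ▸ hr'
      have h := congrArg (D4.tw f).act (certFullD4.torus_conj_xg z hlt (1 : K))
      have hzG := (D4.tw f).fix_le_group hz
      have hza : (D4.tw f).act (certFullD4.torus z) = certFullD4.torus z :=
        ((D4.tw f).mem_fix.1 hz).2
      rw [(D4.tw f).act_mul (mul_mem hzG (certFullD4.xg_mem_group hlt _)) (inv_mem hzG),
        (D4.tw f).act_mul hzG (certFullD4.xg_mem_group hlt _), (D4.tw f).act_inv hzG, hza,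
        D4.act_x f hr hε, D4.act_x f hr hε, hρ, map_one, certFullD4.torus_conj_xg z hlt',
        mul_one, mul_one] at h
      refine Units.ext ?_
      rw [certFullD4.xg_inj hlt' h]
      rcases hpm r hlt with e | e <;> rw [e] <;> simp
    have hv := D4.graphD4_values.2
    simp only [List.all_eq_true, beq_iff_eq] at hv
    simp only [List.mem_cons, List.not_mem_nil, or_false] at hq
    rcases hq with rfl | rfl
    · refine ⟨by rw [hrank]; norm_num, by rw [hrank]; norm_num, ?_⟩
      rw [s0, s2]
      exact key 18 13 (by norm_num) (hv 18 (by simp)) e18 (by norm_num)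
    · refine ⟨by rw [hrank]; norm_num, by rw [hrank]; norm_num, ?_⟩
      rw [s2, s3]
      exact key 13 12 (by norm_num) (hv 13 (by simp)) e13 (by norm_num)
  · intro g hg a ha L hL e _ hk hfix _
    exact twistedD4_word f h2 hg ha hL e hk (hfix 23 (by simp))

end Cfsg.Agent.OddCentral
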