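import Cfsg.Agent.Lib.Fus.OddCentral.Frame
import Cfsg.Agent.Lib.Lie.Chev.TwistRootSwap

/-! Central involutions of Sylow 2-subgroups of ²E₆(q), q odd, lie in the subgroup of squares. -/

set_option autoImplicit false

namespace Cfsg.Agent.OddCentral

open Cfsg.Lie Cfsg.Agent.Lie.Chev

theorem twistedE6_table :
    certFullE6.T.checkPairNeg = true ∧ certFullE6.T.checkMoved [33, 20, 2, 8] = true ∧
      certFullE6.T.checkFrameRoots [71, 60, 44, 39] = true ∧
      certFullE6.T.checkFixed [33, 20, 2, 8] [71, 60, 44, 39] = true ∧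
      certFullE6.T.checkWit [71, 60, 44, 39] [] [71, 60, 44, 39]
        [[], [71, 39], [71], [71, 60, 44], [71, 60], [71, 44], [71, 44, 39], [71, 60, 39]]
        = true := by
  refine ⟨?_, ?_, ?_, ?_, ?_⟩ <;> decide +kernel

theorem twistedE6_values :
    ([71, 60, 44, 39].all fun r => Nat.beq (graphE6.ρ r) r && graphE6.ε r == 1 &&
      Nat.beq (chevE6.neg r) (71 - r) && Nat.beq (graphE6.ρ (71 - r)) (71 - r) &&
      graphE6.ε (71 - r) == 1) = true ∧
    ([33, 20, 2, 8].all fun y => (List.range 6).all fun j =>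
      Nat.testBit y (graphE6.τ' j) == Nat.testBit y j) = true := by
  decide +kernel

theorem good_twistedE6 {K : Type*} [Field K] [Fintype K] {p : ℕ} [Fact p.Prime] [CharP K p]
    (hp : p ≠ 2) {q : ℕ} (f : K →+* K) (hf : ∀ t, f t = t ^ q) (hK : Fintype.card K = q ^ 2) :
    Good ↥(twistedE6 K q) := by
  obtain ⟨t1, t2, t3, t4, t5⟩ := twistedE6_table
  obtain ⟨v1, v2⟩ := twistedE6_values
  simp only [List.all_eq_true, Bool.and_eq_true, Nat.beq_eq, beq_iff_eq, List.mem_range] at v1 v2
  have h2 : (2 : K) ≠ 0 := by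
    intro e
    have hd : p ∣ 2 := (CharP.cast_eq_zero_iff K p 2).1 (by exact_mod_cast e)
    exact hp ((Nat.prime_dvd_prime_iff_eq Fact.out Nat.prime_two).1 hd)
  have hG : twistedE6 K q = (E6.tw f).fix := (E6.datum f hf hK).eq_fix
  rw [hG]
  refine certFullE6.good_of_frame hp (E6.tw f).fix_le_group t1 t2 t3 (fun r hr => hr) t5
    (fun _ => 1) (fun y hy => ?_) (fun r hr hlt => ?_)
    (fun _ _ _ q hq => absurd hq List.not_mem_nil) ?_
  · rw [(E6.tw f).mem_fix]
    refine ⟨certFullE6.B_le_group (certFullE6.H_le_B (certFullE6.torus_mem _)), ?_⟩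
    rw [(E6.tw f).act_torus, Cert.torus_apply, Cert.torus_apply]
    refine dg_ext chevE6 K fun u _ => Finset.prod_congr rfl fun j hj => ?_
    rw [Finset.mem_range] at hj
    congr 1
    refine Units.ext ?_
    rw [(E6.tw f).zAct_apply _ hj]
    show f ((CertFull.signPar K y (graphE6.τ' j) : Kˣ) : K) = _
    rw [CertFull.signPar, v2 y hy j hj]
    show f _ = ((CertFull.signPar K y j : Kˣ) : K)
    rw [CertFull.signPar]
    cases Nat.testBit y j <;> simp
  · obtain ⟨⟨⟨⟨e1, e2⟩, e3⟩, e4⟩, e5⟩ := v1 r hr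
    constructor
    · rw [(E6.tw f).mem_fix]
      refine ⟨certFullE6.xg_mem_group hlt _, ?_⟩
      rw [E6.act_x f hlt e2, e1, Units.val_one, map_one]
    · rw [(E6.tw f).mem_fix, Units.val_one, inv_one, e3]
      refine ⟨certFullE6.xg_mem_group (e3 ▸ certFullE6.neg_lt hlt) _, ?_⟩
      rw [E6.act_x f (by omega) e5, e4, map_one]
  · intro g _ a ha L hL e _ hk hfix _
    exact certFullE6.mem_H_of_fixed t4 h2
      (by intro r hr
          show r < 72
          simp only [List.mem_cons, List.not_mem_nil, or_false] at hr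
          omega)
      ha hL e hk hfix

end Cfsg.Agent.OddCentral
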