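import Cfsg.Prelude.Def_LieTypeChar
import Cfsg.Agent.Lib.Fus.OddCentral.Exceptional
import Cfsg.Agent.Lib.Fus.OddCentral.TwistedE6
import Cfsg.Agent.Lib.Fus.OddCentral.TwistedD4
import Cfsg.Agent.Lib.Fus.OddCentral.Orth
import Cfsg.Agent.Lib.Fus.OddCentral.Alt
import Cfsg.Agent.Lib.Fus.OddCentral.ResiduePSL
import Cfsg.Agent.Lib.Fus.OddCentral.ResidueRee
import Cfsg.Agent.Lib.Lie.Chev.ReeFusion

/-! The families of Lie type in odd characteristic. -/

set_option autoImplicit false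

namespace Cfsg.Agent.OddCentral

/-- The power map of a finite field as an endomorphism. -/
theorem exists_powHom {K : Type*} [Field K] [Fintype K] {p : ℕ} [Fact p.Prime] [CharP K p] {q d : ℕ}
    (hq : IsPrimePow q) (hd : d ≠ 0) (hK : Fintype.card K = q ^ d) :
    ∃ f : K →+* K, ∀ t, f t = t ^ q := by
  obtain ⟨r, e, hr, he, rfl⟩ := hq
  obtain ⟨n, hn, hcard⟩ := FiniteField.card K p
  rw [hcard, ← pow_mul] at hK
  have : r = p := ((Nat.prime_dvd_prime_iff_eq hn (Nat.prime_iff.2 hr)).1 (by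
    refine hn.dvd_of_dvd_pow (n := e * d) ?_
    rw [← hK]
    exact dvd_pow_self p n.pos.ne')).symm
  subst this
  haveI : ExpChar K r := ExpChar.prime hn
  exact ⟨iterateFrobenius K r e, fun t => iterateFrobenius_def r e t⟩

variable {G : Type*} [Group G] [Finite G] {t : G} {S : Sylow 2 G} {F : Subgroup G}

/-- The Ree groups. -/
theorem Setup.index_two_of_ree (h : Setup t S F) (hR : Cfsg.Lie.IsoRee ↥F) :
    ∃ H : Subgroup G, H.index = 2 ∧ t ∉ H := by
  haveI : Fact (Nat.Prime 2) := ⟨Nat.prime_two⟩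
  haveI : Fact (Nat.Prime 3) := ⟨Nat.prime_three⟩
  obtain ⟨K, _, _, m, hm, hK, ⟨e⟩⟩ := hR
  obtain ⟨_, _, f, hf⟩ := Lie.Chev.exists_isoFrob Nat.prime_three hK
  let Q' : Sylow 2 ↥F → Sylow 2 ↥(Cfsg.Lie.twistedG2 K (3 ^ m)) := fun Q =>
    Q.mapSurjective (f := e.toMonoidHom) e.surjective
  refine h.index_two_of_eight (fun Q x hx => ?_) (fun x y hx hy => ?_) (fun Q => ?_)
  · refine e.injective ?_
    rw [map_mul, map_one]
    exact Lie.Chev.G2.sylow_two_exponent f hf hK (Q' Q) _ ⟨x, hx, rfl⟩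
  · have hx' : ∀ z : ↥F, orderOf z = 2 → IsConj (e z) (Lie.Chev.G2.iota f hf hK) := by
      intro z hz
      have h2 : e z * e z = 1 := by
        rw [← map_mul, ← pow_two, ← hz, pow_orderOf_eq_one, map_one]
      obtain ⟨g, hg⟩ := Lie.Chev.G2.exists_conj_iota f hf hK hm h2 (fun e' => by
        rw [MulEquiv.map_eq_one_iff] at e'
        rw [e', orderOf_one] at hz
        omega)
      exact isConj_iff.2 ⟨g, hg⟩
    have := e.symm.toMonoidHom.map_isConj ((hx' x hx).trans (hx' y hy).symm)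
    simpa using this
  · rw [← Lie.Chev.G2.card_sylow_two f hf hK (Q' Q)]
    exact Nat.card_congr ((Q : Subgroup ↥F).equivMapOfInjective e.toMonoidHom e.injective).toEquiv

/-- Every family of Lie type in odd characteristic. -/
theorem Setup.lie_cases (h : Setup t S F) [IsSimpleGroup ↥F] (hna : ¬ IsMulCommutative ↥F) {p : ℕ}
    (hpp : p.Prime) (hp : p ≠ 2) (hLie : Cfsg.IsLieTypeChar p ↥F) :
    (∃ H : Subgroup G, H.index = 2 ∧ t ∉ H) ∨ Nonempty (↥F ≃* ↥(alternatingGroup (Fin 5))) ∨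
      (∃ (K : Type) (_ : Field K) (_ : Fintype K) (n : ℕ), 1 ≤ n ∧ Fintype.card K = 3 ^ (2 * n + 1) ∧
        Nonempty (↥F ≃* Matrix.ProjectiveSpecialLinearGroup (Fin 2) K)) := by
  haveI : Fact p.Prime := ⟨hpp⟩
  rcases hLie with h1 | h1 | h1 | h1 | h1 | h1 | h1 | h1 | h1 | h1 | h1
  · obtain ⟨K, _, _, _, n, hn, hn4, ⟨e⟩⟩ := h1
    rcases Nat.lt_or_ge n 3 with h3 | h3
    · obtain rfl : n = 2 := by omega
      have hodd : Fintype.card K % 2 = 1 := by
        obtain ⟨k, hk, hcard⟩ := FiniteField.card K p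
        rw [hcard]
        exact Nat.odd_iff.1 ((hpp.odd_of_ne_two hp).pow)
      rcases h.psl_two_cases hna hodd (hn4 rfl) e with r | r | ⟨k, hk, hcard⟩
      · exact Or.inl r
      · exact Or.inr (Or.inl r)
      · exact Or.inr (Or.inr ⟨K, _, _, k, hk, hcard, ⟨e⟩⟩)
    · exact Or.inl (h.exists_index_two_of_good ((good_psl hp h3).congr e))
  · obtain ⟨K, _, _, _, n, hn, -, ⟨e⟩⟩ := h1
    exact Or.inl (h.exists_index_two_of_good ((good_psp hp hn).congr e))
  · obtain ⟨K, _, _, _, n, q, hq, hn, -, ⟨e⟩⟩ := h1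
    exact Or.inl (h.exists_index_two_of_good ((good_psu hq hp hn).congr e))
  · obtain ⟨K, _, _, _, n, hn, -, ⟨e⟩⟩ := h1
    exact Or.inl (h.exists_index_two_of_good ((good_omega_odd hp hn).congr e))
  · obtain ⟨K, _, _, _, n, hn, ⟨e⟩⟩ := h1
    exact Or.inl (h.exists_index_two_of_good ((good_omega_plus hp hn).congr e))
  · obtain ⟨K, _, _, _, n, a, b, hn, hab, ⟨e⟩⟩ := h1
    exact Or.inl (h.exists_index_two_of_good
      ((good_omega_minus hp (show 3 ≤ n - 1 by omega) hab).congr e))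
  · obtain ⟨K, _, _, _, h1⟩ := h1
    refine Or.inl (h.exists_index_two_of_good ?_)
    rcases h1 with ⟨-, ⟨e⟩⟩ | ⟨⟨e⟩⟩ | ⟨⟨e⟩⟩ | ⟨⟨e⟩⟩ | ⟨⟨e⟩⟩
    · exact (good_chevG2 hp).congr e
    · exact (good_chevF4 hp).congr e
    · exact (good_chevE6 hp).congr e
    · exact (good_chevE7 hp).congr e
    · exact (good_chevE8 hp).congr e
  · obtain ⟨K, _, _, _, q, hq, h1⟩ := h1
    refine Or.inl (h.exists_index_two_of_good ?_)
    rcases h1 with ⟨hK, ⟨e⟩⟩ | ⟨hK, ⟨e⟩⟩
    · obtain ⟨f, hf⟩ := exists_powHom (p := p) hq two_ne_zero hK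
      exact (good_twistedE6 hp f hf hK).congr e
    · obtain ⟨f, hf⟩ := exists_powHom (p := p) hq three_ne_zero hK
      exact (good_twistedD4 hp f hf hK).congr e
  · exact absurd h1.1 hp
  · exact absurd h1.1 hp
  · exact Or.inl (h.index_two_of_ree h1.2)

end Cfsg.Agent.OddCentral
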