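import Cfsg.Agent.Lib.Fus.OddCentral.Basic
import Cfsg.Agent.Lib.Fus.OddCentral.SLPart
import Cfsg.Agent.Lib.Lie.Chev.InvolutionClasses

/-! Involutions of a certified Chevalley group centralising the sign elements of the torus and a
2-subgroup of the rank one groups of a strongly orthogonal frame: they lie in the torus and are
squares, given some finite checks on the root system. -/

set_option autoImplicit false

namespace Cfsg.Agent.Lie.Chev

open Cfsg.Lie Matrix
open scoped MatrixGroups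

namespace Tables

variable (T : Tables)

/-- Every root is moved by one of the sign elements. -/
def checkMoved (ys : List ℕ) : Bool := T.allRoots fun s => ys.any fun y => !(T.parityEven y s)

/-- A strongly orthogonal list of roots, with an odd pairing each, none having a proportional root
other than its negative. -/
def checkFrameRoots (R : List ℕ) : Bool :=
  (R.all fun r => Nat.blt r T.n &&
    (T.allRoots fun u => Nat.beq u r || Nat.beq u (T.neg r) ||
      !((List.range T.l).all fun j => intBeq (2 * T.vec u j) (T.pairing r u * T.vec r j))) &&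
    (List.range T.n).any fun u => isOdd (T.pairing r u)) &&
  (picks R).all fun q => q.2.all fun s => T.strong q.1 s

/-- A negative root differs from each fundamental root in a parity or in a pairing with the
frame. -/
def checkFixed (ys R : List ℕ) : Bool :=
  (List.range T.l).all fun q => T.allRoots fun b => Nat.ble T.h b ||
    (ys.any fun y => T.parityEven y b != T.parityEven y (T.simple q)) ||
    R.any fun r => !(intBeq (T.pairing r b) (T.pairing r (T.simple q)))

/-- Sign patterns allowed by the frame and the symmetry. -/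
def keepMask (R : List ℕ) (sym : List (ℕ × ℕ)) (m : ℕ) : Bool :=
  (R.all fun r => !(isOdd (T.maskExp m r))) &&
    sym.all fun p => Nat.testBit m p.1 == Nat.testBit m p.2

/-- Each allowed pattern is the parity of a strongly orthogonal set. -/
def checkWit (R : List ℕ) (sym : List (ℕ × ℕ)) (roots : List ℕ) (wit : List (List ℕ)) : Bool :=
  (List.range (2 ^ T.l)).all fun m => !(T.keepMask R sym m) || wit.any fun S =>
    (S.all fun s => Nat.blt s T.n && roots.any (Nat.beq s)) &&
    ((picks S).all fun q => q.2.all fun s => T.strong q.1 s) &&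
    (List.range T.l).all fun q =>
      Nat.testBit m q == isOdd ((S.map fun s => T.pairing s (T.simple q)).sum)

theorem pairwise_of_picks : ∀ {L : List ℕ},
    ((picks L).all fun q => q.2.all fun s => T.strong q.1 s) = true →
      L.Pairwise fun r s => T.strong r s = true
  | [], _ => List.Pairwise.nil
  | a :: L, h => by
    simp only [picks, List.all_cons, Bool.and_eq_true, List.all_eq_true] at h
    exact List.pairwise_cons.2 ⟨fun s hs => h.1 s hs,
      pairwise_of_picks (L := L) (by simpa [List.all_eq_true] using h.2)⟩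

end Tables

/-- Conjugation by a diagonal matrix. -/
def scaleSL {F : Type*} [Field F] (v : Fˣ) : SL(2, F) →* SL(2, F) where
  toFun g := ⟨!![g.1 0 0, (v : F) * g.1 0 1; g.1 1 0 / (v : F), g.1 1 1], by
    rw [Matrix.det_fin_two_of]
    field_simp
    linear_combination det_two g⟩
  map_one' := by refine ext_two ?_ ?_ ?_ ?_ <;> simp
  map_mul' g h := by
    refine Subtype.ext ?_
    show !![(g.1 * h.1) 0 0, (v : F) * (g.1 * h.1) 0 1; (g.1 * h.1) 1 0 / (v : F), (g.1 * h.1) 1 1] =
      !![g.1 0 0, (v : F) * g.1 0 1; g.1 1 0 / (v : F), g.1 1 1] *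
        !![h.1 0 0, (v : F) * h.1 0 1; h.1 1 0 / (v : F), h.1 1 1]
    ext i j
    fin_cases i <;> fin_cases j <;>
      simp [Matrix.mul_apply, Fin.sum_univ_two] <;> field_simp

theorem scaleSL_val {F : Type*} [Field F] (v : Fˣ) (g : SL(2, F)) :
    (scaleSL v g).1 = !![g.1 0 0, (v : F) * g.1 0 1; g.1 1 0 / (v : F), g.1 1 1] := rfl

namespace CertFull

open Cfsg.Agent.OddCentral

variable {D : ChevalleyDatum} (c : CertFull D) {F : Type*} [Field F]
include c

/-- A rank one homomorphism with a scale. -/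
theorem exists_scaled {r : ℕ} (hr : r < D.nroots) (v : Fˣ) : ∃ φ : SL(2, F) →* GL D.Idx F,
    (∀ t, φ (upSL t) = c.xg r ((v : F) * t)) ∧
    (∀ t, φ (loSL t) = c.xg (D.neg r) (t / (v : F))) ∧ φ wSL = c.ng r (v : F) ∧
    φ (-1) = c.hg r (-1 : F) ∧ ∀ (t : Fˣ) (h : (t : F) ≠ 0), φ (dSL (t : F) h) = c.hg r (t : F) := by
  obtain ⟨φ, -, hu, hl⟩ := c.exists_rankOneHom (F := F) hr
  have hu' : ∀ t, (φ.comp (scaleSL v)) (upSL t) = c.xg r ((v : F) * t) := fun t => by
    rw [MonoidHom.comp_apply, ← hu]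
    congr 1
    refine ext_two ?_ ?_ ?_ ?_ <;> rw [scaleSL_val] <;> simp [upSL_val]
  have hl' : ∀ t, (φ.comp (scaleSL v)) (loSL t) = c.xg (D.neg r) (t / (v : F)) := fun t => by
    rw [MonoidHom.comp_apply, ← hl]
    congr 1
    refine ext_two ?_ ?_ ?_ ?_ <;> rw [scaleSL_val] <;> simp [loSL_val]
  refine ⟨φ.comp (scaleSL v), hu', hl', ?_, ?_, fun t h => ?_⟩
  · rw [OddCentral.wSL_eq, map_mul, map_mul, hu', hl', mul_one]
    show _ = c.xg r (v : F) * c.xg (D.neg r) (-(v : F)⁻¹) * c.xg r (v : F)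
    rw [neg_div, one_div]
  · rw [MonoidHom.comp_apply, ← c.ng_one_sq hr, ← c.phi_wSL hu hl, ← map_mul]
    congr 1
    refine ext_two ?_ ?_ ?_ ?_ <;>
      simp [scaleSL_val, wSL_val, Matrix.SpecialLinearGroup.coe_neg, Matrix.mul_apply,
        Fin.sum_univ_two]
  · rw [MonoidHom.comp_apply, Cert.hg, ← c.phi_ng hu hl, ← c.phi_ng hu hl, ← map_mul]
    congr 1
    refine ext_two ?_ ?_ ?_ ?_ <;>
      simp only [scaleSL_val, dSL_val, mul_val, upSL_val, loSL_val] <;>
      simp [Matrix.mul_apply, Fin.sum_univ_two]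

/-- An element commuting with the generators of a rank one image commutes with all of it. -/
theorem commute_range {φ : SL(2, F) →* GL D.Idx F} {g : GL D.Idx F}
    (hu : ∀ t, Commute g (φ (upSL t))) (hl : ∀ t, Commute g (φ (loSL t))) (x : SL(2, F)) :
    Commute g (φ x) := by
  have e : (MulAut.conj g).toMonoidHom.comp φ = φ :=
    slHom_ext (fun t => show g * φ (upSL t) * g⁻¹ = _ by rw [(hu t).eq, mul_inv_cancel_right])
      (fun t => show g * φ (loSL t) * g⁻¹ = _ by rw [(hl t).eq, mul_inv_cancel_right])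
  have := DFunLike.congr_fun e x
  exact mul_inv_eq_iff_eq_mul.1 this

theorem torus_conj_hom (z : ℕ → Fˣ) {r : ℕ} (hr : r < D.nroots) {v : Fˣ}
    {φ : SL(2, F) →* GL D.Idx F} (hu : ∀ t, φ (upSL t) = c.xg r ((v : F) * t))
    (hl : ∀ t, φ (loSL t) = c.xg (D.neg r) (t / (v : F))) (x : SL(2, F)) :
    (c.tchar z r = 1 → c.torus z * φ x * (c.torus z)⁻¹ = φ x) ∧
      (c.tchar z r = -1 → c.torus z * φ x * (c.torus z)⁻¹ = φ (flipSL x)) := by
  constructor <;> intro h
  · have e : (MulAut.conj (c.torus z)).toMonoidHom.comp φ = φ :=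
      slHom_ext (fun t => show c.torus z * φ (upSL t) * (c.torus z)⁻¹ = _ by
          rw [hu, c.torus_conj_xg z hr, h, Units.val_one, one_mul])
        (fun t => show c.torus z * φ (loSL t) * (c.torus z)⁻¹ = _ by
          rw [hl, c.torus_conj_xg z (c.neg_lt hr), c.tchar_neg z hr, h, inv_one, Units.val_one,
            one_mul])
    exact DFunLike.congr_fun e x
  · have e : (MulAut.conj (c.torus z)).toMonoidHom.comp φ = φ.comp flipSL :=
      slHom_ext (fun t => show c.torus z * φ (upSL t) * (c.torus z)⁻¹ = φ (flipSL (upSL t)) by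
          rw [flipSL_up, hu, hu, c.torus_conj_xg z hr, h]
          simp)
        (fun t => show c.torus z * φ (loSL t) * (c.torus z)⁻¹ = φ (flipSL (loSL t)) by
          rw [flipSL_lo, hl, hl, c.torus_conj_xg z (c.neg_lt hr), c.tchar_neg z hr, h]
          simp [neg_div])
    exact DFunLike.congr_fun e x

omit c in
theorem intBeq_self (a : ℤ) : intBeq a a = true := by
  cases a <;> simp [intBeq]

theorem hg_neg_one_ne {r : ℕ} (hr : r < D.nroots) (h2 : (2 : F) ≠ 0) {u : ℕ} (hu : u < D.nroots)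
    (hodd : isOdd (c.T.pairing r u) = true) : c.hg r (-1 : F) ≠ 1 := by
  intro e
  rw [show (-1 : F) = ((-1 : Fˣ) : F) by simp, c.hg_eq hr, ← map_one (dg D F), dg_eq_iff] at e
  have := e u hu
  rw [CertFull.pairChar, Pi.one_apply, neg_one_zpow_eq h2, hodd] at this
  cases this

/-- The part of a root product group centralised by sign elements. -/
theorem KS_inter_signs {S : Set ℕ} (hS : c.IsClosed S) {g : GL D.Idx F}
    (hg : g ∈ c.KS F S c.T.h) : ∀ ys : List ℕ,
    (∀ y ∈ ys, c.torus (signPar F y) * g * (c.torus (signPar F y))⁻¹ = g) →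
      c.IsClosed (S ∩ {r | ∀ y ∈ ys, c.tchar (signPar F y) r = 1}) ∧
        g ∈ c.KS F (S ∩ {r | ∀ y ∈ ys, c.tchar (signPar F y) r = 1}) c.T.h
  | [], _ => by
    have e : S ∩ {r | ∀ y ∈ ([] : List ℕ), c.tchar (signPar F y) r = 1} = S := by simp
    rw [e]; exact ⟨hS, hg⟩
  | y :: ys, h => by
    obtain ⟨h1, h3⟩ := KS_inter_signs hS hg ys fun x hx => h x (List.mem_cons_of_mem _ hx)
    have e : S ∩ {r | ∀ x ∈ y :: ys, c.tchar (signPar F x) r = 1} =
        (S ∩ {r | ∀ x ∈ ys, c.tchar (signPar F x) r = 1}) ∩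
          {r | c.tchar (signPar F y) r = 1} := by
      ext r
      simp only [List.mem_cons, forall_eq_or_imp, Set.mem_inter_iff, Set.mem_setOf_eq]
      tauto
    rw [e]
    exact ⟨c.closed_inter_ker _ h1, c.mem_KS_of_commute h1 _ h3 (h y List.mem_cons_self)⟩

/-- The centraliser of the sign elements is monomial. -/
theorem exists_mono_of_signs {ys : List ℕ} (hmv : c.T.checkMoved ys = true) (h2 : (2 : F) ≠ 0)
    {g : GL D.Idx F} (hg : g ∈ D.group F)
    (hc : ∀ y ∈ ys, Commute (c.torus (signPar F y)) g) :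
    ∃ a ∈ D.diagonalSubgroup F, ∃ L : List ℕ, (∀ p ∈ L, p < D.rank) ∧ g = a * c.nw F L ∧
      ∀ y ∈ ys, c.KeepsChar (signPar F y) L := by
  obtain ⟨b, hb, a, ha, L, hL, u, hu, rfl⟩ := c.bruhat_exists hg
  obtain ⟨v, hv, d, hd, rfl⟩ := c.mem_borel_iff.1 hb
  set n := a * c.nw F L
  have hnN : n ∈ D.monomialSubgroup F := c.mem_monomial_iff.2 ⟨a, ha, L, hL, rfl⟩
  have key : ∀ y ∈ ys, c.torus (signPar F y) * v * (c.torus (signPar F y))⁻¹ = v ∧
      c.torus (signPar F y) * u * (c.torus (signPar F y))⁻¹ = u ∧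
      c.KeepsChar (signPar F y) L := by
    intro y hy
    set z := signPar F y
    set τ := c.torus z
    have hτH : τ ∈ D.diagonalSubgroup F := c.torus_mem z
    have hv' : τ * v * τ⁻¹ ∈ D.posUnipotent F :=
      (Subgroup.mem_normalizer_iff.1 (c.H_le_normalizer_U hτH) v).1 hv
    have hu' : τ * u * τ⁻¹ ∈ c.KS F (c.invSet L) c.T.h := c.torus_conj_KS (fun r hr => hr.1.2) z hu
    set k := τ * n * τ⁻¹ * n⁻¹
    have hk : k ∈ D.diagonalSubgroup F := by
      have := mul_mem hτH (c.N_conj_H hnN (inv_mem hτH))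
      simpa [k, mul_assoc] using this
    have e' : τ * v * τ⁻¹ * (d * k) * n * (τ * u * τ⁻¹) = v * d * n * u := by
      have hd' : τ * d = d * τ := c.H_mul_comm hτH hd
      calc τ * v * τ⁻¹ * (d * k) * n * (τ * u * τ⁻¹)
          = τ * v * τ⁻¹ * (d * τ) * n * u * τ⁻¹ := by simp only [k]; group
        _ = τ * (v * d * n * u) * τ⁻¹ := by rw [← hd']; group
        _ = v * d * n * u := by rw [(hc y hy).eq, mul_inv_cancel_right]
    obtain ⟨h2', h3⟩ := c.bruhat_unique_factors ha hL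
      (mul_mem (Subgroup.mem_sup_left hv') (c.H_le_B (mul_mem hd hk)))
      (mul_mem (Subgroup.mem_sup_left hv) (c.H_le_B hd)) hu' hu e'
    have h4 : v⁻¹ * (τ * v * τ⁻¹) = d * (d * k)⁻¹ :=
      calc v⁻¹ * (τ * v * τ⁻¹) = v⁻¹ * (τ * v * τ⁻¹ * (d * k)) * (d * k)⁻¹ := by group
        _ = _ := by rw [h2']; group
    have h5 := c.U_inf_H.le (Subgroup.mem_inf.2 ⟨mul_mem (inv_mem hv) hv',
      h4 ▸ mul_mem hd (inv_mem (mul_mem hd hk))⟩)
    rw [Subgroup.mem_bot] at h5
    have hk1 : k = 1 := by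
      rw [h4, mul_inv_eq_one] at h5
      exact left_eq_mul.1 h5
    exact ⟨(inv_mul_eq_one.1 h5).symm, h3, (c.commute_mono_iff z ha hL).1
      (mul_inv_eq_iff_eq_mul.1 (mul_inv_eq_one.1 hk1))⟩
  have hbot : ∀ {S : Set ℕ}, c.IsClosed S → (∀ r ∈ S, r < D.nroots) → ∀ {x : GL D.Idx F},
      x ∈ c.KS F S c.T.h →
      (∀ y ∈ ys, c.torus (signPar F y) * x * (c.torus (signPar F y))⁻¹ = x) → x = 1 := by
    intro S hS hSn x hx hxc
    have h := (c.KS_inter_signs hS hx ys hxc).2
    suffices hle : c.KS F (S ∩ {r | ∀ y ∈ ys, c.tchar (signPar F y) r = 1}) c.T.h ≤ ⊥ from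
      Subgroup.mem_bot.1 (hle h)
    refine (Subgroup.closure_le _).2 ?_
    rintro w ⟨r, t, ⟨hrS, hr⟩, -, rfl⟩
    exfalso
    simp only [Tables.checkMoved, c.allRoots_iff, List.any_eq_true, Bool.not_eq_true'] at hmv
    obtain ⟨y, hy, hodd⟩ := hmv r (hSn r hrS)
    rw [(c.tchar_signPar_iff h2 y r).1 (hr y hy)] at hodd
    cases hodd
  rw [c.U_eq_KS_pos] at hv
  have hv1 : v = 1 := hbot c.pos_closedSet (fun r hr => hr.2) hv fun y hy => (key y hy).1
  have hu1 : u = 1 := hbot (c.invSet_closed hL) (fun r hr => hr.1.2) hu fun y hy => (key y hy).2.1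
  exact ⟨d * a, mul_mem hd ha, L, hL, by rw [hv1, hu1, one_mul, mul_one, mul_assoc],
    fun y hy => (key y hy).2.2⟩

/-- Monomial and commuting with the Weyl element and the trace zero element of a rank one group
forces the root to be fixed. -/
theorem wl_fix_of_commute {a : GL D.Idx F} (ha : a ∈ D.diagonalSubgroup F) {L : List ℕ}
    (hL : ∀ p ∈ L, p < D.rank) (hsq : a * c.nw F L * (a * c.nw F L) = 1) {r : ℕ}
    (hr : r < D.nroots) (hneg : c.T.checkPairNeg = true)
    (hprop : ∀ u < D.nroots,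
      (∀ j < D.rank, 2 * c.T.vec u j = c.T.pairing r u * c.T.vec r j) → u = r ∨ u = D.neg r)
    {u₀ : ℕ} (hu₀ : u₀ < D.nroots) (hodd : isOdd (c.T.pairing r u₀) = true) (h2 : (2 : F) ≠ 0)
    {v : Fˣ} {φ : SL(2, F) →* GL D.Idx F} (hu : ∀ t, φ (upSL t) = c.xg r ((v : F) * t))
    (hl : ∀ t, φ (loSL t) = c.xg (D.neg r) (t / (v : F))) (hw : φ wSL = c.ng r (v : F))
    (hm1 : φ (-1) = c.hg r (-1 : F))
    (hd : ∀ (t : Fˣ) (h : (t : F) ≠ 0), φ (dSL (t : F) h) = c.hg r (t : F))
    {α β : F} (hab : α * α + β * β = -1) (hcw : Commute (a * c.nw F L) (φ wSL))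
    (hcj : Commute (a * c.nw F L) (φ (traceSL α β hab))) : c.wl L r = r := by
  obtain ⟨g, hgdef⟩ : ∃ g, g = a * c.nw F L := ⟨_, rfl⟩
  rw [← hgdef] at hsq hcw hcj
  -- the image of `r` is proportional to it
  obtain ⟨R, hR, hRv⟩ := c.exists_refl (F := F) hr
  obtain ⟨a', ha', ea'⟩ := hRv (v : F) v.ne_zero
  obtain ⟨d₁, hd₁, e₁⟩ := c.mono_mul (F := F) ha ha' (M := R) hL
  obtain ⟨d₂, hd₂, e₂⟩ := c.mono_mul (F := F) ha' ha (M := L) hR.1
  have heq : d₁ * c.nw F (L ++ R) = d₂ * c.nw F (R ++ L) := by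
    rw [← e₁, ← e₂, ← ea', ← hw, ← hgdef]; exact hcw.eq
  have hLR := c.wl_eq_of_eq hd₁ hd₂
    (fun p hp => (List.mem_append.1 hp).elim (hL p) (hR.1 p))
    (fun p hp => (List.mem_append.1 hp).elim (hR.1 p) (hL p)) heq hr
  rw [c.wl_append, c.wl_append, c.refl_neg hneg hR hr, c.wl_neg hL hr] at hLR
  have hprop' : c.wl L r = r ∨ c.wl L r = D.neg r := by
    refine hprop _ (c.wl_lt hL hr) fun j hj => ?_
    have h := hR.2 _ (c.wl_lt hL hr) j hj
    rw [← hLR, c.vec_neg (c.wl_lt hL hr) hj] at h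
    linear_combination -h
  refine hprop'.resolve_right fun hopp => ?_
  obtain ⟨k₀, hk₀, hk⟩ := c.mono_mul_xg (F := F) ha hL hr
  rw [hopp, ← hgdef] at hk
  obtain ⟨k, hkv⟩ : ∃ k : Fˣ, (k : F) = k₀ * (v : F) * (v : F) :=
    ⟨Units.mk0 _ (mul_ne_zero (mul_ne_zero hk₀ v.ne_zero) v.ne_zero), rfl⟩
  have hi : g⁻¹ = g := inv_eq_of_mul_eq_one_left hsq
  have h1 : ∀ t, g * φ (upSL t) = φ (loSL ((k : F) * t)) * g := fun t => by
    rw [hu, hl, hk, hkv]
    congr 2
    field_simp
  have h3 : ∀ t, g * φ (loSL t) = φ (upSL (t / (k : F))) * g := fun t => by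
    have h := h1 (t / (k : F))
    rw [mul_div_cancel₀ t k.ne_zero] at h
    calc g * φ (loSL t) = g * (φ (loSL t) * g) * g := by
          rw [mul_assoc, mul_assoc (φ _), hsq, mul_one]
      _ = g * (g * φ (upSL (t / (k : F)))) * g := by rw [h]
      _ = _ := by rw [← mul_assoc, hsq, one_mul]
  have econj : (MulAut.conj g).toMonoidHom.comp φ = φ.comp (antiTwist k) :=
    slHom_ext (fun t => show g * φ (upSL t) * g⁻¹ = φ (antiTwist k (upSL t)) by
        rw [antiTwist_up, h1, mul_inv_cancel_right])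
      (fun t => show g * φ (loSL t) * g⁻¹ = φ (antiTwist k (loSL t)) by
        rw [antiTwist_lo, h3, mul_inv_cancel_right])
  have hfix : ∀ x, Commute g (φ x) → φ (antiTwist k x) = φ x := fun x hx => by
    have := DFunLike.congr_fun econj x
    rw [MonoidHom.comp_apply, MonoidHom.comp_apply] at this
    rw [← this]
    show g * φ x * g⁻¹ = φ x
    rw [hx.eq, mul_inv_cancel_right]
  have hm1ne : φ (-1) ≠ 1 := hm1 ▸ c.hg_neg_one_ne hr h2 hu₀ hodd
  -- the coefficient is `-1`
  have hc0 : ((-k⁻¹ : Fˣ) : F) ≠ 0 := Units.ne_zero _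
  have hdone : φ (dSL ((-k⁻¹ : Fˣ) : F) hc0) = 1 := by
    have e : antiTwist k (wSL : SL(2, F)) = dSL ((-k⁻¹ : Fˣ) : F) hc0 * wSL := by
      refine ext_two ?_ ?_ ?_ ?_ <;>
        simp [antiTwist_val, wSL_val, dSL_val, mul_val, neg_div, inv_neg]
    have := hfix _ hcw
    rw [e, map_mul] at this
    exact mul_eq_right.1 this
  rw [hd, c.hg_eq hr, ← map_one (dg D F), dg_eq_iff] at hdone
  have hsq1 : ((-k⁻¹ : Fˣ)) ^ (2 : ℤ) = 1 := by
    have := hdone r hr
    rwa [CertFull.pairChar, c.pairing_self_two hneg hr] at this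
  have hc1 : (-k⁻¹ : Fˣ) = 1 := by
    have := hdone u₀ hu₀
    rw [CertFull.pairChar, Pi.one_apply] at this
    obtain ⟨m, hm⟩ : ∃ m, c.T.pairing r u₀ = 2 * m + 1 :=
      ⟨c.T.pairing r u₀ / 2, by have := isOdd_iff.1 hodd; omega⟩
    rwa [hm, _root_.zpow_add, _root_.zpow_mul, hsq1, _root_.one_zpow, one_mul, _root_.zpow_one]
      at this
  have hk1 : k = -1 := by
    have := congrArg (fun x : Fˣ => (-x)⁻¹) hc1
    simpa using this
  have e : antiTwist k (traceSL α β hab) = -1 * traceSL α β hab := by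
    rw [hk1]
    refine ext_two ?_ ?_ ?_ ?_ <;>
      simp [antiTwist_val, traceSL_val, div_neg, Matrix.SpecialLinearGroup.coe_neg]
  have := hfix _ hcj
  rw [e, map_mul] at this
  exact hm1ne (mul_eq_right.1 this)

theorem zpow_mask (m s : ℕ) (w : ℕ → Fˣ)
    (hw : ∀ j < D.rank, w j = bif Nat.testBit m j then -1 else 1) :
    ∏ j ∈ Finset.range D.rank, w j ^ c.T.vec s j = (-1 : Fˣ) ^ c.T.maskExp m s := by
  rw [Tables.maskExp, ← c.rank_eq]
  suffices h : ∀ n ≤ D.rank, ∏ j ∈ Finset.range n, w j ^ c.T.vec s j = (-1 : Fˣ) ^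
      ((List.range n).map fun j => bif Nat.testBit m j then c.T.vec s j else 0).sum from h _ le_rfl
  intro n hn
  induction n with
  | zero => simp
  | succ n ih =>
    rw [Finset.prod_range_succ, ih (by omega), List.range_succ, List.map_append,
      List.sum_append, _root_.zpow_add, hw n (by omega)]
    cases hb : Nat.testBit m n <;> simp [hb]

/-- A sign element of the torus with the parities of a strongly orthogonal set is a square. -/
theorem torus_eq_sq {z : ℕ → Fˣ} {v : ℕ → Fˣ} {S : List ℕ} (hS : ∀ s ∈ S, s < D.nroots)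
    (hpw : S.Pairwise c.Orth) (hpar : ∀ q < D.rank,
      c.tchar z (D.simple q) = (-1 : Fˣ) ^ (S.map fun s => c.T.pairing s (D.simple q)).sum) :
    (S.map fun s => c.ng s (v s : F)).prod * (S.map fun s => c.ng s (v s : F)).prod = c.torus z := by
  have hsq : ∀ {l : List ℕ}, (∀ s ∈ l, s < D.nroots) → l.Pairwise c.Orth →
      (l.map fun s => c.ng s (v s : F)).prod * (l.map fun s => c.ng s (v s : F)).prod =
        (l.map fun s => c.hg s (-1 : F)).prod := by
    intro l
    induction l with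
    | nil => intro _ _; simp
    | cons r l ih =>
      intro hl hp
      obtain ⟨h1, h3⟩ := List.pairwise_cons.1 hp
      have hr := hl r (by simp)
      simp only [List.map_cons, List.prod_cons]
      set n := c.ng r (v r : F)
      set M := (l.map fun s => c.ng s (v s : F)).prod
      have hcm : Commute n M := by
        refine Commute.list_prod_right _ _ fun x hx => ?_
        obtain ⟨s, hs, rfl⟩ := List.mem_map.1 hx
        exact c.ng_commute_strong hr (hl s (by simp [hs])) (h1 s hs) _ _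
      obtain ⟨φ, -, -, hw, hm, -⟩ := c.exists_scaled (F := F) hr (v r)
      have hn : n * n = c.hg r (-1 : F) := by
        rw [← hm]
        show c.ng r _ * c.ng r _ = _
        rw [← hw, ← map_mul]
        congr 1
        refine ext_two ?_ ?_ ?_ ?_ <;>
          simp [mul_val, wSL_val, Matrix.SpecialLinearGroup.coe_neg]
      rw [← ih (fun s hs => hl s (by simp [hs])) h3, ← hn]
      calc n * M * (n * M) = n * (M * n) * M := by group
        _ = n * (n * M) * M := by rw [hcm.eq]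
        _ = _ := by group
  rw [hsq hS hpw]
  have hz' : ∀ l : List ℕ, (∀ s ∈ l, s < D.nroots) → ∃ z' : ℕ → Fˣ,
      (l.map fun s => c.hg s (-1 : F)).prod = c.torus z' ∧
      ∀ u < D.nroots, c.tchar z' u = (-1 : Fˣ) ^ (l.map fun s => c.T.pairing s u).sum := by
    intro l
    induction l with
    | nil => exact fun _ => ⟨1, by simp, fun u _ => by simp [Cert.tchar]⟩
    | cons r l ih =>
      intro hl
      obtain ⟨z', e, hv⟩ := ih fun s hs => hl s (by simp [hs])
      have hr := hl r (by simp)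
      set w : ℕ → Fˣ := fun i => (-1 : Fˣ) ^ c.T.coroot r i
      have hw : c.hg r (-1 : F) = c.torus w := by
        rw [show (-1 : F) = ((-1 : Fˣ) : F) by simp, c.hg_eq_torus hr]
      refine ⟨w * z', by rw [List.map_cons, List.prod_cons, e, hw, map_mul], fun u hu => ?_⟩
      have e2 : c.tchar w u = (-1 : Fˣ) ^ c.T.pairing r u := by
        have := hw
        rw [show (-1 : F) = ((-1 : Fˣ) : F) by simp, c.hg_eq hr, Cert.torus_apply, dg_eq_iff]
          at this
        exact (this u hu).symm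
      have e3 : c.tchar (w * z') u = c.tchar w u * c.tchar z' u := by
        simp [Cert.tchar, mul_zpow, Finset.prod_mul_distrib]
      rw [e3, e2, hv u hu, List.map_cons, List.sum_cons, _root_.zpow_add]
  obtain ⟨z', e, hv⟩ := hz' S hS
  rw [e, Cert.torus_apply, Cert.torus_apply]
  refine dg_ext D F fun u hu => ?_
  rw [c.tchar_eq_prod z' hu, c.tchar_eq_prod z hu]
  refine Finset.prod_congr rfl fun j hj => ?_
  have hj' := Finset.mem_range.1 hj
  rw [hv _ (c.simple_lt hj'), hpar j hj']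

omit c in
theorem sign_subgroup_isPGroup :
    IsPGroup 2 ↥((powMonoidHom 2 : (ℕ → Fˣ) →* (ℕ → Fˣ)).ker) := fun z =>
  ⟨1, Subtype.ext (show (z : ℕ → Fˣ) ^ 2 ^ 1 = 1 by rw [pow_one]; exact z.2)⟩

/-- The main criterion. -/
theorem good_of_frame [Fintype F] {p : ℕ} [Fact p.Prime] [CharP F p] (hp : p ≠ 2)
    {G₁ : Subgroup (GL D.Idx F)} (hG : G₁ ≤ D.group F)
    {ys R roots : List ℕ} {sym : List (ℕ × ℕ)} {wit : List (List ℕ)}
    (hneg : c.T.checkPairNeg = true) (hmv : c.T.checkMoved ys = true)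
    (hfr : c.T.checkFrameRoots R = true) (hsub : ∀ r ∈ R, r ∈ roots)
    (hwit : c.T.checkWit R sym roots wit = true)
    (v : ℕ → Fˣ) (hys : ∀ y ∈ ys, c.torus (signPar F y) ∈ G₁)
    (hroots : ∀ r ∈ roots, r < D.nroots →
      c.xg r (v r : F) ∈ G₁ ∧ c.xg (D.neg r) ((v r : F)⁻¹) ∈ G₁)
    (hsym : ∀ z : ℕ → Fˣ, c.torus z ∈ G₁ →
      (∀ s < D.nroots, c.tchar z s = 1 ∨ c.tchar z s = -1) →
      ∀ q ∈ sym, q.1 < D.rank ∧ q.2 < D.rank ∧
        c.tchar z (D.simple q.1) = c.tchar z (D.simple q.2))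
    (hword : ∀ g ∈ G₁, ∀ a ∈ D.diagonalSubgroup F, ∀ L : List ℕ, (∀ p ∈ L, p < D.rank) →
      g = a * c.nw F L → g * g = 1 → (∀ y ∈ ys, c.KeepsChar (signPar F y) L) →
      (∀ r ∈ R, c.wl L r = r) → (∀ r ∈ R, Commute g (c.ng r (v r : F))) →
      g ∈ D.diagonalSubgroup F) :
    OddCentral.Good ↥G₁ := by
  classical
  have h2 : (2 : F) ≠ 0 := by
    intro e
    have hd : p ∣ 2 := (CharP.cast_eq_zero_iff F p 2).1 (by exact_mod_cast e)
    exact hp ((Nat.prime_dvd_prime_iff_eq Fact.out Nat.prime_two).1 hd)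
  obtain ⟨α, β, hab, k, hk⟩ := exists_params (F := F) (p := p)
  set α' := ZMod.castHom (dvd_refl p) F α
  set β' := ZMod.castHom (dvd_refl p) F β
  simp only [Tables.checkFrameRoots, Bool.and_eq_true, List.all_eq_true, Nat.blt_eq,
    c.allRoots_iff, Bool.or_eq_true, Nat.beq_eq, Bool.not_eq_true', List.any_eq_true,
    List.mem_range] at hfr
  obtain ⟨hRr, hpicks⟩ := hfr
  have hRlt : ∀ r ∈ R, r < D.nroots := fun r hr => c.nroots_eq.symm ▸ (hRr r hr).1.1
  have hpw : R.Pairwise c.Orth := by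
    refine (c.T.pairwise_of_picks (L := R) (by simpa [List.all_eq_true] using hpicks)).imp_of_mem
      fun {x y} hx hy h => c.orth_of_strong (hRlt x hx) (hRlt y hy) h
  have hφ : ∀ r, ∃ φ : SL(2, F) →* GL D.Idx F, r < D.nroots →
      (∀ t, φ (upSL t) = c.xg r ((v r : F) * t)) ∧
      (∀ t, φ (loSL t) = c.xg (D.neg r) (t / (v r : F))) ∧ φ wSL = c.ng r (v r : F) ∧
      φ (-1) = c.hg r (-1 : F) ∧
      ∀ (t : Fˣ) (h : (t : F) ≠ 0), φ (dSL (t : F) h) = c.hg r (t : F) := by
    intro r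
    by_cases hr : r < D.nroots
    · obtain ⟨φ, h⟩ := c.exists_scaled (F := F) hr (v r)
      exact ⟨φ, fun _ => h⟩
    · exact ⟨1, fun h => absurd h hr⟩
  choose φ hφ using hφ
  let S₀ : Subgroup (GL D.Idx F) :=
    ((powMonoidHom 2 : (ℕ → Fˣ) →* (ℕ → Fˣ)).ker).map c.torus
  let P : ℕ → Subgroup (GL D.Idx F) := fun r => (twoM α' β' hab).map (φ r)
  -- the 2-group
  have hX : ∀ l : List ℕ, (∀ r ∈ l, r < D.nroots) → l.Pairwise c.Orth →
      ∃ X : Subgroup (GL D.Idx F), IsPGroup 2 X ∧ S₀ ≤ X ∧ (∀ r ∈ l, P r ≤ X) ∧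
        (∀ r < D.nroots, (∀ s ∈ l, c.Orth r s) →
          X ≤ Subgroup.normalizer (P r : Set (GL D.Idx F))) := by
    intro l
    induction l with
    | nil =>
      intro _ _
      refine ⟨S₀, (CertFull.sign_subgroup_isPGroup (F := F)).map _, le_rfl, by simp, fun r hr _ => ?_⟩
      rintro _ ⟨z, hz, rfl⟩
      have hz2 : z * z = 1 := by
        have : z ^ 2 = 1 := hz
        rwa [pow_two] at this
      have hzs : c.tchar z r = 1 ∨ c.tchar z r = -1 := by
        have h' : c.tchar z r * c.tchar z r = 1 := by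
          rw [show c.tchar z r * c.tchar z r = c.tchar (z * z) r by
            simp [Cert.tchar, mul_zpow, Finset.prod_mul_distrib], hz2]
          simp [Cert.tchar]
        rcases mul_self_eq_one_iff.1 (show (c.tchar z r : F) * (c.tchar z r : F) = 1 by
          rw [← Units.val_mul, h', Units.val_one]) with e | e
        · exact Or.inl (Units.ext e)
        · exact Or.inr (Units.ext (by rw [e, Units.val_neg, Units.val_one]))
      have hfwd : ∀ x ∈ P r, c.torus z * x * (c.torus z)⁻¹ ∈ P r := by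
        rintro _ ⟨x, hx, rfl⟩
        rcases hzs with e | e
        · rw [(c.torus_conj_hom z hr (hφ r hr).1 (hφ r hr).2.1 x).1 e]
          exact ⟨x, hx, rfl⟩
        · rw [(c.torus_conj_hom z hr (hφ r hr).1 (hφ r hr).2.1 x).2 e]
          exact ⟨_, flip_mem hx, rfl⟩
      have hinv : (c.torus z)⁻¹ = c.torus z :=
        inv_eq_of_mul_eq_one_right (by rw [← map_mul, hz2, map_one])
      rw [Subgroup.mem_normalizer_iff]
      refine fun x => ⟨hfwd x, fun hx => ?_⟩
      have := hfwd _ hx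
      have e : c.torus z * (c.torus z * x * (c.torus z)⁻¹) * (c.torus z)⁻¹ = x := by
        rw [hinv, ← mul_assoc, ← mul_assoc, ← map_mul, hz2, map_one, one_mul, mul_assoc,
          ← map_mul, hz2, map_one, mul_one]
      rwa [e] at this
    | cons r l ih =>
      intro hl hp'
      obtain ⟨h1, h3⟩ := List.pairwise_cons.1 hp'
      obtain ⟨X, hXp, hS, hPX, hXn⟩ := ih (fun s hs => hl s (by simp [hs])) h3
      have hr := hl r (by simp)
      have hPp : IsPGroup 2 (P r) := (isPGroup_twoM hk).map _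
      refine ⟨P r ⊔ X, hPp.to_sup_of_normal_left' hXp (hXn r hr h1), le_sup_of_le_right hS,
        fun s hs => ?_, fun s hs hsl => ?_⟩
      · rcases List.mem_cons.1 hs with rfl | hs
        · exact le_sup_left
        · exact le_sup_of_le_right (hPX s hs)
      refine sup_le ?_ (hXn s hs fun x hx => hsl x (by simp [hx]))
      refine le_trans ?_ (Subgroup.centralizer_le_normalizer _)
      rintro _ ⟨y, -, rfl⟩
      rw [Subgroup.mem_centralizer_iff]
      rintro _ ⟨x, -, rfl⟩
      have ho : c.Orth s r := hsl r (by simp)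
      obtain ⟨u1, l1, -⟩ := hφ r hr
      obtain ⟨u2, l2, -⟩ := hφ s hs
      refine (c.commute_range (g := φ s x) (φ := φ r) (fun t => ?_) (fun t => ?_) y).eq
      · refine (c.commute_range (g := φ r (upSL t)) (φ := φ s) (fun t' => ?_) (fun t' => ?_) x).symm
        · rw [u1, u2]; exact (c.xg_commute_strong hs hr ho _ _).1.symm
        · rw [u1, l2]; exact (c.xg_commute_strong hs hr ho _ _).2.2.1.symm
      · refine (c.commute_range (g := φ r (loSL t)) (φ := φ s) (fun t' => ?_) (fun t' => ?_) x).symm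
        · rw [l1, u2]; exact (c.xg_commute_strong hs hr ho _ _).2.1.symm
        · rw [l1, l2]; exact (c.xg_commute_strong hs hr ho _ _).2.2.2.symm
  obtain ⟨X, hXp, hSX, hPX, -⟩ := hX R hRlt hpw
  have hQ : IsPGroup 2 (X.subgroupOf G₁) :=
    hXp.comap_of_injective G₁.subtype G₁.subtype_injective
  refine OddCentral.good_of_witness _ hQ fun g hg2 hgc => ?_
  have hg2' : (g : GL D.Idx F) * g = 1 := by simpa using congrArg Subtype.val hg2
  have hcom : ∀ x ∈ X, x ∈ G₁ → Commute x (g : GL D.Idx F) := fun x hx hx1 => by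
    have := congrArg Subtype.val (hgc ⟨x, hx1⟩ hx)
    exact this
  have hcy : ∀ y ∈ ys, Commute (c.torus (signPar F y)) (g : GL D.Idx F) := fun y hy => by
    refine hcom _ (hSX ⟨signPar F y, ?_, rfl⟩) (hys y hy)
    show (signPar F y) ^ 2 = 1
    funext i
    rw [pow_two]
    simp only [Pi.mul_apply, signPar, Pi.one_apply]
    cases Nat.testBit y i <;> simp
  obtain ⟨a, ha, L, hL, ega, hkeep⟩ := c.exists_mono_of_signs hmv h2 (hG g.2) hcy
  have hmem : ∀ r ∈ R, φ r wSL ∈ G₁ ∧ φ r (traceSL α' β' hab) ∈ G₁ := by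
    intro r hr
    obtain ⟨hu, hl, -⟩ := hφ r (hRlt r hr)
    obtain ⟨m1, m2⟩ := hroots r (hsub r hr) (hRlt r hr)
    have hu1 : φ r (upSL 1) ∈ G₁ := by rw [hu, mul_one]; exact m1
    have hl1 : φ r (loSL 1) ∈ G₁ := by rw [hl, one_div]; exact m2
    refine ⟨?_, trace_mem_image (φ r) hu1 hl1 hab⟩
    have e : (wSL : SL(2, F)) = upSL 1 * (loSL 1)⁻¹ * upSL 1 := by
      rw [OddCentral.wSL_eq]
      congr 2
      refine ext_two ?_ ?_ ?_ ?_ <;> simp [loSL_val, inv_val, Matrix.adjugate_fin_two]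
    rw [e, map_mul, map_mul, map_inv]
    exact mul_mem (mul_mem hu1 (inv_mem hl1)) hu1
  have hfix : ∀ r ∈ R, c.wl L r = r := by
    intro r hr
    obtain ⟨hu, hl, hw, hm1, hd⟩ := hφ r (hRlt r hr)
    obtain ⟨⟨-, hprop⟩, u₀, hu₀, hodd⟩ := hRr r hr
    rw [← c.nroots_eq] at hu₀
    refine c.wl_fix_of_commute ha hL (by rw [← ega]; exact hg2') (hRlt r hr) hneg ?_ hu₀ hodd h2
      hu hl hw hm1 hd hab ?_ ?_
    · intro u hu' hvec
      rcases hprop u hu' with (h | h) | h
      · exact Or.inl h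
      · exact Or.inr (h.trans (c.neg_eq (hRlt r hr)).symm)
      · rw [List.all_eq_false] at h
        obtain ⟨j, hj, hne⟩ := h
        exact absurd (hvec j (c.rank_eq.symm ▸ List.mem_range.1 hj))
          fun e => hne (by rw [e]; exact intBeq_self _)
    · rw [← ega]
      exact (hcom _ (hPX r hr ⟨_, weyl_mem, rfl⟩) (hmem r hr).1).symm
    · rw [← ega]
      exact (hcom _ (hPX r hr ⟨_, trace_mem, rfl⟩) (hmem r hr).2).symm
  have hgH := hword g g.2 a ha L hL ega hg2' hkeep hfix fun r hr => by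
    rw [← (hφ r (hRlt r hr)).2.2.1]
    exact (hcom _ (hPX r hr ⟨_, weyl_mem, rfl⟩) (hmem r hr).1).symm
  rw [c.diagonalSubgroup_eq] at hgH
  obtain ⟨z, hz⟩ := hgH
  have hpm : ∀ s < D.nroots, c.tchar z s = 1 ∨ c.tchar z s = -1 := by
    intro s hs
    have hsq := hg2'
    rw [← hz, ← map_mul, ← map_one (c.torus (F := F)), Cert.torus_apply, Cert.torus_apply,
      dg_eq_iff] at hsq
    have h' : c.tchar z s * c.tchar z s = 1 := by
      rw [show c.tchar z s * c.tchar z s = c.tchar (z * z) s by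
        simp [Cert.tchar, mul_zpow, Finset.prod_mul_distrib], hsq s hs]
      simp [Cert.tchar]
    rcases mul_self_eq_one_iff.1 (show (c.tchar z s : F) * (c.tchar z s : F) = 1 by
      rw [← Units.val_mul, h', Units.val_one]) with e | e
    · exact Or.inl (Units.ext e)
    · exact Or.inr (Units.ext (by rw [e, Units.val_neg, Units.val_one]))
  -- the pattern
  set f : Fin c.T.l → Bool := fun j => decide (c.tchar z (D.simple j) = -1)
  set m := Nat.ofBits f
  have hm1 : (-1 : Fˣ) ≠ 1 := neg_one_units_ne h2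
  have hbit : ∀ j < D.rank, c.tchar z (D.simple j) = bif Nat.testBit m j then -1 else 1 := by
    intro j hj
    have hj' : j < c.T.l := c.rank_eq ▸ hj
    rw [show Nat.testBit m j = f ⟨j, hj'⟩ from Nat.testBit_ofBits_lt f j hj']
    rcases hpm _ (c.simple_lt hj) with e | e <;> simp [f, e, hm1.symm]
  have hmexp : ∀ s < D.nroots, c.tchar z s = (-1 : Fˣ) ^ c.T.maskExp m s := fun s hs => by
    rw [c.tchar_eq_prod z hs]
    exact c.zpow_mask m s _ hbit
  have hkeepm : c.T.keepMask R sym m = true := by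
    simp only [Tables.keepMask, Bool.and_eq_true, List.all_eq_true, Bool.not_eq_true', beq_iff_eq]
    refine ⟨fun r hr => ?_, fun q hq => ?_⟩
    · obtain ⟨hu, hl, hw, hm, -⟩ := hφ r (hRlt r hr)
      obtain ⟨-, u₀, hu₀, hodd⟩ := hRr r hr
      rw [← c.nroots_eq] at hu₀
      rcases hpm r (hRlt r hr) with e | e
      · rwa [hmexp r (hRlt r hr), neg_one_zpow_eq h2] at e
      exfalso
      have h1 := (c.torus_conj_hom z (hRlt r hr) hu hl wSL).2 e
      have h3 := (hcom _ (hPX r hr ⟨_, weyl_mem, rfl⟩) (hmem r hr).1).eq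
      rw [← hz] at h3
      rw [← h3, mul_inv_cancel_right, flipSL_w, ← neg_one_mul wSL, map_mul, hm] at h1
      exact c.hg_neg_one_ne (hRlt r hr) h2 hu₀ hodd (mul_eq_right.1 h1.symm)
    · obtain ⟨hq1, hq2, e⟩ := hsym z (hz ▸ g.2) hpm q hq
      rw [hbit _ hq1, hbit _ hq2] at e
      revert e
      cases Nat.testBit m q.1 <;> cases Nat.testBit m q.2 <;> simp [hm1, hm1.symm]
  simp only [Tables.checkWit, List.all_eq_true, List.mem_range, Bool.or_eq_true,
    Bool.not_eq_true', List.any_eq_true, Bool.and_eq_true, Nat.blt_eq, Nat.beq_eq,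
    beq_iff_eq] at hwit
  rcases hwit m (Nat.ofBits_lt_two_pow f) with h | ⟨S, -, ⟨hSr, hSp⟩, hSpar⟩
  · rw [hkeepm] at h; cases h
  have hSlt : ∀ s ∈ S, s < D.nroots := fun s hs => c.nroots_eq.symm ▸ (hSr s hs).1
  have hSin : ∀ s ∈ S, s ∈ roots := fun s hs => by
    obtain ⟨x, hx, e⟩ := (hSr s hs).2
    exact e.symm ▸ hx
  have hSmem : ∀ s ∈ S, c.ng s (v s : F) ∈ G₁ := fun s hs => by
    obtain ⟨h1, h3⟩ := hroots s (hSin s hs) (hSlt s hs)
    show c.xg s (v s : F) * c.xg (D.neg s) (-(v s : F)⁻¹) * c.xg s (v s : F) ∈ G₁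
    refine mul_mem (mul_mem h1 ?_) h1
    rw [← c.xg_inv]
    exact inv_mem h3
  have hy := c.torus_eq_sq (z := z) (v := v) hSlt
    ((c.T.pairwise_of_picks (L := S) (by simpa [List.all_eq_true] using hSp)).imp_of_mem
      fun {x y} hx hy h => c.orth_of_strong (hSlt x hx) (hSlt y hy) h)
    (fun q hq => by
      have h := hSpar q (c.rank_eq ▸ hq)
      rw [← c.simple_eq hq] at h
      rw [hbit q hq, h]
      cases ho : isOdd (S.map fun s => c.T.pairing s (D.simple q)).sum
      · exact ((neg_one_zpow_eq h2 _).2 ho).symm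
      · rw [isOdd_iff] at ho
        exact (Odd.neg_one_zpow (Int.odd_iff.2 ho)).symm)
  have hmemy : (S.map fun s => c.ng s (v s : F)).prod ∈ G₁ :=
    Subgroup.list_prod_mem _ fun x hx => by
      obtain ⟨s, hs, rfl⟩ := List.mem_map.1 hx
      exact hSmem s hs
  exact OddCentral.witness_sq (y := ⟨_, hmemy⟩) hg2 (Subtype.ext (hy.trans hz))

/-- The word criterion from the table. -/
theorem mem_H_of_fixed {ys R : List ℕ} (hfx : c.T.checkFixed ys R = true) (h2 : (2 : F) ≠ 0)
    (hR : ∀ r ∈ R, r < D.nroots)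
    {g a : GL D.Idx F} (ha : a ∈ D.diagonalSubgroup F) {L : List ℕ} (hL : ∀ p ∈ L, p < D.rank)
    (e : g = a * c.nw F L) (hk : ∀ y ∈ ys, c.KeepsChar (signPar F y) L)
    (hfix : ∀ r ∈ R, c.wl L r = r) : g ∈ D.diagonalSubgroup F := by
  simp only [Tables.checkFixed, List.all_eq_true, List.mem_range, c.allRoots_iff, Bool.or_eq_true,
    List.any_eq_true, bne_iff_ne, Bool.not_eq_true', Nat.ble_eq] at hfx
  rw [e]
  refine c.mem_H_of_wl ha hL fun q hq => ?_
  have hα := c.simple_lt hq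
  set b := c.wl L (D.simple q)
  have hb : b < D.nroots := c.wl_lt hL hα
  rcases hfx q (c.rank_eq ▸ hq) b hb with (h | ⟨y, hy, h⟩) | ⟨r, hr, h⟩
  · exact ⟨h, hb⟩
  · exfalso
    rw [← c.simple_eq hq] at h
    refine h (Bool.eq_iff_iff.2 ?_)
    rw [← c.tchar_signPar_iff h2, ← c.tchar_signPar_iff h2, hk y hy _ hα]
  · exfalso
    have e2 := c.pairing_wl hL (hR r hr) hα
    rw [hfix r hr] at e2
    rw [← c.simple_eq hq, e2, intBeq_self] at h
    cases h

end CertFull

end Cfsg.Agent.Lie.Chev
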