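import Cfsg.Agent.Lib.Fus.OddCentral.Elementary

/-! If all involutions of the elementary Sylow 2-subgroup are conjugate to `t` under its normaliser,
the subgroup generated by the involutions is simple and contains the centraliser of `t`. -/

set_option autoImplicit false

namespace Cfsg.Agent.OddCentral

open Subgroup

variable {G : Type*} [Group G] [Finite G] {t : G} {S : Sylow 2 G} {F : Subgroup G}

variable (G) in
/-- The subgroup generated by the involutions. -/
def involHull : Subgroup G := Subgroup.closure {e | e * e = 1}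

omit [Finite G] in
theorem involHull_normal : (involHull G).Normal := by
  refine Subgroup.Normal.mk fun n hn g => ?_
  have hle : (involHull G).map (MulAut.conj g).toMonoidHom ≤ involHull G := by
    rw [involHull, MonoidHom.map_closure, Subgroup.closure_le]
    rintro _ ⟨e, he, rfl⟩
    refine Subgroup.subset_closure ?_
    show g * e * g⁻¹ * (g * e * g⁻¹) = 1
    rw [show g * e * g⁻¹ * (g * e * g⁻¹) = g * (e * e) * g⁻¹ by group, he]
    group
  exact hle ⟨n, hn, rfl⟩

omit [Finite G] in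
theorem eq_one_of_conj' {H : Type*} [Group H] {x a : H} (e : x⁻¹ * a * x = 1) : a = 1 := by
  rw [show a = x * (x⁻¹ * a * x) * x⁻¹ by group, e]; group

omit [Finite G] in
theorem center_eq_bot_of_simple {H : Type*} [Group H] [IsSimpleGroup H] (hna : ¬ IsMulCommutative H) :
    Subgroup.center H = ⊥ := by
  rcases Subgroup.Normal.eq_bot_or_eq_top (inferInstance : (Subgroup.center H).Normal) with e | e
  · exact e
  · refine absurd ⟨⟨fun a b => ?_⟩⟩ hna
    exact (Subgroup.mem_center_iff.1 (e ▸ Subgroup.mem_top a) b).symm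

namespace Setup

variable (h : Setup t S F)
include h

omit [Finite G] in
theorem mem_C {f : G} (hf : f ∈ F) : f ∈ Subgroup.centralizer ({t} : Set G) :=
  Subgroup.mem_centralizer_singleton_iff.2 (h.commute_t hf).eq.symm

omit [Finite G] in
theorem conj_F {c f : G} (hc : c ∈ Subgroup.centralizer ({t} : Set G)) (hf : f ∈ F) :
    c * f * c⁻¹ ∈ F := by
  rcases h.mem_or hc with h1 | h1
  · exact mul_mem (mul_mem h1 hf) (inv_mem h1)
  · have e : c * f * c⁻¹ = t * c * f * (t * c)⁻¹ := by
      have hcf : Commute t (c * f * c⁻¹) := by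
        have hct : Commute t c := (Subgroup.mem_centralizer_singleton_iff.1 hc).symm
        exact (hct.mul_right (h.commute_t hf)).mul_right hct.inv_right
      rw [mul_inv_rev, show t * c * f * (c⁻¹ * t⁻¹) = t * (c * f * c⁻¹) * t⁻¹ by group, hcf.eq,
        mul_inv_cancel_right]
    exact e ▸ mul_mem (mul_mem h1 hf) (inv_mem h1)

omit [Finite G] in
/-- A subgroup invariant under `C(t)` contains `F` or meets `C(t)` in a subgroup of `⟨t⟩`. -/
theorem dichotomy [IsSimpleGroup ↥F] (hna : ¬ IsMulCommutative ↥F) {N : Subgroup G}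
    (hN : ∀ c ∈ Subgroup.centralizer ({t} : Set G), ∀ n ∈ N, c * n * c⁻¹ ∈ N) :
    F ≤ N ∨ ∀ n ∈ N, n ∈ Subgroup.centralizer ({t} : Set G) → n = 1 ∨ n = t := by
  have hnorm : (N.subgroupOf F).Normal := Subgroup.Normal.mk fun n hn g =>
    show ((g : G) * n * (g : G)⁻¹) ∈ N from hN _ (h.mem_C g.2) _ hn
  rcases Subgroup.Normal.eq_bot_or_eq_top hnorm with e | e
  swap
  · exact Or.inl (Subgroup.subgroupOf_eq_top.1 e)
  refine Or.inr fun n hn hnc => ?_
  have hcent : ∀ f ∈ F, n * f = f * n := by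
    intro f hf
    have h1 : n * f * n⁻¹ * f⁻¹ ∈ N := by
      have := mul_mem hn (hN f (h.mem_C hf) _ (inv_mem hn))
      simpa [mul_assoc] using this
    have h2 : n * f * n⁻¹ * f⁻¹ ∈ F := mul_mem (h.conj_F hnc hf) (inv_mem hf)
    have h3 : (⟨_, h2⟩ : ↥F) ∈ N.subgroupOf F := h1
    rw [e, Subgroup.mem_bot] at h3
    have h4 : n * f * n⁻¹ * f⁻¹ = 1 := congrArg Subtype.val h3
    rwa [mul_inv_eq_one, mul_inv_eq_iff_eq_mul] at h4
  have key : ∀ m ∈ F, (∀ f ∈ F, m * f = f * m) → m = 1 := by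
    intro m hm hmc
    have : (⟨m, hm⟩ : ↥F) ∈ Subgroup.center ↥F :=
      Subgroup.mem_center_iff.2 fun g => Subtype.ext (hmc g g.2).symm
    rw [center_eq_bot_of_simple hna, Subgroup.mem_bot] at this
    exact congrArg Subtype.val this
  rcases h.mem_or hnc with h1 | h1
  · exact Or.inl (key n h1 hcent)
  · refine Or.inr ?_
    have := key _ h1 fun f hf => by
      rw [mul_assoc, hcent f hf, ← mul_assoc, (h.commute_t hf).eq, mul_assoc]
    rw [← inv_eq_of_mul_eq_one_right this, inv_eq_of_mul_eq_one_right h.sq]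

/-- The hull is simple. -/
theorem hull_simple [IsSimpleGroup ↥F] (hna : ¬ IsMulCommutative ↥F)
    (hexp : ∀ s ∈ (S : Subgroup G), s * s = 1)
    (hall : ∀ s ∈ (S : Subgroup G), s ≠ 1 →
      ∃ x ∈ Subgroup.normalizer ((S : Subgroup G) : Set G), x⁻¹ * t * x = s)
    (hFeven : ∃ u ∈ (S : Subgroup G), u ∈ F ∧ u ≠ 1) :
    (S : Subgroup G) ≤ involHull G ∧ Subgroup.centralizer ({t} : Set G) ≤ involHull G ∧
      IsSimpleGroup ↥(involHull G) := by
  classical
  haveI : Fact (Nat.Prime 2) := ⟨Nat.prime_two⟩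
  haveI hMn : (involHull G).Normal := involHull_normal
  set M := involHull G with hM
  set C := Subgroup.centralizer ({t} : Set G)
  have hSM : (S : Subgroup G) ≤ M := fun s hs => Subgroup.subset_closure (hexp s hs)
  obtain ⟨u, huS, huF, hu1⟩ := hFeven
  have htu : t ≠ u := fun e => h.t_notMem (e ▸ huF)
  have hFM : F ≤ M := by
    rcases Subgroup.Normal.eq_bot_or_eq_top (inferInstance : (M.subgroupOf F).Normal) with e | e
    · have h3 : (⟨u, huF⟩ : ↥F) ∈ M.subgroupOf F := hSM huS
      rw [e, Subgroup.mem_bot] at h3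
      exact absurd (congrArg Subtype.val h3) hu1
    · exact Subgroup.subgroupOf_eq_top.1 e
  have hCM : C ≤ M := by
    intro c hc
    rcases h.mem_or hc with h1 | h1
    · exact hFM h1
    · have := mul_mem (hSM h.htS) (hFM h1)
      rwa [← mul_assoc, h.sq, one_mul] at this
  refine ⟨hSM, hCM, ?_⟩
  haveI : Nontrivial ↥M := ⟨⟨⟨t, hSM h.htS⟩, 1, fun e => h.ne_one (congrArg Subtype.val e)⟩⟩
  refine ⟨fun N₀ hN₀ => or_iff_not_imp_left.2 fun hne => ?_⟩
  set N := N₀.map M.subtype
  have hNn : ∀ c ∈ M, ∀ n ∈ N, c * n * c⁻¹ ∈ N := by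
    rintro c hc _ ⟨n, hn, rfl⟩
    exact ⟨⟨c, hc⟩ * n * ⟨c, hc⟩⁻¹, hN₀.conj_mem n hn _, rfl⟩
  -- an element of `S`, its centraliser and the matching conjugate of `F`
  have dich : ∀ x ∈ Subgroup.normalizer ((S : Subgroup G) : Set G),
      (∀ f ∈ F, x⁻¹ * f * x ∈ N) ∨
        ∀ n ∈ N, n * (x⁻¹ * t * x) = (x⁻¹ * t * x) * n → n = 1 ∨ n = x⁻¹ * t * x := by
    intro x hx
    have hN' : ∀ c ∈ C, ∀ n ∈ N.map (MulAut.conj x).toMonoidHom,
        c * n * c⁻¹ ∈ N.map (MulAut.conj x).toMonoidHom := by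
      rintro c hc _ ⟨n, hn, rfl⟩
      refine ⟨x⁻¹ * c * x * n * (x⁻¹ * c * x)⁻¹, hNn _ ?_ n hn, ?_⟩
      · simpa using hMn.conj_mem c (hCM hc) x⁻¹
      · simp only [MulEquiv.toMonoidHom_eq_coe, MonoidHom.coe_coe, MulAut.conj_apply]
        group
    rcases h.dichotomy hna hN' with h1 | h1
    · refine Or.inl fun f hf => ?_
      obtain ⟨n, hn, e⟩ := h1 hf
      rw [← e]
      simpa [mul_assoc] using hn
    · refine Or.inr fun n hn hc => ?_
      have := h1 (x * n * x⁻¹) ⟨n, hn, rfl⟩ (Subgroup.mem_centralizer_singleton_iff.2 (by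
        calc x * n * x⁻¹ * t = x * (n * (x⁻¹ * t * x)) * x⁻¹ := by group
          _ = x * (x⁻¹ * t * x * n) * x⁻¹ := by rw [hc]
          _ = t * (x * n * x⁻¹) := by group))
      rcases this with e | e
      · exact Or.inl (conj_eq_one_iff.1 e)
      · exact Or.inr (by rw [← e]; group)
  have hVx : ∀ x ∈ Subgroup.normalizer ((S : Subgroup G) : Set G), x⁻¹ * u * x ∈ (S : Subgroup G) :=
    fun x hx => by
      have := (Subgroup.mem_normalizer_iff.1 (inv_mem hx) u).1 huS
      simpa using this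
  -- an involution of `N` in `S`
  obtain ⟨e, heN, heS, he1⟩ : ∃ e ∈ N, e ∈ (S : Subgroup G) ∧ e ≠ 1 := by
    by_contra hcon
    push Not at hcon
    -- then every involution of `S` inverts `N`
    have hfix : ∀ s ∈ (S : Subgroup G), s ≠ 1 → ∀ n ∈ N, n * s = s * n → n = 1 := by
      intro s hs hs1 n hn hc
      obtain ⟨x, hx, rfl⟩ := hall s hs hs1
      rcases dich x hx with h1 | h1
      · exact absurd (eq_one_of_conj' (hcon _ (h1 u huF) (hVx x hx))) hu1
      · exact (h1 n hn hc).resolve_right fun e => hs1 (hcon _ (e ▸ hn) hs)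
    have hinv : ∀ s ∈ (S : Subgroup G), s ≠ 1 → ∀ n ∈ N, s * n * s = n⁻¹ := by
      intro s hs hs1 n hn
      have hss := hexp s hs
      have hsi : s⁻¹ = s := inv_eq_of_mul_eq_one_right hss
      have hconj : ∀ n ∈ N, s * n * s ∈ N := fun n hn => by
        have := hNn s (hSM hs) n hn
        rwa [hsi] at this
      let φ : ↥N → ↥N := fun n => ⟨(n : G)⁻¹ * (s * n * s), mul_mem (inv_mem n.2) (hconj n n.2)⟩
      have hφ : Function.Injective φ := by
        intro a b e
        have e' : (a : G)⁻¹ * (s * a * s) = (b : G)⁻¹ * (s * b * s) := congrArg Subtype.val e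
        refine Subtype.ext (mul_inv_eq_one.1 (hfix s hs hs1 _ (mul_mem b.2 (inv_mem a.2)) ?_)).symm
        calc (b : G) * (a : G)⁻¹ * s
            = (b : G) * ((a : G)⁻¹ * (s * a * s)) * (s⁻¹ * (a : G)⁻¹ * s⁻¹) * s := by group
          _ = s * b * s * (s⁻¹ * (a : G)⁻¹ * s⁻¹) * s := by rw [e']; group
          _ = s * ((b : G) * (a : G)⁻¹) := by group
      obtain ⟨m, hm⟩ := Finite.injective_iff_surjective.1 hφ ⟨n, hn⟩
      have hm' : (m : G)⁻¹ * (s * m * s) = n := congrArg Subtype.val hm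
      rw [← hm', mul_inv_rev, inv_inv, mul_inv_rev, mul_inv_rev, hsi]
      calc s * ((m : G)⁻¹ * (s * m * s)) * s = s * (m : G)⁻¹ * s * (m : G) * (s * s) := by group
        _ = _ := by rw [hss]; group
    refine hne ((Subgroup.map_eq_bot_iff_of_injective _ M.subtype_injective).1
      ((Subgroup.eq_bot_iff_forall _).2 fun n hn => ?_))
    refine hfix (t * u) (mul_mem h.htS huS) (fun e => htu ?_) n hn ?_
    · rw [← inv_eq_of_mul_eq_one_right e, inv_eq_of_mul_eq_one_right h.sq]
    · have e1 : t * (u * n * u) * t = n := by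
        rw [hinv u huS hu1 n hn, hinv t h.htS h.ne_one _ (inv_mem hn), inv_inv]
      have e2 : t * u * (t * u) = 1 := hexp _ (mul_mem h.htS huS)
      calc n * (t * u) = t * (u * n * u) * t * (t * u) := by rw [e1]
        _ = t * u * n * (u * (t * t) * u) := by group
        _ = t * u * n * (u * u) := by rw [h.sq, mul_one]
        _ = t * u * n := by rw [hexp u huS, mul_one]
  have hcomm : ∀ a ∈ (S : Subgroup G), ∀ b ∈ (S : Subgroup G), a * b = b * a := fun a ha b hb => by
    calc a * b = a * (a * b * (a * b)) * b := by rw [hexp _ (mul_mem ha hb), mul_one]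
      _ = (a * a) * (b * a) * (b * b) := by simp only [mul_assoc]
      _ = _ := by rw [hexp a ha, hexp b hb, one_mul, mul_one]
  -- the conjugate of `F` at any other involution of `S` is inside `N`
  have hF' : ∀ a ∈ N, a ∈ (S : Subgroup G) → a ≠ 1 →
      ∀ x ∈ Subgroup.normalizer ((S : Subgroup G) : Set G), x⁻¹ * t * x ≠ a → ∀ f ∈ F, x⁻¹ * f * x ∈ N := by
    intro a haN haS ha1 x hx hne'
    rcases dich x hx with h1 | h1
    · exact h1
    · have hxS : x⁻¹ * t * x ∈ (S : Subgroup G) := by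
        have := (Subgroup.mem_normalizer_iff.1 (inv_mem hx) t).1 h.htS
        simpa using this
      rcases h1 a haN (hcomm _ haS _ hxS) with e | e
      · exact absurd e ha1
      · exact absurd e.symm hne'
  obtain ⟨d, hdN, hdS, hd1, hde⟩ : ∃ d ∈ N, d ∈ (S : Subgroup G) ∧ d ≠ 1 ∧ d ≠ e := by
    obtain ⟨s, hsS, hs1, hse⟩ : ∃ s ∈ (S : Subgroup G), s ≠ 1 ∧ s ≠ e := by
      by_cases het : e = t
      · exact ⟨u, huS, hu1, fun hh => htu (hh.trans het).symm⟩
      · exact ⟨t, h.htS, h.ne_one, fun hh => het hh.symm⟩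
    obtain ⟨x, hx, rfl⟩ := hall s hsS hs1
    by_cases hxu : x⁻¹ * u * x = e
    · -- move `u` inside `F`, or use the conjugate of another involution
      by_cases h2 : ∃ u' ∈ (S : Subgroup G), u' ∈ F ∧ u' ≠ 1 ∧ u' ≠ u
      · obtain ⟨u', hu'S, hu'F, hu'1, hu'u⟩ := h2
        refine ⟨x⁻¹ * u' * x, hF' e heN heS he1 x hx hse _ hu'F, ?_, ?_, ?_⟩
        · have := (Subgroup.mem_normalizer_iff.1 (inv_mem hx) u').1 hu'S
          simpa using this
        · intro hh
          exact hu'1 (eq_one_of_conj' hh)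
        · intro hh
          refine hu'u ?_
          rw [← hxu] at hh
          exact mul_left_cancel (mul_right_cancel hh)
      · -- otherwise `u` is central in `F`
        exfalso
        push Not at h2
        obtain ⟨Q, hQ⟩ := h.exists_sylow_F
        have hQ2 : Nat.card ↥(Q : Subgroup ↥F) = 2 := by
          rw [Nat.card_eq_two_iff' (1 : ↥(Q : Subgroup ↥F))]
          refine ⟨⟨⟨u, huF⟩, hQ ▸ huS⟩, fun e => hu1 (congrArg (fun z : ↥(Q : Subgroup ↥F) => ((z : ↥F) : G)) e),
            fun z hz => ?_⟩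
          refine Subtype.ext (Subtype.ext (h2 _ (hQ ▸ z.2 : (z : ↥F) ∈ (S : Subgroup G).subgroupOf F)
            z.1.2 fun e => hz (Subtype.ext (Subtype.ext e))))
        haveI : IsCyclic ↥(Q : Subgroup ↥F) := isCyclic_of_prime_card hQ2
        have hmin : (Nat.card ↥F).minFac = 2 := (Nat.minFac_eq_two_iff _).2
          (hQ2 ▸ Subgroup.card_subgroup_dvd_card _)
        have hQn : Subgroup.normalizer ((Q : Subgroup ↥F) : Set ↥F) ≤
            Subgroup.centralizer ((Q : Subgroup ↥F) : Set ↥F) :=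
          IsCyclic.normalizer_le_centralizer hmin inferInstance
        haveI := IsSimpleGroup.toNontrivial (G := ↥F)
        rcases Subgroup.Normal.eq_bot_or_eq_top
          (MonoidHom.normal_ker (MonoidHom.transferSylow Q hQn)) with e' | e'
        · have hc := MonoidHom.ker_transferSylow_isComplement' Q hQn
          rw [e', Subgroup.isComplement'_bot_left] at hc
          refine hna ⟨⟨fun a b => ?_⟩⟩
          letI : CommGroup ↥(Q : Subgroup ↥F) := IsCyclic.commGroup
          exact congrArg Subtype.val (mul_comm (⟨a, hc ▸ Subgroup.mem_top a⟩ : ↥(Q : Subgroup ↥F))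
            ⟨b, hc ▸ Subgroup.mem_top b⟩)
        · have hc := MonoidHom.ker_transferSylow_isComplement' Q hQn
          rw [e', Subgroup.isComplement'_top_left] at hc
          rw [hc, Subgroup.card_bot] at hQ2
          omega
    · exact ⟨x⁻¹ * u * x, hF' e heN heS he1 x hx hse _ huF, hVx x hx,
        fun hh => hu1 (eq_one_of_conj' hh), hxu⟩
  -- hence `N` contains `S` and all involutions
  obtain ⟨x, hx, hxe⟩ := hall e heS he1
  have hSN : (S : Subgroup G) ≤ N := by
    intro s hs
    have hs' : x * s * x⁻¹ ∈ (S : Subgroup G) := (Subgroup.mem_normalizer_iff.1 hx s).1 hs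
    have hFN := hF' d hdN hdS hd1 x hx (fun hh => hde (hh.symm.trans hxe))
    rcases h.mem_or (h.S_le hs') with h1 | h1
    · simpa [mul_assoc] using hFN _ h1
    · have := mul_mem heN (hFN _ h1)
      rw [← hxe, show x⁻¹ * t * x * (x⁻¹ * (t * (x * s * x⁻¹)) * x) = x⁻¹ * (t * t) * x * s by group,
        h.sq] at this
      simpa using this
  refine eq_top_iff.2 fun m _ => ?_
  suffices hMN : M ≤ N by
    obtain ⟨m', hm', e⟩ := hMN m.2
    exact M.subtype_injective e ▸ hm'
  rw [hM, involHull, Subgroup.closure_le]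
  intro v hv
  have hvM : v ∈ M := Subgroup.subset_closure hv
  let SM : Sylow 2 ↥M := S.subtype hSM
  have hp : IsPGroup 2 (Subgroup.zpowers (⟨v, hvM⟩ : ↥M)) := by
    rintro ⟨_, k, rfl⟩
    refine ⟨1, Subtype.ext ?_⟩
    show ((⟨v, hvM⟩ : ↥M) ^ k) ^ (2 ^ 1 : ℕ) = 1
    rw [pow_one, ← zpow_natCast, ← zpow_mul, mul_comm, zpow_mul, zpow_natCast, pow_two,
      show (⟨v, hvM⟩ : ↥M) * ⟨v, hvM⟩ = 1 from Subtype.ext hv, one_zpow]
  obtain ⟨g, hg⟩ := Invol.exists_conj_subset_sylow hp SM
  have h1 : (g : G) * v * (g : G)⁻¹ ∈ (S : Subgroup G) := hg _ (Subgroup.mem_zpowers _)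
  have := hNn _ (inv_mem g.2) _ (hSN h1)
  simpa [mul_assoc] using this

end Setup

end Cfsg.Agent.OddCentral
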