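import Cfsg.Agent.Lib.Fus.OddCentral.Classical
import Cfsg.Agent.Lib.Classical.OrthSpinor

/-! Four-dimensional hyperbolic blocks: `SL(2) × SL(2)` acting on `2 × 2` matrices with the
determinant as quadratic form. -/

set_option autoImplicit false

namespace Cfsg.Agent.OddCentral

open Matrix Cfsg.Agent.Classical.OrthAut
open Cfsg.Agent.Lie.Chev (upSL loSL wSL wSL_val slHom_ext)
open scoped MatrixGroups

variable {F : Type*} [Field F]

/-- The signs of the identification of `F⁴` with `2 × 2` matrices. -/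
def sgn4 : Fin 4 → F := ![1, 1, -1, 1]

theorem sgn4_mul_self (i : Fin 4) : sgn4 (F := F) i * sgn4 i = 1 := by
  fin_cases i <;> simp [sgn4]

/-- The index pairs of a block. -/
def e22 : Fin 2 × Fin 2 ≃ Fin 4 := finProdFinEquiv

/-- `v ↦ A v Bᵀ` on `2 × 2` matrices. -/
def kr (A B : Matrix (Fin 2) (Fin 2) F) : Matrix (Fin 4) (Fin 4) F :=
  of fun i j => sgn4 i * sgn4 j * (A (e22.symm i).1 (e22.symm j).1 *
    B (e22.symm i).2 (e22.symm j).2)

theorem kr_mul (A B A' B' : Matrix (Fin 2) (Fin 2) F) :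
    kr A B * kr A' B' = kr (A * A') (B * B') := by
  ext i k
  simp only [Matrix.mul_apply, kr, of_apply]
  rw [Fintype.sum_mul_sum]
  simp only [Finset.mul_sum]
  rw [← Fintype.sum_prod_type' (f := fun a b => sgn4 i * sgn4 k *
    (A (e22.symm i).1 a * A' a (e22.symm k).1 *
      (B (e22.symm i).2 b * B' b (e22.symm k).2)))]
  refine Fintype.sum_equiv e22.symm _ _ fun j => ?_
  linear_combination (sgn4 i * sgn4 k * (A (e22.symm i).1 (e22.symm j).1 *
    B (e22.symm i).2 (e22.symm j).2 *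
    (A' (e22.symm j).1 (e22.symm k).1 *
      B' (e22.symm j).2 (e22.symm k).2))) * sgn4_mul_self (F := F) j

theorem kr_apply (A B : Matrix (Fin 2) (Fin 2) F) (p r : Fin 2 × Fin 2) :
    kr A B (e22 p) (e22 r) =
      sgn4 (e22 p) * sgn4 (e22 r) * (A p.1 r.1 * B p.2 r.2) := by
  simp [kr]

theorem sgn4_ne_zero (i : Fin 4) : sgn4 (F := F) i ≠ 0 := fun e => by
  simpa [e] using sgn4_mul_self (F := F) i

theorem kr_one : kr (1 : Matrix (Fin 2) (Fin 2) F) 1 = 1 := by
  ext i j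
  obtain ⟨p, rfl⟩ := e22.surjective i
  obtain ⟨r, rfl⟩ := e22.surjective j
  rw [kr_apply]
  rcases eq_or_ne p r with rfl | h
  · simp [sgn4_mul_self]
  · rw [Matrix.one_apply_ne (fun e => h (e22.injective e))]
    by_cases h1 : p.1 = r.1
    · have h2 : p.2 ≠ r.2 := fun h2 => h (Prod.ext h1 h2)
      simp [h1, h2]
    · simp [h1]

theorem kr_neg_left (A B : Matrix (Fin 2) (Fin 2) F) : kr (-A) B = -kr A B := by
  ext i j; simp [kr]

theorem kr_neg_right (A B : Matrix (Fin 2) (Fin 2) F) : kr A (-B) = -kr A B := by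
  ext i j; simp [kr]

theorem kr_smul_left (c : F) (A B : Matrix (Fin 2) (Fin 2) F) : kr (c • A) B = c • kr A B := by
  ext i j; simp [kr]; ring

theorem kr_smul_right (c : F) (A B : Matrix (Fin 2) (Fin 2) F) : kr A (c • B) = c • kr A B := by
  ext i j; simp [kr]; ring

/-- The quadratic form of a block. -/
def q4 (v : Fin 4 → F) : F := v 0 * v 3 + v 1 * v 2

/-- The vector as a matrix. -/
def mat4 (v : Fin 4 → F) : Matrix (Fin 2) (Fin 2) F := !![v 0, v 1; -(v 2), v 3]

theorem det_mat4 (v : Fin 4 → F) : (mat4 v).det = q4 v := by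
  simp [mat4, q4, Matrix.det_fin_two]

theorem mat4_kr (A B : Matrix (Fin 2) (Fin 2) F) (v : Fin 4 → F) :
    mat4 (kr A B *ᵥ v) = A * mat4 v * Bᵀ := by
  ext i j
  fin_cases i <;> fin_cases j <;>
    simp [mat4, kr, sgn4, Matrix.mulVec, dotProduct, Matrix.mul_apply, Fin.sum_univ_four,
      Fin.sum_univ_two, e22, finProdFinEquiv, Fin.divNat, Fin.modNat] <;> ring

theorem q4_kr {A B : Matrix (Fin 2) (Fin 2) F} (h : A.det * B.det = 1) (v : Fin 4 → F) :
    q4 (kr A B *ᵥ v) = q4 v := by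
  rw [← det_mat4, mat4_kr, Matrix.det_mul, Matrix.det_mul, Matrix.det_transpose, det_mat4,
    mul_comm A.det, mul_assoc, h, mul_one]

/-- `(g, h) ↦ kr g h` on `SL(2) × SL(2)`. -/
def phi4 : SL(2, F) × SL(2, F) →* GL (Fin 4) F where
  toFun p := ⟨kr p.1.1 p.2.1, kr p.1⁻¹.1 p.2⁻¹.1,
    by rw [kr_mul, ← Matrix.SpecialLinearGroup.coe_mul, ← Matrix.SpecialLinearGroup.coe_mul,
      mul_inv_cancel, mul_inv_cancel, Matrix.SpecialLinearGroup.coe_one, kr_one],
    by rw [kr_mul, ← Matrix.SpecialLinearGroup.coe_mul, ← Matrix.SpecialLinearGroup.coe_mul,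
      inv_mul_cancel, inv_mul_cancel, Matrix.SpecialLinearGroup.coe_one, kr_one]⟩
  map_one' := Units.ext kr_one
  map_mul' p r := Units.ext (by simp [kr_mul])

theorem phi4_val (p : SL(2, F) × SL(2, F)) : (phi4 p).1 = kr p.1.1 p.2.1 := rfl

theorem q4_phi4 (p : SL(2, F) × SL(2, F)) (v : Fin 4 → F) : q4 ((phi4 p).1 *ᵥ v) = q4 v :=
  q4_kr (by rw [p.1.2, p.2.2, one_mul]) v

theorem scalar_of_kr_left {A : Matrix (Fin 2) (Fin 2) F} {c : F} (h : kr A 1 = c • 1) :
    A = c • 1 := by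
  ext i j
  have := congrFun (congrFun h (e22 (i, 0))) (e22 (j, 0))
  rw [kr_apply, Matrix.smul_apply, smul_eq_mul] at this
  rw [Matrix.smul_apply, smul_eq_mul]
  rcases eq_or_ne i j with rfl | hij
  · simpa [sgn4_mul_self] using this
  · rw [Matrix.one_apply_ne (fun e => hij (Prod.ext_iff.1 (e22.injective e)).1),
      mul_zero] at this
    rw [Matrix.one_apply_ne hij, mul_zero]
    simpa [sgn4_ne_zero] using this

theorem scalar_of_kr_right {A : Matrix (Fin 2) (Fin 2) F} {c : F} (h : kr 1 A = c • 1) :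
    A = c • 1 := by
  ext i j
  have := congrFun (congrFun h (e22 (0, i))) (e22 (0, j))
  rw [kr_apply, Matrix.smul_apply, smul_eq_mul] at this
  rw [Matrix.smul_apply, smul_eq_mul]
  rcases eq_or_ne i j with rfl | hij
  · simpa [sgn4_mul_self] using this
  · rw [Matrix.one_apply_ne (fun e => hij (Prod.ext_iff.1 (e22.injective e)).2),
      mul_zero] at this
    rw [Matrix.one_apply_ne hij, mul_zero]
    simpa [sgn4_ne_zero] using this

theorem coe_wSL_traceSL_comm_scalar {a b : F} {h : a * a + b * b = -1} {k : ℕ}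
    (hk : rotGL a b h ^ 2 ^ k = 1) (h2 : (2 : F) ≠ 0) {M : Matrix (Fin 2) (Fin 2) F}
    (hw : M * (wSL : SL(2, F)).1 = (wSL : SL(2, F)).1 * M)
    (ht : M * (traceSL a b h).1 = (traceSL a b h).1 * M) : ∃ c : F, M = c • 1 := by
  refine (slBlockSys hk h2).cent M fun A hA => ?_
  rcases hA with rfl | rfl
  · exact hw
  · exact ht

/-- Back to the tensor coordinates. -/
def tens (M : Matrix (Fin 4) (Fin 4) F) : Matrix (Fin 2 × Fin 2) (Fin 2 × Fin 2) F :=
  of fun p r => sgn4 (e22 p) * sgn4 (e22 r) *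
    M (e22 p) (e22 r)

theorem tens_mul (M N : Matrix (Fin 4) (Fin 4) F) : tens (M * N) = tens M * tens N := by
  ext p r
  simp only [tens, of_apply, Matrix.mul_apply, Finset.mul_sum]
  refine (Fintype.sum_equiv e22 _ _ fun x => ?_).symm
  linear_combination (sgn4 (e22 p) * sgn4 (e22 r) *
    (M (e22 p) (e22 x) * N (e22 x) (e22 r))) *
      sgn4_mul_self (F := F) (e22 x)

theorem tens_kr (A B : Matrix (Fin 2) (Fin 2) F) (p r : Fin 2 × Fin 2) :
    tens (kr A B) p r = A p.1 r.1 * B p.2 r.2 := by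
  simp only [tens, of_apply, kr_apply]
  linear_combination (A p.1 r.1 * B p.2 r.2 *
    (sgn4 (e22 r) * sgn4 (e22 r))) * sgn4_mul_self (F := F) (e22 p)
    + A p.1 r.1 * B p.2 r.2 * sgn4_mul_self (F := F) (e22 r)

theorem tens_injective : Function.Injective (tens (F := F)) := by
  intro M N h
  ext i j
  obtain ⟨p, rfl⟩ := e22.surjective i
  obtain ⟨r, rfl⟩ := e22.surjective j
  have := congrFun (congrFun h p) r
  simpa [tens, sgn4_ne_zero] using this

/-- Commuting with both factors forces a scalar. -/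
theorem scalar_of_comm_kr {a b : F} {h : a * a + b * b = -1} {k : ℕ}
    (hk : rotGL a b h ^ 2 ^ k = 1) (h2 : (2 : F) ≠ 0) {M : Matrix (Fin 4) (Fin 4) F}
    (hl : ∀ A ∈ ({(wSL : SL(2, F)).1, (traceSL a b h).1} : Set (Matrix (Fin 2) (Fin 2) F)),
      M * kr A 1 = kr A 1 * M)
    (hr : ∀ A ∈ ({(wSL : SL(2, F)).1, (traceSL a b h).1} : Set (Matrix (Fin 2) (Fin 2) F)),
      M * kr 1 A = kr 1 A * M) : ∃ c : F, M = c • 1 := by
  set T := tens M with hT
  have e1 : ∀ A : Matrix (Fin 2) (Fin 2) F, M * kr A 1 = kr A 1 * M → ∀ r s,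
      (of fun i j => T (i, r) (j, s)) * A = A * (of fun i j => T (i, r) (j, s)) := by
    intro A hA r s
    ext i j
    have := congrFun (congrFun (congrArg tens hA) (i, r)) (j, s)
    simpa [tens_mul, Matrix.mul_apply, Fintype.sum_prod_type, tens_kr, Matrix.one_apply] using this
  have hN : ∀ r s, ∃ c : F, (of fun i j => T (i, r) (j, s)) = c • (1 : Matrix (Fin 2) (Fin 2) F) :=
    fun r s => coe_wSL_traceSL_comm_scalar hk h2 (e1 _ (hl _ (Or.inl rfl)) r s)
      (e1 _ (hl _ (Or.inr rfl)) r s)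
  choose C hC using hN
  have hT' : ∀ i j r s, T (i, r) (j, s) = C r s * (1 : Matrix (Fin 2) (Fin 2) F) i j :=
    fun i j r s => by simpa using congrFun (congrFun (hC r s) i) j
  have e2 : ∀ A : Matrix (Fin 2) (Fin 2) F, M * kr 1 A = kr 1 A * M → of C * A = A * of C := by
    intro A hA
    ext r s
    have := congrFun (congrFun (congrArg tens hA) (0, r)) (0, s)
    simpa [tens_mul, ← hT, hT', Matrix.mul_apply, Fintype.sum_prod_type, tens_kr, Matrix.one_apply]
      using this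
  obtain ⟨c, hc⟩ := coe_wSL_traceSL_comm_scalar hk h2 (e2 _ (hr _ (Or.inl rfl)))
    (e2 _ (hr _ (Or.inr rfl)))
  refine ⟨c, tens_injective ?_⟩
  ext ⟨i, r⟩ ⟨j, s⟩
  rw [← hT, hT', ← kr_one (F := F), ← kr_smul_left, tens_kr]
  have := congrFun (congrFun hc r) s
  simp only [of_apply] at this
  rw [this]
  simp [Matrix.smul_apply]
  ring

theorem coe_neg_one_SL : ((-1 : SL(2, F)) : Matrix (Fin 2) (Fin 2) F) = -1 := by
  rw [Matrix.SpecialLinearGroup.coe_neg, Matrix.SpecialLinearGroup.coe_one]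

theorem kr_left_sq {A : SL(2, F)} (h : A * A = -1) :
    kr A.1 1 * kr A.1 1 = -1 := by
  rw [kr_mul, one_mul, ← Matrix.SpecialLinearGroup.coe_mul, h, coe_neg_one_SL, kr_neg_left, kr_one]

theorem kr_right_sq {A : SL(2, F)} (h : A * A = -1) :
    kr 1 A.1 * kr 1 A.1 = -1 := by
  rw [kr_mul, one_mul, ← Matrix.SpecialLinearGroup.coe_mul, h, coe_neg_one_SL, kr_neg_right, kr_one]

/-- The 2-group of a hyperbolic block. -/
def orthBlockSys {a b : F} {h : a * a + b * b = -1} {k : ℕ} (hk : rotGL a b h ^ 2 ^ k = 1)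
    (h2 : (2 : F) ≠ 0) : BlockSys (Fin 4) F where
  H := ((twoM a b h).prod (twoM a b h)).map phi4
  isPGroup := by
    refine IsPGroup.map ?_ _
    have hp := isPGroup_twoM hk
    intro x
    obtain ⟨i, hi⟩ := hp ⟨x.1.1, x.2.1⟩
    obtain ⟨j, hj⟩ := hp ⟨x.1.2, x.2.2⟩
    refine ⟨i + j, Subtype.ext ?_⟩
    have hi' : x.1.1 ^ 2 ^ i = 1 := congrArg Subtype.val hi
    have hj' : x.1.2 ^ 2 ^ j = 1 := congrArg Subtype.val hj
    show x.1 ^ 2 ^ (i + j) = 1
    refine Prod.ext ?_ ?_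
    · rw [Prod.pow_fst, pow_add, pow_mul, hi', one_pow]; rfl
    · rw [Prod.pow_snd, pow_add, mul_comm, pow_mul, hj', one_pow]; rfl
  A := {⟨phi4 (wSL, 1), Subgroup.mem_map_of_mem _ ⟨weyl_mem, one_mem _⟩⟩,
    ⟨phi4 (traceSL a b h, 1), Subgroup.mem_map_of_mem _ ⟨trace_mem, one_mem _⟩⟩,
    ⟨phi4 (1, wSL), Subgroup.mem_map_of_mem _ ⟨one_mem _, weyl_mem⟩⟩,
    ⟨phi4 (1, traceSL a b h), Subgroup.mem_map_of_mem _ ⟨one_mem _, trace_mem⟩⟩}
  nonempty := ⟨_, Or.inl rfl⟩
  sq := by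
    rintro _ (rfl | rfl | rfl | rfl)
    · exact kr_left_sq wSL_mul_self
    · exact kr_left_sq (traceSL_mul_self h)
    · exact kr_right_sq wSL_mul_self
    · exact kr_right_sq (traceSL_mul_self h)
  notScalar := by
    rintro _ (rfl | rfl | rfl | rfl) c e
    · exact (slBlockSys hk h2).notScalar _ (Or.inl rfl) c (scalar_of_kr_left e)
    · exact (slBlockSys hk h2).notScalar _ (Or.inr rfl) c (scalar_of_kr_left e)
    · exact (slBlockSys hk h2).notScalar _ (Or.inl rfl) c (scalar_of_kr_right e)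
    · exact (slBlockSys hk h2).notScalar _ (Or.inr rfl) c (scalar_of_kr_right e)
  cent := by
    intro M hM
    refine scalar_of_comm_kr hk h2 ?_ ?_
    · rintro A (rfl | rfl)
      · exact hM _ (Or.inl rfl)
      · exact hM _ (Or.inr (Or.inl rfl))
    · rintro A (rfl | rfl)
      · exact hM _ (Or.inr (Or.inr (Or.inl rfl)))
      · exact hM _ (Or.inr (Or.inr (Or.inr rfl)))

end Cfsg.Agent.OddCentral
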