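import Cfsg.Agent.Lib.Classical.OrthSpinor
import Cfsg.Agent.Lib.Classical.OrthGenApps

/-! Special isometries of order two in dimension at most four, and a square root of a product of two
reflections. -/

set_option autoImplicit false
set_option quotPrecheck false

namespace Cfsg.Agent.OddCentral

open Matrix Cfsg.Agent.Classical.OrthAut

variable {F : Type*} [Field F] [Fintype F] {ι κ : Type} [Fintype ι] [DecidableEq ι]
  [Fintype κ] [DecidableEq κ] {Q : QuadraticForm F (ι → F)}

local notation "B" => QuadraticMap.polar ⇑Q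
local notation "OG" => isometryGroup F ⇑Q

omit [Fintype F] in
theorem quad_elim_right {R : QuadraticForm F (κ → F)} (v : κ → F) :
    sumQ Q R (Sum.elim 0 v) = R v := by
  rw [sumQ_apply]; simp

omit [Fintype F] in
theorem embR_refl {R : QuadraticForm F (κ → F)} {v : κ → F} (hv : R v ≠ 0) :
    embR Q R (refl hv) =
      refl (Q := sumQ Q R) (v := Sum.elim 0 v) (by rwa [quad_elim_right]) := by
  refine ogVal_ext (Matrix.ext_iff_mulVec.2 fun x => ?_)
  rw [embR_val, refl_apply, quad_elim_right, polar_sumQ, Matrix.fromBlocks_mulVec]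
  simp only [Sum.elim_comp_inl, Sum.elim_comp_inr, Matrix.zero_mulVec, add_zero, zero_add,
    Matrix.one_mulVec, QuadraticMap.polar_zero_left, refl_apply]
  funext i
  rcases i with i | i <;> simp

variable (h2 : (2 : F) ≠ 0) (hQ : (QuadraticMap.polarBilin Q).Nondegenerate)
include h2 hQ

/-- An involution other than `1` negates an anisotropic vector. -/
theorem exists_minus_vec {g : OG} (hg : g * g = 1) (h1 : g ≠ 1) :
    ∃ u, ogVal g *ᵥ u = -u ∧ Q u ≠ 0 := by
  classical
  have hgg : ∀ x, ogVal g *ᵥ (ogVal g *ᵥ x) = x := fun x => by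
    rw [Matrix.mulVec_mulVec, ← ogVal_mul, hg, ogVal_one, Matrix.one_mulVec]
  by_contra hcon
  push Not at hcon
  refine h1 (ogVal_ext (Matrix.ext_iff_mulVec.2 fun x => ?_))
  rw [ogVal_one, Matrix.one_mulVec, ← sub_eq_zero]
  set y := ogVal g *ᵥ x - x
  have hy : ogVal g *ᵥ y = -y := by
    rw [Matrix.mulVec_sub, hgg, neg_sub]
  refine eq_zero_of_polar hQ fun z => ?_
  set w := ogVal g *ᵥ z - z
  have hw : ogVal g *ᵥ w = -w := by
    rw [Matrix.mulVec_sub, hgg, neg_sub]
  have h0 : B y w = 0 := by
    rw [QuadraticMap.polar, hcon _ (by rw [Matrix.mulVec_add, hy, hw, neg_add]), hcon _ hy, hcon _ hw]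
    simp
  have h3 : B y (ogVal g *ᵥ z) = -B y z := by
    have := isometry_polar (Q := Q) (ogVal_quad g) y z
    rw [hy, QuadraticMap.polar_neg_left] at this
    linear_combination -this
  rw [show w = ogVal g *ᵥ z - z from rfl, QuadraticMap.polar_sub_right, h3] at h0
  have : (2 : F) * B y z = 0 := by linear_combination -h0
  exact (mul_eq_zero.1 this).resolve_left h2

theorem refl_step {g : OG} (hg : g * g = 1) {u : ι → F} (hu : ogVal g *ᵥ u = -u) (hq : Q u ≠ 0) :
    (refl hq * g) * (refl hq * g) = 1 ∧ ogVal (refl hq * g) *ᵥ u = u ∧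
      Module.finrank F (fixSub (refl hq * g)) = Module.finrank F (fixSub g) + 1 := by
  have hne : Q (ogVal g *ᵥ u) ≠ 0 := by rwa [ogVal_quad]
  have hcomm : g * refl hq = refl hq * g := by
    have := refl_conj g hq hne
    rw [← refl_congr hq hne (c := (-1 : F)) (by rw [hu, neg_one_smul]), mul_inv_eq_iff_eq_mul] at this
    exact this
  refine ⟨?_, ?_, ?_⟩
  · rw [mul_assoc, ← mul_assoc g, hcomm, mul_assoc, hg, mul_one, refl_mul_self]
  · rw [ogVal_mul, ← Matrix.mulVec_mulVec, hu, Matrix.mulVec_neg, refl_apply, polar_self2]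
    rw [show (Q u)⁻¹ * (2 * Q u) = (2 : F) by field_simp]
    rw [two_smul]; abel
  · rcases finrank_fixSub_refl_mul hQ g hq with ⟨-, h⟩ | h
    · exact h
    exfalso
    have hle : fixSub g ≤ fixSub (refl hq * g) := by
      intro z hz
      have hz' := mem_fixSub.1 hz
      have h0 := polar_move_fix g ((-(2 : F)⁻¹) • u) hz
      rw [moveLin_apply, Matrix.mulVec_smul, hu,
        show (-(2 : F)⁻¹) • -u - (-(2 : F)⁻¹) • u = u by
          match_scalars; field_simp; ring] at h0
      rw [mem_fixSub, ogVal_mul, ← Matrix.mulVec_mulVec, hz', refl_apply, h0, mul_zero, zero_smul,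
        sub_zero]
    have := Submodule.finrank_mono hle
    omega

omit h2 in
theorem eq_one_of_finrank {g : OG} (h : Module.finrank F (fixSub g) = Fintype.card ι) : g = 1 := by
  have := Submodule.eq_top_of_finrank_eq (S := fixSub g) (by rw [h, Module.finrank_pi])
  refine ogVal_ext (Matrix.ext_iff_mulVec.2 fun x => ?_)
  rw [ogVal_one, Matrix.one_mulVec]
  exact mem_fixSub.1 (this ▸ Submodule.mem_top)

/-- In dimension at most four a special involution other than `±1` is a product of two orthogonal
reflections. -/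
theorem exists_two_refl_of_invol {g : OG} (hg : g * g = 1) (hdet : (ogVal g).det = 1)
    (hcard : Fintype.card ι ≤ 4) (h1 : g ≠ 1) (hm1 : ogVal g ≠ -1) :
    ∃ (u v : ι → F) (hu : Q u ≠ 0) (hv : Q v ≠ 0), B u v = 0 ∧ g = refl hu * refl hv := by
  classical
  have hd : dick g = 1 := by
    rcases Int.units_eq_one_or (dick g) with e | e
    · exact e
    · exfalso
      rw [det_eq_dick_gen hQ (genQ_odd hQ h2) g, e] at hdet
      simp at hdet
      exact h2 (by linear_combination -hdet)
  have hd' := hd
  set d := Module.finrank F (fixSub g) with hdef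
  have heven : Even (Fintype.card ι + d) := by
    rcases Nat.even_or_odd (Fintype.card ι + d) with h | h
    · exact h
    · exfalso
      rw [dick, ← hdef, h.neg_one_pow] at hd
      exact absurd hd (by decide)
  have hle : d ≤ Fintype.card ι := by
    have := (fixSub g).finrank_le
    rwa [Module.finrank_pi] at this
  have hlt : d ≠ Fintype.card ι := fun h => h1 (eq_one_of_finrank hQ h)
  have hpos : d ≠ 0 := by
    intro h
    rw [hdef, Submodule.finrank_eq_zero] at h
    refine hm1 (Matrix.ext_iff_mulVec.2 fun x => ?_)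
    rw [Matrix.neg_mulVec, Matrix.one_mulVec, eq_neg_iff_add_eq_zero, ← Submodule.mem_bot F, ← h,
      mem_fixSub, Matrix.mulVec_add, Matrix.mulVec_mulVec, ← ogVal_mul, hg, ogVal_one,
      Matrix.one_mulVec, add_comm]
  have htwo : d + 2 = Fintype.card ι := by
    rw [Nat.even_iff] at heven
    omega
  obtain ⟨u, hu, hqu⟩ := exists_minus_vec h2 hQ hg h1
  obtain ⟨hg1, hu1, hd1⟩ := refl_step h2 hQ hg hu hqu
  set g1 := refl hqu * g
  have hg1ne : g1 ≠ 1 := fun e => by
    have := dick_refl_mul hQ g hqu
    rw [show refl hqu * g = g1 from rfl, e, dick_one, hd'] at this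
    exact absurd this (by decide)
  obtain ⟨v, hv, hqv⟩ := exists_minus_vec h2 hQ hg1 hg1ne
  obtain ⟨hg2, -, hd2⟩ := refl_step h2 hQ hg1 hv hqv
  have e2 : refl hqv * g1 = 1 := eq_one_of_finrank hQ (by rw [hd2, hd1]; omega)
  have e1 : g1 = refl hqv := by
    calc g1 = refl hqv * refl hqv * g1 := by rw [refl_mul_self, one_mul]
      _ = refl hqv := by rw [mul_assoc, e2, mul_one]
  refine ⟨u, v, hqu, hqv, ?_, ?_⟩
  · have := isometry_polar (Q := Q) (ogVal_quad g1) u v
    rw [hu1, hv, QuadraticMap.polar_neg_right] at this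
    have : (2 : F) * B u v = 0 := by linear_combination -this
    exact (mul_eq_zero.1 this).resolve_left h2
  · rw [← e1, ← mul_assoc, refl_mul_self, one_mul]

/-- A square root of a product of two orthogonal reflections of the same value. -/
theorem rot_sq {u v : ι → F} (hu : Q u ≠ 0) (hv : Q v ≠ 0) (huv : B u v = 0) (he : Q v = Q u) :
    ∃ (hw : Q (u + v) ≠ 0), (refl hu * refl hw) * (refl hu * refl hw) = refl hu * refl hv ∧
      Q (u + v) = 2 * Q u := by
  have hs : Q (u + v) = 2 * Q u := by rw [quad_add, huv, he]; ring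
  have hw : Q (u + v) ≠ 0 := by rw [hs]; exact mul_ne_zero h2 hu
  refine ⟨hw, ?_, hs⟩
  have hne : Q (ogVal (refl hw) *ᵥ u) ≠ 0 := by rwa [ogVal_quad]
  have himg : ogVal (refl hw) *ᵥ u = (-1 : F) • v := by
    rw [refl_apply, hs, QuadraticMap.polar_add_left, polar_self2, QuadraticMap.polar_comm _ v u, huv,
      add_zero, show (2 * Q u)⁻¹ * (2 * Q u) = 1 by field_simp]
    simp
  have hc := refl_conj (refl hw) hu hne
  rw [← refl_congr hv hne himg, inv_eq_of_mul_eq_one_right (refl_mul_self hw)] at hc
  calc refl hu * refl hw * (refl hu * refl hw) = refl hu * (refl hw * refl hu * refl hw) := by group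
    _ = refl hu * refl hv := by rw [hc]

end Cfsg.Agent.OddCentral
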