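import Cfsg.Agent.Lib.Fus.OddCentral.OrthBlock
import Cfsg.Agent.Lib.Fus.OddCentral.OrthRefl

/-! The orthogonal sum of hyperbolic blocks and a remainder: the block isometries lie in `Ω`, and
there is an involutory isometry of a block with non-square spinor norm. -/

set_option autoImplicit false

namespace Cfsg.Agent.OddCentral

open Matrix Cfsg.Agent.Classical.OrthAut
open Cfsg.Agent.Lie.Chev (upSL loSL wSL wSL_val slHom_ext)
open scoped MatrixGroups

variable {F : Type*} [Field F] {m : ℕ} {R : Type} [Fintype R] [DecidableEq R]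
  {QR : QuadraticForm F (R → F)}

variable (F m) in
/-- The sum of `m` hyperbolic blocks. -/
noncomputable def qBlk : QuadraticForm F (Fin 4 × Fin m → F) :=
  ∑ i : Fin m, (QuadraticMap.linMulLin (LinearMap.proj (0, i)) (LinearMap.proj (3, i)) +
    QuadraticMap.linMulLin (LinearMap.proj (1, i)) (LinearMap.proj (2, i)))

theorem qBlk_apply (v : Fin 4 × Fin m → F) : qBlk F m v = ∑ i, q4 fun a => v (a, i) := by
  simp [qBlk, q4]

/-- A vector supported on one block. -/
def atBlock (i : Fin m) (p : Fin 4 → F) : Fin 4 × Fin m → F :=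
  fun x => if x.2 = i then p x.1 else 0

theorem qBlk_atBlock (i : Fin m) (p : Fin 4 → F) : qBlk F m (atBlock i p) = q4 p := by
  rw [qBlk_apply, Finset.sum_eq_single i (fun j _ hj => by simp [atBlock, q4, hj]) (by simp)]
  simp [atBlock]

theorem polar_qBlk_atBlock (i : Fin m) (p : Fin 4 → F) (x : Fin 4 × Fin m → F) :
    QuadraticMap.polar ⇑(qBlk F m) (atBlock i p) x =
      QuadraticMap.polar q4 p (fun a => x (a, i)) := by
  simp only [QuadraticMap.polar, qBlk_apply, ← Finset.sum_sub_distrib]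
  rw [Finset.sum_eq_single i ?_ (by simp)]
  · simp [atBlock]; rfl
  · intro j _ hj; simp [atBlock, q4, hj]

theorem blockDiagonal_mulVec_apply (M : Fin m → Matrix (Fin 4) (Fin 4) F)
    (x : Fin 4 × Fin m → F) (c : Fin 4) (j : Fin m) :
    (blockDiagonal M *ᵥ x) (c, j) = (M j *ᵥ fun a => x (a, j)) c := by
  simp only [Matrix.mulVec, dotProduct, Fintype.sum_prod_type]
  refine Finset.sum_congr rfl fun d _ => ?_
  rw [Finset.sum_eq_single j (fun k _ hk => by simp [blockDiagonal_apply, Ne.symm hk]) (by simp)]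
  simp [blockDiagonal_apply]

/-- The reflection inside a block. -/
def refl4 (p : Fin 4 → F) : Matrix (Fin 4) (Fin 4) F :=
  of fun c d => (1 : Matrix (Fin 4) (Fin 4) F) c d -
    (q4 p)⁻¹ * p c * (![p 3, p 2, p 1, p 0] d)

theorem refl4_mulVec (p x : Fin 4 → F) :
    refl4 p *ᵥ x = x - ((q4 p)⁻¹ * QuadraticMap.polar q4 p x) • p := by
  funext c
  fin_cases c <;>
    simp [refl4, Matrix.mulVec, dotProduct, Fin.sum_univ_four, Matrix.one_apply, QuadraticMap.polar, q4]
      <;> ring

theorem refl_atBlock_val (i : Fin m) {p : Fin 4 → F} (hp : qBlk F m (atBlock i p) ≠ 0) :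
    ogVal (refl hp) = blockDiagonal (Pi.mulSingle i (refl4 p)) := by
  refine Matrix.ext_iff_mulVec.2 fun x => ?_
  funext ⟨c, j⟩
  rw [refl_apply, blockDiagonal_mulVec_apply, polar_qBlk_atBlock, qBlk_atBlock]
  by_cases hj : j = i
  · subst hj
    rw [Pi.mulSingle_eq_same, refl4_mulVec]
    simp [atBlock]
  · simp [atBlock, hj]

theorem refl4_mul_refl4 {α β : F} (hn : α * α + β * β ≠ 0) :
    refl4 ![1, 0, 0, 1] * refl4 ![α, β, -β, -α] =
      (-(α * α + β * β))⁻¹ • kr !![α, β; β, -α] !![α, β; β, -α] := by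
  ext c d
  have hq : q4 ![α, β, -β, -α] = -(α * α + β * β) := by simp [q4]; ring
  have hq1 : q4 ![(1 : F), 0, 0, 1] = 1 := by simp [q4]
  simp only [refl4, Matrix.mul_apply, of_apply, hq, hq1]
  generalize hN : -(α * α + β * β) = N
  have hN0 : N ≠ 0 := by rw [← hN]; exact neg_ne_zero.2 hn
  fin_cases c <;> fin_cases d <;>
    simp [kr, sgn4, e22, finProdFinEquiv, Fin.divNat, Fin.modNat,
      Fin.sum_univ_four, Matrix.one_apply] <;> field_simp <;>
    first | ring1 | linear_combination hN | linear_combination -hN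

section Iso

variable (QR)

/-- The block isometries. -/
noncomputable def blockIso :
    (Fin m → SL(2, F) × SL(2, F)) →* isometryGroup F ⇑(sumQ (qBlk F m) QR) :=
  MonoidHom.codRestrict ((blkGL (R := R)).comp (phi4.compLeft (Fin m))) _ fun f => by
    refine Cfsg.Agent.Classical.mem_isometryGroup.2 fun v => ?_
    show sumQ (qBlk F m) QR (fromBlocks (blockDiagonal fun i => (phi4 (f i)).1) 0 0 1 *ᵥ v) = _
    rw [sumQ_apply, sumQ_apply, Matrix.fromBlocks_mulVec, qBlk_apply, qBlk_apply]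
    simp only [Matrix.zero_mulVec, add_zero, zero_add, Matrix.one_mulVec, Sum.elim_comp_inl,
      Sum.elim_comp_inr, blockDiagonal_mulVec_apply]
    congr 1
    exact Finset.sum_congr rfl fun i _ => q4_phi4 _ _

theorem blockIso_val (f : Fin m → SL(2, F) × SL(2, F)) :
    ogVal (blockIso QR f) = fromBlocks (blockDiagonal fun i => (phi4 (f i)).1) 0 0 1 := rfl

variable [Fintype F]

omit [Fintype F] in
/-- A homomorphism from `SL(2, F)` to a group of exponent two is trivial. -/
theorem slHom_trivial {M : Type*} [Group M] (h2 : (2 : F) ≠ 0) (hM : ∀ x : M, x * x = 1)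
    (ψ : SL(2, F) →* M) : ψ = 1 := by
  refine slHom_ext (fun t => ?_) (fun t => ?_)
  · have e : upSL t = upSL (t / 2) * upSL (t / 2) := by
      refine Cfsg.Agent.Lie.Chev.ext_two ?_ ?_ ?_ ?_ <;>
        simp [Cfsg.Agent.Lie.Chev.mul_val, Cfsg.Agent.Lie.Chev.upSL_val, Matrix.mul_apply, Fin.sum_univ_two] <;> field_simp <;> ring
    rw [e, map_mul, hM, MonoidHom.one_apply]
  · have e : loSL t = loSL (t / 2) * loSL (t / 2) := by
      refine Cfsg.Agent.Lie.Chev.ext_two ?_ ?_ ?_ ?_ <;>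
        simp [Cfsg.Agent.Lie.Chev.mul_val, Cfsg.Agent.Lie.Chev.loSL_val, Matrix.mul_apply, Fin.sum_univ_two] <;> field_simp <;> ring
    rw [e, map_mul, hM, MonoidHom.one_apply]

theorem blockIso_mem_omega (h2 : (2 : F) ≠ 0)
    (hQ : (QuadraticMap.polarBilin (sumQ (qBlk F m) QR)).Nondegenerate)
    (f : Fin m → SL(2, F) × SL(2, F)) : blockIso QR f ∈ Omega F ⇑(sumQ (qBlk F m) QR) := by
  set hG := genQ_odd hQ h2
  rw [omega_eq_ker hQ hG, MonoidHom.mem_ker]
  set ψ := (invHom hQ hG).comp (blockIso QR)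
  have hM : ∀ x : ℤˣ × ℤˣ, x * x = 1 := fun x =>
    Prod.ext (Int.units_mul_self x.1) (Int.units_mul_self x.2)
  have h : ψ = 1 := by
    refine MonoidHom.pi_ext fun i p => ?_
    have e : p = MonoidHom.inl SL(2, F) SL(2, F) p.1 * MonoidHom.inr SL(2, F) SL(2, F) p.2 := by
      simp
    rw [e, Pi.mulSingle_mul, map_mul]
    have e1 := DFunLike.congr_fun (slHom_trivial h2 hM
      ((ψ.comp (MonoidHom.mulSingle _ i)).comp (MonoidHom.inl SL(2, F) SL(2, F)))) p.1
    have e2 := DFunLike.congr_fun (slHom_trivial h2 hM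
      ((ψ.comp (MonoidHom.mulSingle _ i)).comp (MonoidHom.inr SL(2, F) SL(2, F)))) p.2
    simp only [MonoidHom.comp_apply, MonoidHom.mulSingle_apply, MonoidHom.one_apply] at e1 e2
    rw [e1, e2, one_mul, MonoidHom.one_apply]
  exact DFunLike.congr_fun h f

/-- The isometry of a block. -/
theorem exists_twist (h2 : (2 : F) ≠ 0)
    (hQ : (QuadraticMap.polarBilin (sumQ (qBlk F m) QR)).Nondegenerate) (i : Fin m) :
    ∃ (τ : isometryGroup F ⇑(sumQ (qBlk F m) QR)) (T : GL (Fin 4) F),
      ogVal τ = fromBlocks (blockDiagonal (Pi.mulSingle i T.1)) 0 0 1 ∧ T * T = 1 ∧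
      T * phi4 (wSL, 1) * T⁻¹ = (phi4 (wSL, 1))⁻¹ ∧ dick τ = 1 ∧ spin τ = -1 := by
  classical
  have hodd : Fintype.card F % 2 = 1 := by
    refine FiniteField.odd_card_of_char_ne_two fun hc => h2 ?_
    haveI := ringChar.of_eq hc
    exact CharTwo.two_eq_zero
  obtain ⟨ε, hε⟩ := FiniteField.exists_nonsquare (F := F)
    (fun hc => h2 (by haveI := ringChar.of_eq hc; exact CharTwo.two_eq_zero))
  obtain ⟨α, β, hαβ⟩ : ∃ α β : F, α * α + β * β = -ε := by
    obtain ⟨x, y, h⟩ := FiniteField.exists_root_sum_quadratic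
      (f := (Polynomial.X ^ 2 : Polynomial F)) (g := Polynomial.X ^ 2 - Polynomial.C (-ε))
      (Polynomial.degree_X_pow 2) (Polynomial.degree_X_pow_sub_C (by norm_num) _) hodd
    simp at h
    exact ⟨x, y, by linear_combination h⟩
  have hε0 : ε ≠ 0 := fun e => hε (e ▸ IsSquare.zero)
  have hn : α * α + β * β ≠ 0 := by rw [hαβ]; exact neg_ne_zero.2 hε0
  set j : Matrix (Fin 2) (Fin 2) F := !![α, β; β, -α] with hj
  set T : Matrix (Fin 4) (Fin 4) F := (-(α * α + β * β))⁻¹ • kr j j with hT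
  have hjj : j * j = (α * α + β * β) • 1 := by
    ext a b; fin_cases a <;> fin_cases b <;> simp [hj] <;> ring
  have hTT : T * T = 1 := by
    rw [hT, Matrix.smul_mul, Matrix.mul_smul, kr_mul, hjj, kr_smul_left, kr_smul_right, kr_one,
      smul_smul, smul_smul, smul_smul]
    convert one_smul F (1 : Matrix (Fin 4) (Fin 4) F) using 2
    have hn' : α ^ 2 + β ^ 2 ≠ 0 := by simpa [pow_two] using hn
    field_simp
  have hTw : T * kr (wSL : SL(2, F)).1 1 * T = kr (-(wSL : SL(2, F)).1) 1 := by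
    have hjw : j * (wSL : SL(2, F)).1 * j = (α * α + β * β) • -(wSL : SL(2, F)).1 := by
      ext a b; fin_cases a <;> fin_cases b <;> simp [hj, wSL_val] <;> ring
    rw [hT, Matrix.smul_mul, Matrix.smul_mul, Matrix.mul_smul, kr_mul, kr_mul, mul_one, hjj, hjw,
      kr_smul_left (A := -_), kr_smul_left, kr_smul_right, kr_one, smul_smul, smul_smul] at *
    simp only [hαβ]
    match_scalars
    field_simp
  have hp : qBlk F m (atBlock i ![1, 0, 0, 1]) ≠ 0 := by simp [qBlk_atBlock, q4]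
  have hp' : qBlk F m (atBlock i ![α, β, -β, -α]) ≠ 0 := by
    rw [qBlk_atBlock]
    simp only [q4]
    simp
    intro e
    exact hn (by linear_combination -e)
  refine ⟨embL (qBlk F m) QR (Cfsg.Agent.Classical.OrthAut.refl hp * Cfsg.Agent.Classical.OrthAut.refl hp'), ⟨T, T, hTT, hTT⟩, ?_, Units.ext hTT, ?_, ?_, ?_⟩
  · rw [embL_val, ogVal_mul, refl_atBlock_val, refl_atBlock_val, ← blockDiagonal_mul]
    congr 2
    funext k
    rw [← Pi.mul_apply, ← Pi.mulSingle_mul, refl4_mul_refl4 hn]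
  · refine Units.ext ?_
    show T * kr (wSL : SL(2, F)).1 1 * T = kr ((wSL : SL(2, F))⁻¹).1 ((1 : SL(2, F))⁻¹).1
    rw [hTw, inv_one, Matrix.SpecialLinearGroup.coe_one, ← Matrix.SpecialLinearGroup.coe_neg]
    rw [inv_eq_of_mul_eq_one_right (a := (wSL : SL(2, F))) (b := -wSL) (by rw [mul_neg, wSL_mul_self, neg_neg])]
  · rw [map_mul, embL_refl, embL_refl, dick_refl_mul hQ, dick_refl hQ, neg_neg]
  · rw [map_mul, embL_refl, embL_refl, spin_mul hQ, spin_refl hQ, spin_refl hQ, quad_elim_left,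
      quad_elim_left, qBlk_atBlock, qBlk_atBlock]
    simp only [q4]
    simp
    rw [sqSign_of_isSquare IsSquare.one, one_mul, sqSign_of_not]
    rwa [show -(α * α) + -(β * β) = ε by linear_combination -hαβ]

end Iso

end Cfsg.Agent.OddCentral
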