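import Cfsg.Agent.Lib.Fus.OddCentral.OrthForm
import Cfsg.Agent.Lib.Classical.OrthPOmegaCard

/-! Central involutions of Sylow 2-subgroups of `PΩ` of a sum of hyperbolic blocks and a remainder
of dimension at most four are in the subgroup of squares. -/

set_option autoImplicit false

namespace Cfsg.Agent.OddCentral

open Matrix Cfsg.Agent.Classical.OrthAut
open Cfsg.Agent.Lie.Chev (upSL loSL wSL wSL_val slHom_ext)
open scoped MatrixGroups

variable {F : Type*} [Field F] [Fintype F] {p : ℕ} {m : ℕ} {R : Type} [Fintype R] [DecidableEq R]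
  {QR : QuadraticForm F (R → F)}

omit [Fintype F] in
theorem pow_four_of_sq_sq {G : Type*} [Group G] {y w : G} (e : y * y = w) (hw : w * w = 1) :
    y ^ 2 ^ 2 = 1 := by
  rw [show (2 : ℕ) ^ 2 = 2 * 2 from rfl, pow_mul, pow_two, pow_two, e, hw]

omit [Fintype F] in
theorem isPGroup_zpowers {G : Type*} [Group G] {y : G} (h : y ^ 2 ^ 2 = 1) :
    IsPGroup 2 (Subgroup.zpowers y) := by
  rintro ⟨x, k, rfl⟩
  refine ⟨2, Subtype.ext ?_⟩
  show (y ^ k) ^ (2 ^ 2 : ℕ) = 1
  rw [← zpow_natCast, ← _root_.zpow_mul, mul_comm, _root_.zpow_mul, zpow_natCast, h,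
    _root_.one_zpow]

local notation "Qb" => sumQ (qBlk F m) QR
local notation "OG" => isometryGroup F ⇑Qb
local notation "Om" => Omega F ⇑Qb

/-- The orthogonal groups in block form. -/
theorem good_orth_model [Fact p.Prime] [CharP F p] (hp : p ≠ 2) (hm : 1 ≤ m)
    (hbig : 2 ≤ m ∨ Nonempty R) (hR : Fintype.card R ≤ 4)
    (hQ : (QuadraticMap.polarBilin Qb).Nondegenerate)
    (hQR : (QuadraticMap.polarBilin QR).Nondegenerate)
    (hZ : ∀ z ∈ Subgroup.center Om, ∃ c : F, omVal z = c • 1) :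
    Good (POmega F ⇑Qb) := by
  classical
  obtain ⟨a₀, b₀, hab, k, hk⟩ := exists_params (F := F) (p := p)
  have h2 := two_ne_zero_of_charP (F := F) hp
  set S := orthBlockSys hk h2
  haveI : Finite Om := Subtype.finite
  let ρ : Om →* GL ((Fin 4 × Fin m) ⊕ R) F := (isometryGroup F ⇑Qb).subtype.comp (Om).subtype
  have hρ : Function.Injective ρ := Subtype.val_injective.comp Subtype.val_injective
  have hblk : ∀ f : Fin m → S.H, blkGL (fun i => (f i : GL (Fin 4) F)) ∈ ρ.range := by
    intro f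
    choose g hg using fun i => (f i).2
    refine ⟨⟨blockIso QR g, blockIso_mem_omega QR h2 hQ g⟩, ?_⟩
    show blkGL (fun i => phi4 (g i)) = _
    congr 1
    funext i
    exact (hg i).2
  refine good_of_witness _ (isPGroup_blocks S ρ hρ) fun z hz hzc => ?_
  obtain ⟨x, rfl, μ, a, X, hX, hμ⟩ := exists_lift_scalar S h2 hbig ρ hZ hblk hz fun f g hg => by
    refine (Commute.symm (show Commute _ z from hzc _ ⟨g, ?_, rfl⟩))
    show ρ g ∈ (blkGL.comp ((S.H.subtype).compLeft (Fin m))).range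
    exact ⟨f, hg.symm⟩
  replace hX : ogVal (x : OG) = fromBlocks (blockDiagonal fun i => a i • (1 : Matrix (Fin 4) (Fin 4) F)) 0 0 X := hX
  replace hμ : ogVal (x : OG) * ogVal (x : OG) = μ • 1 := hμ
  -- the coefficients are signs
  have ha : ∀ i, a i * a i = 1 := by
    intro i
    have h := ogVal_quad (x : OG) (Sum.elim (atBlock i ![1, 0, 0, 1]) 0)
    rw [hX, Matrix.fromBlocks_mulVec] at h
    simp only [Sum.elim_comp_inl, Sum.elim_comp_inr, Matrix.zero_mulVec, add_zero, zero_add,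
      Matrix.mulVec_zero] at h
    have e : (blockDiagonal fun i => a i • (1 : Matrix (Fin 4) (Fin 4) F)) *ᵥ
        atBlock i ![1, 0, 0, 1] = a i • atBlock i ![1, 0, 0, 1] := by
      funext ⟨c, j⟩
      rw [blockDiagonal_mulVec_apply, Matrix.smul_mulVec, Matrix.one_mulVec]
      by_cases hj : j = i
      · subst hj; rfl
      · simp [atBlock, hj]
    rw [e, quad_elim_left, quad_elim_left, QuadraticMap.map_smul, qBlk_atBlock] at h
    simpa [q4] using h
  have hsign : ∀ i, a i = 1 ∨ a i = -1 := fun i => mul_self_eq_one_iff.1 (ha i)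
  have hμX : μ = 1 ∧ X * X = 1 := by
    have h := hμ
    rw [hX, fromBlocks_multiply, ← fromBlocks_one, fromBlocks_smul, fromBlocks_inj] at h
    obtain ⟨e1, -, -, e4⟩ := h
    simp only [Matrix.mul_zero, add_zero, zero_add] at e1 e4
    rw [← blockDiagonal_mul] at e1
    have := congrFun (congrFun e1 (0, ⟨0, hm⟩)) (0, ⟨0, hm⟩)
    simp [blockDiagonal_apply, ha] at this
    exact ⟨this.symm, by rw [e4, ← this, one_smul]⟩
  obtain ⟨-, hXX⟩ := hμX
  -- `X` as an isometry
  have hXu : X.det ≠ 0 := fun e => by simpa [e] using congrArg Matrix.det hXX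
  have hXp : ∀ r, QR (X *ᵥ r) = QR r := by
    intro r
    have h := ogVal_quad (x : OG) (Sum.elim 0 r)
    rw [hX, Matrix.fromBlocks_mulVec] at h
    simp only [Sum.elim_comp_inl, Sum.elim_comp_inr, Matrix.zero_mulVec, add_zero, zero_add,
      Matrix.mulVec_zero] at h
    rwa [quad_elim_right, quad_elim_right] at h
  set X' : isometryGroup F ⇑QR := Cfsg.Agent.Classical.mkIsometry X hXu hXp
  have hX' : ogVal X' = X := rfl
  have hX'2 : X' * X' = 1 := ogVal_ext (by rw [ogVal_mul, hX', hXX, ogVal_one])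
  -- square roots on the blocks
  let sel : F → (Fin m → SL(2, F) × SL(2, F)) := fun c i => if a i = c then 1 else (wSL, 1)
  have hw2 : (phi4 ((wSL : SL(2, F)), 1)).1 * (phi4 ((wSL : SL(2, F)), 1)).1 = -1 :=
    kr_left_sq wSL_mul_self
  have hsel : ∀ c : F, c = 1 ∨ c = -1 → ∀ i,
      (phi4 (sel c i)).1 * (phi4 (sel c i)).1 = (a i * c) • (1 : Matrix (Fin 4) (Fin 4) F) := by
    intro c hc i
    simp only [sel]
    split_ifs with h
    · rw [map_one, Units.val_one, one_mul, h]
      rcases hc with rfl | rfl <;> simp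
    · rw [hw2]
      rcases hc with rfl | rfl
      · rw [(hsign i).resolve_left h]; simp
      · rw [(hsign i).resolve_right h]; simp
  have hdiag : ∀ c : F, c = 1 ∨ c = -1 → ogVal (blockIso QR (sel c) * blockIso QR (sel c)) =
      fromBlocks (blockDiagonal fun i => (a i * c) • (1 : Matrix (Fin 4) (Fin 4) F)) 0 0 1 := by
    intro c hc
    rw [ogVal_mul, blockIso_val, fromBlocks_multiply]
    simp only [Matrix.mul_zero, Matrix.zero_mul, add_zero, zero_add, Matrix.mul_one,
      ← blockDiagonal_mul]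
    congr 2
    funext i
    exact hsel c hc i
  set y := blockIso QR (sel 1) with hy
  set W := embR (qBlk F m) QR X'
  have hxW : (x : OG) = y * y * W := by
    refine ogVal_ext ?_
    rw [hX, ogVal_mul, hdiag 1 (Or.inl rfl), embR_val, hX', fromBlocks_multiply]
    simp
  have hWΩ : W ∈ Om := by
    have := mul_mem (inv_mem (mul_mem (blockIso_mem_omega QR h2 hQ (sel 1))
      (blockIso_mem_omega QR h2 hQ (sel 1)))) x.2
    rwa [← hy, hxW, inv_mul_cancel_left] at this
  have hWd := (mem_omega_gen hQ (genQ_odd hQ h2) W).1 hWΩ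
  have hdetX : X.det = 1 := by
    have h := det_eq_dick_gen hQ (genQ_odd hQ h2) W
    rw [hWd.1, embR_val, Matrix.det_fromBlocks_zero₁₂, Matrix.det_one, one_mul, hX'] at h
    simpa using h
  by_cases hX1 : X = 1
  · refine witness_sq (y := QuotientGroup.mk ⟨y, blockIso_mem_omega QR h2 hQ _⟩) hz ?_
    rw [← QuotientGroup.mk_mul]
    refine congrArg _ (Subtype.ext ?_)
    show y * y = (x : OG)
    rw [hxW, show W = 1 from ogVal_ext (by rw [embR_val, hX', hX1, ogVal_one, fromBlocks_one]), mul_one]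
  by_cases hXm : X = -1
  · refine witness_sq (y := QuotientGroup.mk ⟨blockIso QR (sel (-1)), blockIso_mem_omega QR h2 hQ _⟩)
      hz ?_
    set y' : Om := ⟨blockIso QR (sel (-1)), blockIso_mem_omega QR h2 hQ _⟩
    rw [← QuotientGroup.mk_mul, QuotientGroup.eq, Subgroup.mem_center_iff]
    have hv : ogVal (x : OG) = ogVal (((y' * y' : Om)) : OG) * (-1) := by
      rw [hX, Subgroup.coe_mul, hdiag (-1) (Or.inr rfl), mul_neg, mul_one, fromBlocks_neg]
      simp [hXm, ← blockDiagonal_neg, Pi.neg_def]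
    have hn : omVal ((y' * y')⁻¹ * x) = -1 := by
      rw [omVal_mul, show omVal x = ogVal (x : OG) from rfl, hv, ← mul_assoc,
        show ogVal ((y' * y' : Om) : OG) = omVal (y' * y') from rfl, ← omVal_mul, inv_mul_cancel]
      exact one_mul _
    intro g
    refine omVal_ext ?_
    rw [omVal_mul, omVal_mul, omVal_mul, omVal_mul] at *
    rw [hn, mul_neg, mul_one, neg_mul, one_mul]
  obtain ⟨u, v, hu, hv, huv, hXr⟩ := exists_two_refl_of_invol h2 hQR hX'2 (by rw [hX']; exact hdetX) hR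
    (fun e => hX1 (by rw [← hX', e, ogVal_one])) (by rw [hX']; exact hXm)
  have hsp : sqSign (QR u) = sqSign (QR v) := by
    have h := hWd.2
    rw [show W = embR (qBlk F m) QR X' from rfl, hXr, map_mul, embR_refl, embR_refl, spin_mul hQ,
      spin_refl hQ, spin_refl hQ, quad_elim_right, quad_elim_right] at h
    rw [← mul_inv_eq_one, Int.units_inv_eq_self]
    exact h
  obtain ⟨c, hc⟩ := isSquare_div_of_sqSign hsp
  have hcv : QR (c • v) = QR u := by
    rw [QuadraticMap.map_smul, smul_eq_mul, ← hc, div_mul_cancel₀ _ hv]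
  have hv' : QR (c • v) ≠ 0 := by rw [hcv]; exact hu
  rw [Cfsg.Agent.Classical.OrthAut.refl_congr hv hv' rfl] at hXr
  obtain ⟨hw, hrot, hQw⟩ := rot_sq h2 hQR hu hv'
    (by rw [QuadraticMap.polar_smul_right, huv, smul_zero]) hcv
  set rot := Cfsg.Agent.Classical.OrthAut.refl hu * Cfsg.Agent.Classical.OrthAut.refl hw
  rw [← hXr] at hrot
  set R' := embR (qBlk F m) QR rot
  have hR'2 : R' * R' = W := by rw [← map_mul, hrot]
  have hR'd : dick R' = 1 ∧ spin R' = sqSign (2 : F) := by
    simp only [R', rot, map_mul, embR_refl]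
    refine ⟨by rw [dick_refl_mul hQ, dick_refl hQ, neg_neg], ?_⟩
    rw [spin_mul hQ, spin_refl hQ, spin_refl hQ, quad_elim_right, quad_elim_right, hQw,
      sqSign_mul h2 hu, mul_left_comm, Int.units_mul_self, mul_one]
  set i₀ : Fin m := ⟨0, hm⟩
  set Lw : SL(2, F) × SL(2, F) := (wSL, 1) with hLw
  obtain ⟨τ, T, hτ, hT2, hTi, hτd, hτs⟩ : ∃ (τ : OG) (T : GL (Fin 4) F),
      ogVal τ = fromBlocks (blockDiagonal (Pi.mulSingle i₀ T.1)) 0 0 1 ∧ T * T = 1 ∧
      (T * phi4 Lw * T⁻¹ = phi4 Lw ∨ T * phi4 Lw * T⁻¹ = (phi4 Lw)⁻¹) ∧ dick τ = 1 ∧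
      spin τ = sqSign (2 : F) := by
    rcases Int.units_eq_one_or (sqSign (2 : F)) with e | e
    · refine ⟨1, 1, ?_, one_mul 1, Or.inl (by simp), dick_one, ?_⟩
      · rw [ogVal_one, Units.val_one, Pi.mulSingle_one, blockDiagonal_one, fromBlocks_one]
      · rw [e, ← spinHom_apply hQ, map_one]
    · obtain ⟨τ, T, e1, e2, e3, e4, e5⟩ := exists_twist QR h2 hQ i₀
      exact ⟨τ, T, e1, e2, Or.inr e3, e4, by rw [e5, e]⟩
  set Y := τ * R'
  have hYΩ : Y ∈ Om := by
    rw [mem_omega_gen hQ (genQ_odd hQ h2)]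
    refine ⟨?_, ?_⟩
    · show dickGen hQ (genQ_odd hQ h2) (τ * R') = 1
      rw [map_mul]
      show dick τ * dick R' = 1
      rw [hτd, hR'd.1, one_mul]
    · rw [spin_mul hQ, hτs, hR'd.2, Int.units_mul_self]
  have hYv : ogVal Y = fromBlocks (blockDiagonal (Pi.mulSingle i₀ T.1)) 0 0 (ogVal rot) := by
    rw [ogVal_mul, hτ, embR_val, fromBlocks_multiply]
    simp
  have hY2 : Y * Y = W := by
    refine ogVal_ext ?_
    rw [ogVal_mul, hYv, fromBlocks_multiply, embR_val, ← ogVal_mul, hrot]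
    simp only [Matrix.mul_zero, Matrix.zero_mul, add_zero, zero_add, ← blockDiagonal_mul]
    rw [← blockDiagonal_one (m := Fin 4) (o := Fin m)]
    congr 2
    rw [← Pi.mul_def, ← Pi.mulSingle_mul, ← Units.val_mul, hT2, Units.val_one, Pi.mulSingle_one]
  let ι₀ : (Fin m → Subgroup.zpowers Lw) →* OG :=
    (blockIso QR).comp ((Subgroup.zpowers Lw).subtype.compLeft (Fin m))
  set K := ι₀.range
  have hL4 : Lw ^ 2 ^ 2 = 1 := pow_four_of_sq_sq (w := (-1, 1))
    (by simp [hLw, wSL_mul_self]) (by simp)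
  have hKp : IsPGroup 2 K :=
    IsPGroup.of_surjective (isPGroup_pi fun _ : Fin m => isPGroup_zpowers hL4) _
      (MonoidHom.rangeRestrict_surjective _)
  have hW2 : W * W = 1 := by rw [← map_mul, hX'2, map_one]
  have hnorm : Subgroup.zpowers Y ≤ Subgroup.normalizer (K : Set OG) := by
    have hfwd : ∀ s ∈ K, Y * s * Y⁻¹ ∈ K := by
      rintro _ ⟨g, rfl⟩
      have hpow : ∀ l : Subgroup.zpowers Lw, ∃ l' : Subgroup.zpowers Lw,
          T * phi4 l.1 * T⁻¹ = phi4 l'.1 := by
        rintro ⟨_, n, rfl⟩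
        rcases hTi with e | e
        · refine ⟨⟨Lw ^ n, n, rfl⟩, ?_⟩
          rw [map_zpow, ← conj_zpow, e]
        · refine ⟨⟨Lw ^ (-n), -n, rfl⟩, ?_⟩
          rw [map_zpow, map_zpow, ← conj_zpow, e, _root_.inv_zpow']
      obtain ⟨l', hl'⟩ := hpow (g i₀)
      refine ⟨Function.update g i₀ l', eq_mul_inv_of_mul_eq (ogVal_ext ?_)⟩
      show ogVal _ * ogVal Y = ogVal Y * ogVal _
      rw [hYv]
      show fromBlocks (blockDiagonal fun i => (phi4 (Function.update g i₀ l' i).1).1) 0 0 1 * _ =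
        _ * fromBlocks (blockDiagonal fun i => (phi4 (g i).1).1) 0 0 1
      rw [fromBlocks_multiply, fromBlocks_multiply]
      simp only [Matrix.mul_zero, Matrix.zero_mul, add_zero, zero_add, Matrix.mul_one, Matrix.one_mul,
        ← blockDiagonal_mul]
      congr 2
      funext i
      by_cases hi : i = i₀
      · subst hi
        rw [Function.update_self, Pi.mulSingle_eq_same, ← Units.val_mul, ← Units.val_mul,
          ← mul_inv_eq_iff_eq_mul.1 hl']
      · rw [Function.update_of_ne hi, Pi.mulSingle_eq_of_ne hi, mul_one, one_mul]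
    refine Subgroup.zpowers_le.2 ?_
    refine Subgroup.mem_normalizer_iff.2 fun s => ⟨hfwd s, fun hs => ?_⟩
    have hY4 : Y * Y * (Y * Y) = 1 := by rw [hY2, hW2]
    have := hfwd _ (hfwd _ (hfwd _ hs))
    have e : Y * (Y * (Y * (Y * s * Y⁻¹) * Y⁻¹) * Y⁻¹) * Y⁻¹ = (Y * Y * (Y * Y)) * s * (Y * Y * (Y * Y))⁻¹ := by
      group
    rw [e, hY4] at this
    simpa using this
  let π : Om →* POmega F ⇑Qb := QuotientGroup.mk' _
  set P₀ := K ⊔ Subgroup.zpowers Y
  have hP₀ : IsPGroup 2 P₀ :=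
    hKp.to_sup_of_normal_left' (isPGroup_zpowers (pow_four_of_sq_sq hY2 hW2)) hnorm
  have hsel1 : y ∈ K := by
    refine ⟨fun i => if a i = 1 then 1 else ⟨Lw, Subgroup.mem_zpowers Lw⟩, ?_⟩
    show blockIso QR _ = blockIso QR (sel 1)
    congr 1
    funext i
    simp only [sel, MonoidHom.compLeft_apply, Function.comp_apply, Subgroup.coe_subtype]
    split_ifs <;> rfl
  have hxc : ∀ s ∈ P₀, Commute (x : OG) s := by
    have h : P₀ ≤ Subgroup.centralizer {(x : OG)} := by
      refine sup_le ?_ (Subgroup.zpowers_le.2 ?_)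
      · rintro _ ⟨g, rfl⟩
        rw [Subgroup.mem_centralizer_singleton_iff]
        refine ogVal_ext ?_
        rw [ogVal_mul, ogVal_mul, hX]
        show fromBlocks (blockDiagonal fun i => (phi4 (g i).1).1) 0 0 1 * _ =
          _ * fromBlocks (blockDiagonal fun i => (phi4 (g i).1).1) 0 0 1
        rw [fromBlocks_multiply, fromBlocks_multiply]
        simp [← blockDiagonal_mul]
      · rw [Subgroup.mem_centralizer_singleton_iff]
        refine ogVal_ext ?_
        show ogVal Y * ogVal (x : OG) = ogVal (x : OG) * ogVal Y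
        rw [hX, hYv, fromBlocks_multiply, fromBlocks_multiply]
        have hcom : ogVal rot * X = X * ogVal rot := by
          have hr : rot * X' = X' * rot := by rw [← hrot]; exact (mul_assoc rot rot rot).symm
          exact congrArg ogVal hr
        simp [← blockDiagonal_mul, hcom]
    exact fun s hs => (Subgroup.mem_centralizer_singleton_iff.1 (h hs)).symm
  refine ⟨(P₀.comap (Om).subtype).map π, IsPGroup.map
    (hP₀.comap_of_injective _ Subtype.val_injective) _, ?_, ?_⟩
  · rintro _ ⟨s, hs, rfl⟩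
    show π s * π x = π x * π s
    rw [← map_mul, ← map_mul]
    exact congrArg π (Subtype.ext (hxc _ hs).eq.symm)
  · have e : π x = π ⟨y, blockIso_mem_omega QR h2 hQ _⟩ * π ⟨y, blockIso_mem_omega QR h2 hQ _⟩ *
        (π ⟨Y, hYΩ⟩ * π ⟨Y, hYΩ⟩) := by
      rw [← map_mul, ← map_mul, ← map_mul]
      refine congrArg π (Subtype.ext ?_)
      show (x : OG) = y * y * (Y * Y)
      rw [hxW, hY2]
    show π x ∈ _
    rw [e]
    exact mul_mem (mul_self_mem_sqGen (Subgroup.mem_map_of_mem π (show y ∈ P₀ from Subgroup.mem_sup_left hsel1)))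
      (mul_self_mem_sqGen (Subgroup.mem_map_of_mem π
        (show Y ∈ P₀ from Subgroup.mem_sup_right (Subgroup.mem_zpowers Y))))

end Cfsg.Agent.OddCentral
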